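import Cfsg.Agent.ConwayType.Normal

/-!
Normal forms of involutions in a group of Conway type.
-/

set_option autoImplicit false
set_option maxRecDepth 100000
set_option maxHeartbeats 1000000
set_option linter.unusedSectionVars false
set_option linter.style.haveILetI false

namespace Cfsg.Lib.ConwayType

open Subgroup Cfsg.Lib.ConwayType.Code
open Cfsg.Lib.LargeExtra (X2 mem_map_conj mem_conj_of_mem mem_zpowers_two)
open scoped commutatorElement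

universe u

variable {G : Type u} [Group G] [Finite G] {z : G}

namespace Pt

variable (p : Pt z)

/-- Moving an involution of the centralizer outside `Q` into the product of the two parts. -/
theorem normal_form {y : G} (hy : Commute y z) (hyy : y * y = 1) {h : O8} (hh : h ∈ Om) {w : ℕ} (hw : w ∈ W)
    (hw0 : w ≠ 0) (heq : h * p.toCtx.m y * h⁻¹ = rhoE w hw) :
    ∃ d q r, Commute d z ∧ p.A q ∧ p.R r ∧ d * y * d⁻¹ = q * r ∧ p.β r = w := by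
  have he : ∀ x < 256, cd (h * p.toCtx.m y * h⁻¹) x = rho w x := fun x hx => by rw [heq, cd_rhoE hw hx]
  obtain ⟨d, hd, rfl⟩ := p.toCtx.m_surj hh
  obtain ⟨r, hr, hb⟩ := p.β_surj hw
  have hyd : Commute (d * y * d⁻¹) z := (hd.mul_left hy).mul_left hd.inv_left
  have hm : p.toCtx.m (d * y * d⁻¹) = p.toCtx.m r := cd_ext fun x hx => by
    rw [p.toCtx.m_mul (hd.mul_left hy) hd.inv_left, p.toCtx.m_mul hd hy, p.toCtx.m_inv hd, he x hx, p.m_rho hr x hx, hb]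
  set y' := d * y * d⁻¹ with hy'
  have hq : y' * r⁻¹ ∈ p.Q := (p.toCtx.m_one_iff (hyd.mul_left hr.2.inv_left)).mp (by
    rw [p.toCtx.m_mul hyd hr.2.inv_left, p.toCtx.m_inv hr.2, hm, mul_inv_cancel])
  have hb0 : p.β r ≠ 0 := by rw [hb]; exact hw0
  refine ⟨d, y' * r⁻¹, r, hd, p.A_of_perp hq ?_, hr, (inv_mul_cancel_right y' r).symm, hb⟩
  set q := y' * r⁻¹ with hqdef
  have hy2 : y' * y' = 1 := by
    rw [hy', show d * y * d⁻¹ * (d * y * d⁻¹) = d * (y * y) * d⁻¹ by group, hyy, mul_one, mul_inv_cancel]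
  have e1 : r * q * r⁻¹ = q⁻¹ * (r * r)⁻¹ := by
    have h3 : q * r * (q * r) = 1 := by rw [hqdef, inv_mul_cancel_right]; exact hy2
    calc r * q * r⁻¹ = q⁻¹ * (q * r * (q * r)) * (r * r)⁻¹ := by group
      _ = _ := by rw [h3, mul_one]
  have hrr : (r * r)⁻¹ ∈ p.Q := inv_mem (p.E_A (p.sq_zse' hr).1).1
  have e2 := congrArg p.π e1
  rw [p.toCtx.act hr.2 hq, p.m_rho hr _ (p.π_lt q), p.π_mul _ (inv_mem hq) _ hrr, p.toCtx.pi_inv hq,
    p.se_code (p.E_inv (p.sq_zse' hr).1)] at e2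
  refine rho_fix _ (p.β_mem r) _ (p.π_lt q) hb0 ?_
  rw [e2, Nat.xor_comm (p.π q), Nat.xor_assoc, Nat.xor_self, Nat.xor_zero]
  cases p.se (r * r)⁻¹ <;> decide

/-- Products over an orbit of pairs form one class under the pair centralizer. -/
theorem pair_conj {q r q0 r0 : G} (hq : p.A q) (hr : p.R r) (hq0 : p.A q0) (hr0 : p.R r0) {h : O8} (hh : h ∈ Om)
    (h1 : cd h 1 = 1) (ea : sa h (p.α q0) = p.α q) (eb : sa h (p.β r0) = p.β r) (ha : p.α q ≠ 0) (hb : p.β r ≠ 0)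
    (hab : p.α q ≠ p.β r) : ∃ x, p.T x ∧ x * (q0 * r0) * x⁻¹ = q * r := by
  obtain ⟨t, ht, rfl⟩ := p.T_lift hh h1
  obtain ⟨q1, hq1⟩ : ∃ v, v = t * q0 * t⁻¹ := ⟨_, rfl⟩
  obtain ⟨r1, hr1⟩ : ∃ v, v = t * r0 * t⁻¹ := ⟨_, rfl⟩
  have A1 : p.A q1 := hq1 ▸ p.A_norm ht hq0
  have R1 : p.R r1 := hr1 ▸ p.R_norm ht hr0
  have e1 : p.α q1 = p.α q := by rw [hq1, p.α_conj ht hq0, ea]
  have e2 : p.β r1 = p.β r := by rw [hr1, p.β_conj ht hr0, eb]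
  have hE1 : p.InE (q1⁻¹ * q) := p.α_zero (p.A_mul (p.A_inv A1) hq) (by
    rw [p.α_mul (p.A_inv A1) hq, p.α_inv A1, e1, Nat.xor_self])
  have hE2 := p.R_fibre R1 hr e2
  have hee := p.E_cases hE1 _ hE2
  set e := q1⁻¹ * q * (r1⁻¹ * r) with hedef
  have eqn : q * r = q1 * r1 * e := by
    calc q * r = q1 * (q1⁻¹ * q) * (r1 * (r1⁻¹ * r)) := by group
      _ = q1 * ((q1⁻¹ * q) * r1) * (r1⁻¹ * r) := by group
      _ = q1 * (r1 * (q1⁻¹ * q)) * (r1⁻¹ * r) := by rw [(p.E_central hE1 (p.R_T R1)).eq]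
      _ = _ := by rw [hedef]; group
  obtain ⟨v, hv, va, vb⟩ := pair_partner _ (p.α_mem q) _ (p.β_mem r) ha hb hab (p.ze e ^^ p.se e) (p.se e)
  obtain ⟨x, hx, hxa⟩ := p.α_surj hv
  have hxq : p.InE (x * q1 * x⁻¹ * q1⁻¹) := by
    have hcm := p.A_mul (p.A_mul (p.A_mul hx A1) (p.A_inv hx)) (p.A_inv A1)
    refine p.α_zero hcm ?_
    rw [p.α_mul (p.A_mul (p.A_mul hx A1) (p.A_inv hx)) (p.A_inv A1), p.α_mul (p.A_mul hx A1) (p.A_inv hx),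
      p.α_mul hx A1, p.α_inv hx, p.α_inv A1, Nat.xor_comm (p.α x), Nat.xor_assoc (p.α q1), Nat.xor_self,
      Nat.xor_zero, Nat.xor_self]
  obtain ⟨⟨z0, t0⟩, ⟨z2, t2⟩, -, -⟩ := p.zse
  have hzq : p.ze (x * q1 * x⁻¹ * q1⁻¹) = pB v (p.α q) ∧ p.se (x * q1 * x⁻¹ * q1⁻¹) = false := by
    have hc := p.α_comm hx A1
    rw [hxa, e1] at hc
    cases hp : pB v (p.α q)
    · rw [(hc.mpr hp).eq, mul_inv_cancel_right, mul_inv_cancel]; exact ⟨z0, t0⟩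
    · have hn : ¬ Commute x q1 := fun h => by rw [hc.mp h] at hp; exact Bool.false_ne_true hp
      rw [p.X.not_commute_conj hx.1 A1.1 hn, mul_inv_cancel_right]; exact ⟨z2, t2⟩
  have hcr := p.cab_ze hx R1
  have hcr' := p.cab_se hx R1
  rw [hxa, e2] at hcr hcr'
  have hprod : x * (q1 * r1) * x⁻¹ = q1 * r1 * ((x * q1 * x⁻¹ * q1⁻¹) * cab x r1) := by
    have c1 := p.E_central hxq (p.T_mul (p.A_T A1) (p.R_T R1))
    have c2 := p.E_central (p.cab_E hx R1) (p.R_T R1)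
    calc x * (q1 * r1) * x⁻¹ = (x * q1 * x⁻¹ * q1⁻¹) * (q1 * (cab x r1 * r1)) := by simp only [cab]; group
      _ = (x * q1 * x⁻¹ * q1⁻¹) * (q1 * r1) * cab x r1 := by rw [← c2.eq]; group
      _ = _ := by rw [← c1.eq]; group
  have he : (x * q1 * x⁻¹ * q1⁻¹) * cab x r1 = e := by
    refine p.eq_of_zse (p.E_cases hxq _ (p.cab_E hx R1)) hee ?_ ?_
    · rw [(p.mul_zse hxq (p.cab_E hx R1)).1, hzq.1, hcr, va, vb]
      cases p.ze e <;> cases p.se e <;> rfl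
    · rw [(p.mul_zse hxq (p.cab_E hx R1)).2, hzq.2, hcr', vb]
      cases p.se e <;> rfl
  refine ⟨x * t, p.T_mul (p.A_T hx) ht, ?_⟩
  rw [show x * t * (q0 * r0) * (x * t)⁻¹ = x * ((t * q0 * t⁻¹) * (t * r0 * t⁻¹)) * x⁻¹ by group, ← hq1, ← hr1, hprod,
    he, ← eqn]

/-- Products with equal vectors are in the class of the distinguished involution. -/
theorem same_vector {q r : G} (hq : p.A q) (hr : p.R r) (h : p.α q = p.β r) (hb : p.β r ≠ 0)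
    (h2 : q * r * (q * r) = 1) : IsConj z (q * r) := by
  obtain ⟨x, hx, hxπ⟩ := p.π_surj 16 (by norm_num)
  obtain ⟨hn, hp⟩ := shift_nr _ (p.β_mem r) 16 (by norm_num) (by decide)
  obtain ⟨q1, hq1⟩ : ∃ v, v = x * (r * x⁻¹ * r⁻¹) := ⟨_, rfl⟩
  have hq1Q : q1 ∈ p.Q := hq1 ▸ mul_mem hx (p.toCtx.norm hr.2 (inv_mem hx))
  have hπ : p.π q1 = 16 ^^^ rho (p.β r) 16 := by
    rw [hq1, p.π_mul x hx _ (p.toCtx.norm hr.2 (inv_mem hx)), p.toCtx.act hr.2 (inv_mem hx), p.toCtx.pi_inv hx,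
      p.m_rho hr _ (p.π_lt x), hxπ]
  have A1 : p.A q1 := p.A_of_perp hq1Q (by rw [hπ]; exact hp)
  have a1 : p.α q1 = p.β r := by rw [α, hπ]; exact hn
  have hE : p.InE (q * q1⁻¹) := p.α_zero (p.A_mul hq (p.A_inv A1)) (by
    rw [p.α_mul hq (p.A_inv A1), p.α_inv A1, a1, h, Nat.xor_self])
  set e' := q * q1⁻¹ with he'
  have eqn : x⁻¹ * (q * r) * x = (x⁻¹ * e' * x) * r := by rw [he', hq1]; group
  have hEx : p.InE (x⁻¹ * e' * x) := by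
    by_cases hc : Commute x⁻¹ e'
    · rwa [show x⁻¹ * e' * x = x⁻¹ * e' * x⁻¹⁻¹ by group, hc.eq, mul_inv_cancel_right]
    · rw [show x⁻¹ * e' * x = x⁻¹ * e' * x⁻¹⁻¹ by group, p.X.not_commute_conj (inv_mem hx) (p.E_A hE).1 hc]
      exact p.E_cases (Or.inr (Or.inl rfl)) _ hE
  have hR := p.R_mul (p.E_R hEx) hr
  refine IsConj.trans (p.R_invol hR ?_ ?_) ?_
  · rw [← eqn, show x⁻¹ * (q * r) * x * (x⁻¹ * (q * r) * x) = x⁻¹ * (q * r * (q * r)) * x by group, h2]; group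
  · rw [p.β_mul (p.E_R hEx) hr, p.β_E hEx, Nat.zero_xor]; exact hb
  · exact isConj_iff.mpr ⟨x, by rw [← eqn]; group⟩

/-- An anisotropic product. -/
def IsTT (q r : G) : Prop := p.A q ∧ p.R r ∧ qB (p.α q) = true ∧ qB (p.β r) = true ∧ pB (p.α q) (p.β r) = true

/-- A totally singular product. -/
def IsTI (q r : G) : Prop := p.A q ∧ p.R r ∧ qB (p.α q) = false ∧ qB (p.β r) = false ∧ pB (p.α q) (p.β r) = false ∧
  p.α q ≠ 0 ∧ p.β r ≠ 0 ∧ p.α q ≠ p.β r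

theorem exists_tt : ∃ q r, p.A q ∧ p.R r ∧ p.α q = 34 ∧ p.β r = 100 := by
  obtain ⟨q, hq, e⟩ := p.α_surj (w := 34) (by decide)
  obtain ⟨r, hr, e'⟩ := p.β_surj (w := 100) (by decide)
  exact ⟨q, r, hq, hr, e, e'⟩

theorem exists_ti : ∃ q r, p.A q ∧ p.R r ∧ p.α q = 2 ∧ p.β r = 4 := by
  obtain ⟨q, hq, e⟩ := p.α_surj (w := 2) (by decide)
  obtain ⟨r, hr, e'⟩ := p.β_surj (w := 4) (by decide)
  exact ⟨q, r, hq, hr, e, e'⟩

theorem tt_move {q r q0 r0 : G} (h : p.IsTT q r) (hq0 : p.A q0) (hr0 : p.R r0) (a0 : p.α q0 = 34)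
    (b0 : p.β r0 = 100) : ∃ x, p.T x ∧ x * (q0 * r0) * x⁻¹ = q * r := by
  obtain ⟨hq, hr, ha, hb, hab⟩ := h
  obtain ⟨k, hk, k1, ea, eb⟩ := trans_tt (p.α_mem q) (p.β_mem r) ha hb hab
  refine p.pair_conj hq hr hq0 hr0 hk k1 (by rw [a0, ea]) (by rw [b0, eb]) (fun e => ?_) (fun e => ?_) (fun e => ?_)
  · rw [e] at ha; exact absurd ha (by decide)
  · rw [e] at hb; exact absurd hb (by decide)
  · rw [e, pB_self] at hab; exact Bool.false_ne_true hab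

theorem ti_move {q r q0 r0 : G} (h : p.IsTI q r) (hq0 : p.A q0) (hr0 : p.R r0) (a0 : p.α q0 = 2)
    (b0 : p.β r0 = 4) : ∃ x, p.T x ∧ x * (q0 * r0) * x⁻¹ = q * r := by
  obtain ⟨hq, hr, ha, hb, hab, ha0, hb0, hne⟩ := h
  obtain ⟨k, hk, k1, ea, eb⟩ := trans_ti (p.α_mem q) (p.β_mem r) ha hb ha0 hb0 hne hab
  exact p.pair_conj hq hr hq0 hr0 hk k1 (by rw [a0, ea]) (by rw [b0, eb]) ha0 hb0 hne

/-- Involutions acting as radical elements. -/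
theorem radical_class {y : G} (hy : Commute y z) (hyy : y * y = 1) {h : O8} (hh : h ∈ Om) {w : ℕ} (hw : w ∈ W)
    (hw0 : w ≠ 0) (heq : h * p.toCtx.m y * h⁻¹ = rhoE w hw) :
    (qB w = false ∧ IsConj z y) ∨ (∃ q r, p.IsTT q r ∧ qB w = true ∧ IsConj (q * r) y) ∨
      (∃ q r, p.IsTI q r ∧ qB w = false ∧ IsConj (q * r) y) := by
  obtain ⟨d, q, r, hd, hq, hr, e, hb⟩ := p.normal_form hy hyy hh hw hw0 heq
  have hcj : IsConj (q * r) y := isConj_iff.mpr ⟨d⁻¹, by rw [← e]; group⟩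
  have h2 : q * r * (q * r) = 1 := by
    rw [← e, show d * y * d⁻¹ * (d * y * d⁻¹) = d * (y * y) * d⁻¹ by group, hyy, mul_one, mul_inv_cancel]
  obtain ⟨s1, s2⟩ := (p.prod_sq hq hr).mp h2
  have hb0 : p.β r ≠ 0 := by rw [hb]; exact hw0
  rcases sing_pair _ (p.α_mem q) _ (p.β_mem r) hb0 s1 s2 with h | ⟨h, hs⟩ | ⟨n0, nb, ha, hbq, hab⟩ | ⟨ha, hbq, hab⟩
  · have hR := p.R_mul (p.E_R (p.α_zero hq h)) hr
    have hz : pB (p.α q) (p.β r) = false := by rw [h, pB_zero]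
    refine Or.inl ⟨by rw [← hb, s2, hz], IsConj.trans (p.R_invol hR h2 ?_) hcj⟩
    rw [p.β_mul (p.E_R (p.α_zero hq h)) hr, p.β_E (p.α_zero hq h), Nat.zero_xor]
    exact hb0
  · exact Or.inl ⟨hb ▸ hs, (p.same_vector hq hr h hb0 h2).trans hcj⟩
  · exact Or.inr (Or.inr ⟨q, r, ⟨hq, hr, ha, hbq, hab, n0, hb0, nb⟩, hb ▸ hbq, hcj⟩)
  · exact Or.inr (Or.inl ⟨q, r, ⟨hq, hr, ha, hbq, hab⟩, hb ▸ hbq, hcj⟩)

theorem tt_class {q r q0 r0 : G} (h : p.IsTT q r) (hq0 : p.A q0) (hr0 : p.R r0) (a0 : p.α q0 = 34)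
    (b0 : p.β r0 = 100) : IsConj (q0 * r0) (q * r) := by
  obtain ⟨x, -, e⟩ := p.tt_move h hq0 hr0 a0 b0
  exact isConj_iff.mpr ⟨x, e⟩

theorem ti_class {q r q0 r0 : G} (h : p.IsTI q r) (hq0 : p.A q0) (hr0 : p.R r0) (a0 : p.α q0 = 2)
    (b0 : p.β r0 = 4) : IsConj (q0 * r0) (q * r) := by
  obtain ⟨x, -, e⟩ := p.ti_move h hq0 hr0 a0 b0
  exact isConj_iff.mpr ⟨x, e⟩

/-- Every involution of the centralizer lies in one of three classes. -/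
theorem central_involutions {y : G} (hy : Commute y z) (hyy : y * y = 1) (hy1 : y ≠ 1) {q1 r1 q2 r2 : G}
    (hq1 : p.A q1) (hr1 : p.R r1) (a1 : p.α q1 = 34) (b1 : p.β r1 = 100) (hq2 : p.A q2) (hr2 : p.R r2)
    (a2 : p.α q2 = 2) (b2 : p.β r2 = 4) : IsConj z y ∨ IsConj (q1 * r1) y ∨ IsConj (q2 * r2) y := by
  obtain ⟨y', hy', hyy', hcj, hc⟩ := p.to_radical hy hyy
  rcases hc with hQ | ⟨h, hh, w, hw, hw0, heq⟩
  · refine Or.inl ((p.Q_invol hQ hyy' fun e => hy1 ?_).trans hcj.symm)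
    obtain ⟨c, hc'⟩ := isConj_iff.mp hcj
    rw [e] at hc'
    exact conj_eq_one_iff.mp hc'
  · rcases p.radical_class hy' hyy' hh hw hw0 heq with ⟨-, h'⟩ | ⟨q, r, hqr, -, h'⟩ | ⟨q, r, hqr, -, h'⟩
    · exact Or.inl (h'.trans hcj.symm)
    · exact Or.inr (Or.inl (((p.tt_class hqr hq1 hr1 a1 b1).trans h').trans hcj.symm))
    · exact Or.inr (Or.inr (((p.ti_class hqr hq2 hr2 a2 b2).trans h').trans hcj.symm))

end Pt

end Cfsg.Lib.ConwayType
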