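import Cfsg.Agent.Classical.OrthH1.Basic

/-!
Coded computations in the hyperbolic quadratic space of dimension eight over the field with two elements: the
stabiliser of a singular point, its radical and its action on the section.
-/

set_option autoImplicit false
set_option maxRecDepth 100000
set_option maxHeartbeats 2000000

namespace Cfsg.Lib.ConwayType.Code

open Cfsg.Lib.Classical.OrthH1 (pN sN)

/-- The coded form. -/
def qB (x : ℕ) : Bool :=
  (x.testBit 0 && x.testBit 4) ^^ (x.testBit 1 && x.testBit 5) ^^ (x.testBit 2 && x.testBit 6) ^^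
    (x.testBit 3 && x.testBit 7)

/-- The coded polar form. -/
abbrev pB : ℕ → ℕ → Bool := pN qB

/-- The representative in the section. -/
def nr (x : ℕ) : ℕ := x &&& 238

/-- The section. -/
def W : List ℕ := [0, 2, 4, 6, 8, 10, 12, 14, 32, 34, 36, 38, 40, 42, 44, 46, 64, 66, 68, 70, 72, 74, 76, 78, 96, 98, 100, 102, 104, 106, 108, 110, 128, 130, 132, 134, 136, 138, 140, 142, 160, 162, 164, 166, 168, 170, 172, 174, 192, 194, 196, 198, 200, 202, 204, 206, 224, 226, 228, 230, 232, 234, 236, 238]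

/-- The radical element of a vector of the section. -/
def rho (w x : ℕ) : ℕ := sN qB 1 w x

/-- The action of a word in Siegel maps. -/
def wact (gs : List (ℕ × ℕ)) (w : List ℕ) (x : ℕ) : ℕ :=
  w.foldr (fun i y => sN qB (gs.getD i (0, 0)).1 (gs.getD i (0, 0)).2 y) x

/-- Siegel pairs of the group. -/
def g1 : List (ℕ × ℕ) := [(65, 223), (171, 253), (157, 60), (7, 179), (150, 71)]

/-- Siegel pairs inside the stabiliser of the point with code one. -/
def g2 : List (ℕ × ℕ) := [(72, 99), (175, 71), (132, 77), (9, 75)]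

/-- Words moving the point to every singular point. -/
def w135 : List (ℕ × List ℕ) := [(1, []), (2, [3, 0, 2, 3]), (3, [0, 1, 3, 2]), (4, [0, 2, 4, 2]), (5, [0, 2, 3]), (6, [3]), (7, [4, 0]), (8, [4, 0, 3]), (9, [1, 0, 3, 1]), (10, [4, 2, 4, 2]), (11, [1, 2]), (12, [3, 1, 2]), (13, [4, 2, 3]), (14, [0, 4, 3]), (15, [0, 4]), (16, [2, 0, 3, 0]), (18, [0, 2, 1, 3]), (20, [3, 2]), (22, [1, 4, 1, 4, 0]), (24, [4, 0, 3, 1]), (26, [1, 4, 2]), (28, [4, 2, 1, 3]), (30, [3, 1]), (32, [4, 2, 1, 4, 0]), (33, [1, 4, 1, 2, 0]), (36, [1, 0, 3]), (37, [0, 1, 4, 0]), (40, [2, 3, 2]), (41, [2, 4, 3, 0]), (44, [0, 3, 0]), (45, [3, 0, 4, 0]), (48, [4, 2, 0]), (51, [0, 2, 4]), (52, [2, 4, 0, 3]), (55, [4, 0, 3, 4, 2]), (56, [0, 4, 2]), (59, [2, 4, 0]), (60, [4, 1]), (63, [3, 0, 4, 2]), (64, [0]), (65, [4, 3, 4]), (66, [1, 3, 2]), (67, [2, 3, 0, 3]), (72, [1, 3, 1]), (73, [1, 4, 3, 0]), (74, [1, 2, 0]), (75, [4, 3, 1, 2]), (80, [1, 3]), (82, [4, 2,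 3, 1]), (85, [1, 0, 1, 3, 2]), (87, [3, 1, 3]), (88, [1, 3, 0]), (90, [1, 3, 1, 2]), (93, [4, 1, 4, 2]), (95, [0, 3, 1]), (96, [2, 1, 4, 1]), (97, [4, 1, 2, 1, 4]), (102, [1, 2, 1, 3]), (103, [2, 1, 4, 0]), (104, [0, 2, 4, 3, 0]), (105, [1, 2, 0, 3, 1]), (110, [1, 0, 4, 2]), (111, [2, 0, 1, 3]), (112, [4, 2, 1, 4]), (115, [0, 4, 1, 4]), (117, [3, 1, 4, 1]), (118, [3, 2, 0, 3, 1]), (120, [2, 0, 3]), (123, [1, 4]), (125, [3, 0, 1, 3]), (126, [2, 1, 3, 2]), (128, [0, 1, 4, 1]), (129, [4, 1, 3]), (130, [2, 4, 2, 3, 2]), (131, [2, 3, 1]), (132, [0, 1, 4, 2]), (133, [1, 2, 0, 3]), (134, [3, 4, 1, 3]), (135, [0, 1, 3, 0]), (144, [4, 3]), (146, [0, 3, 1, 2]), (148, [2, 1, 0, 3, 1]), (150, [0, 3, 4]), (153, [0, 4, 0]), (155, [2, 3]), (157, [0, 4, 1, 2, 0]), (159, [3, 0, 3, 0]), (160, [2]), (161, [0, 3, 4, 2]), (164, [0, 1, 4]), (165, [0, 2, 4, 0]), (170, [1]), (171, [4, 2, 4]), (174, [0, 4, 2, 0]), (175, [2, 0, 4, 3]), (176, [1, 2, 1, 4]),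 (179, [0, 3, 0, 4, 0]), (180, [4, 3, 0]), (183, [0, 3, 1, 3, 2]), (185, [0, 1, 2, 1, 3]), (186, [1, 2, 4]), (189, [4, 1, 4, 0]), (190, [4, 2, 3, 2]), (192, [1, 0, 3, 4]), (193, [1, 4, 1]), (194, [2, 0, 3, 1]), (195, [3, 4, 2, 1, 4]), (204, [3, 2, 0, 3]), (205, [2, 1, 3]), (206, [0, 1, 3]), (207, [4, 3, 1]), (208, [4]), (210, [0, 4, 2, 3]), (213, [2, 1, 3, 1]), (215, [3, 4]), (217, [0, 3]), (219, [2, 4, 2]), (220, [4, 1, 2, 0]), (222, [3, 0, 3]), (224, [3, 4, 2]), (225, [2, 0]), (230, [2, 1, 4]), (231, [4, 2]), (234, [4, 2, 4, 0]), (235, [1, 0]), (236, [2, 4]), (237, [4, 1, 4]), (240, [1, 4, 2, 3]), (243, [3, 0]), (245, [4, 1, 0, 3]), (246, [3, 1, 3, 2]), (249, [3, 1, 2, 0]), (250, [1, 4, 0]), (252, [3, 1, 3, 1]), (255, [3, 4, 3, 1, 2])]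

/-- Words moving a singular vector of the section to all of them. -/
def w35 : List (ℕ × List ℕ) := [(2, []), (4, [3, 1, 0]), (6, [1, 2, 1, 0]), (8, [2, 0, 1]), (10, [2, 0, 3, 1]), (12, [1, 0]), (14, [1, 3, 1]), (32, [1, 0, 3, 1, 0]), (36, [2, 3, 1]), (40, [2, 1, 2, 0, 1]), (44, [0, 1, 2, 1, 0]), (64, [2, 1, 0]), (66, [2, 1, 3, 1]), (72, [2, 0, 3, 2, 0]), (74, [0]), (96, [2, 0, 1, 2, 1, 0]), (102, [0, 3, 1, 0]), (104, [1, 2, 3, 1, 0]), (110, [0, 1, 0]), (128, [2, 3, 1, 0]), (130, [3, 0, 1]), (132, [3, 2, 0]), (134, [3, 0, 3, 2, 0]), (160, [3, 1]), (164, [3, 2, 1, 3, 1, 0]), (170, [1, 3, 1, 0]), (174, [2, 0, 3, 1, 0]), (192, [0, 1]), (194, [0, 3, 1]), (204, [0, 3, 2, 0]), (206, [2, 0]), (224, [1, 2, 0, 1]), (230, [2, 1, 3, 1, 0]), (234, [1]), (236, [1, 2, 1, 3, 1])]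

/-- Words moving a nonsingular vector of the section to all of them. -/
def w28 : List (ℕ × List ℕ) := [(34, []), (38, [0, 2, 1]), (42, [3]), (46, [1, 3, 1]), (68, [2, 1]), (70, [0, 1, 3]), (76, [3, 2, 1]), (78, [3, 0, 1, 3]), (98, [2, 1, 3, 1]), (100, [2, 1, 2, 1]), (106, [2, 3, 1, 2, 1]), (108, [1, 3]), (136, [2, 0, 1]), (138, [2, 3, 1]), (140, [1]), (142, [3, 0, 1]), (162, [0, 2, 0, 1]), (166, [0, 3, 1, 2, 1]), (168, [3, 2, 3]), (172, [1, 2, 1]), (196, [0, 1]), (198, [3, 1]), (200, [0, 2, 3]), (202, [3, 2, 0, 1]), (226, [2, 3]), (228, [2, 3, 2, 3]), (232, [0, 2, 3, 1]), (238, [3, 1, 2, 1])]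

/-- Words fixing a singular vector and moving an orthogonal one to all of them. -/
def w18 : List (ℕ × List ℕ) := [(4, []), (6, [2, 0, 3, 0, 2]), (8, [2, 3, 0, 3, 0, 2]), (10, [2, 3, 2]), (12, [3]), (14, [2, 1, 2, 1, 2]), (64, [2, 3]), (66, [1, 2, 1, 2]), (72, [1, 2, 1]), (74, [2, 1, 2, 1, 3]), (128, [2]), (130, [0, 3, 0, 2]), (132, [3, 1, 2, 1, 3]), (134, [3, 2, 1, 2, 1]), (192, [3, 0, 3, 0, 2]), (194, [3, 2]), (204, [2, 1, 2, 1]), (206, [1, 2, 1, 3])]

/-- Words fixing a nonsingular vector and moving a partner to all of them. -/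
def w12 : List (ℕ × List ℕ) := [(70, [3, 0, 3]), (78, [0]), (100, []), (108, [3, 0, 3, 0]), (138, [3, 1, 2, 1, 3, 0]), (142, [2, 3, 0, 3]), (168, [2, 3, 0, 3, 2]), (172, [2]), (198, [3, 2, 1, 2, 3]), (202, [3, 1, 3, 1, 3]), (228, [3, 0, 3, 2]), (232, [1, 3, 0, 3, 1])]

/-- Words fixing a singular vector without a further fixed functional. -/
def wF : List (List ℕ) := [[2], [1, 2, 1, 3]]

theorem g1_ok : ∀ g ∈ g1, g.1 < 256 ∧ g.2 < 256 ∧ qB g.1 = false ∧ pB g.1 g.2 = false := by decide +kernel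

theorem g2_ok : ∀ g ∈ g2, (g.1 < 256 ∧ g.2 < 256 ∧ qB g.1 = false ∧ pB g.1 g.2 = false) ∧
    sN qB g.1 g.2 1 = 1 := by decide +kernel

theorem trans135 : ((List.range 256).all fun x => qB x || x == 0 || w135.any fun t => t.1 == x && wact g1 t.2 1 == x &&
    t.2.all (· < g1.length)) = true := by decide +kernel

theorem trans35 : (W.all fun x => qB x || x == 0 || w35.any fun t => t.1 == x && nr (wact g2 t.2 2) == x &&
    t.2.all (· < g2.length)) = true := by decide +kernel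

theorem trans28 : (W.all fun x => !qB x || w28.any fun t => t.1 == x && nr (wact g2 t.2 34) == x &&
    t.2.all (· < g2.length)) = true := by decide +kernel

theorem trans18 : (W.all fun x => qB x || x == 0 || x == 2 || pB 2 x || w18.any fun t => t.1 == x &&
    nr (wact g2 t.2 2) == 2 && nr (wact g2 t.2 4) == x && t.2.all (· < g2.length)) = true := by decide +kernel

theorem trans12 : (W.all fun x => !qB x || !pB 34 x || w12.any fun t => t.1 == x &&
    nr (wact g2 t.2 34) == 34 && nr (wact g2 t.2 100) == x && t.2.all (· < g2.length)) = true := by decide +kernel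

theorem fixed_functional : (W.all fun c =>
    !(wF.all fun w => W.all fun x => pB c (nr (wact g2 w x)) == pB c x) || c == 0 || c == 2) = true ∧
    (wF.all fun w => nr (wact g2 w 2) == 2 && w.all (· < g2.length)) = true := by
  decide +kernel

/-- Every vector of the section is a sum of two vectors of one orbit or zero. -/
theorem span_orbit (q : Bool) : ∀ v ∈ W, ∃ a ∈ W, ∃ b ∈ W, (a = 0 ∨ qB a = q) ∧ (b = 0 ∨ qB b = q) ∧ a ^^^ b = v := by
  revert q
  decide +kernel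

theorem W_lt : ∀ w ∈ W, w < 256 ∧ pB 1 w = false ∧ nr w = w := by decide +kernel

theorem W_mem_iff : ∀ x < 256, (x ∈ W ↔ nr x = x) := by decide +kernel

theorem nr_mem : ∀ x < 256, nr x ∈ W := by decide +kernel

theorem nr_facts : ∀ x < 256, pB 1 x = false → x ^^^ nr x ≤ 1 ∧ qB (nr x) = qB x := by decide +kernel

theorem low_code : ∀ y < 256, pB 1 y = false → nr y = 0 → y = 0 ∨ y = 1 := by decide +kernel

theorem bits8 : ∀ x < 256, (bif x.testBit 0 then 1 else 0) ^^^ (bif x.testBit 1 then 2 else 0) ^^^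
    (bif x.testBit 2 then 4 else 0) ^^^ (bif x.testBit 3 then 8 else 0) ^^^ (bif x.testBit 4 then 16 else 0) ^^^
    (bif x.testBit 5 then 32 else 0) ^^^ (bif x.testBit 6 then 64 else 0) ^^^ (bif x.testBit 7 then 128 else 0) = x := by
  decide +kernel

theorem rho_facts : ∀ v ∈ W, ∀ y < 256, pB 1 y = true → nr (rho v y) = nr y ^^^ v := by decide +kernel

theorem rho_top : ∀ w ∈ W, rho w 16 = 16 ^^^ w ∨ rho w 16 = 16 ^^^ w ^^^ 1 := by decide +kernel

theorem rho_shift : ∀ w ∈ W, ∀ y < 256, pB 1 y = false → rho w y ^^^ y = bif pB (nr y) w then 1 else 0 := by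
  decide +kernel

theorem rho_fix : ∀ w ∈ W, ∀ y < 256, w ≠ 0 → rho w y ^^^ y ≤ 1 → pB 1 y = false := by decide +kernel

theorem rho_zero : ∀ y < 256, rho 0 y = y := by decide +kernel

theorem rho_invol : ∀ w ∈ W, ∀ y < 256, rho w (rho w y) = y := by decide +kernel

theorem rho_image : ∀ w ∈ W, ∀ y < 256, rho w y ^^^ y ∈ [0, 1, w, w ^^^ 1] := by decide +kernel

theorem rho_two : ∀ y < 256, rho 2 y ^^^ y = (bif pB 1 y then 2 else 0) ^^^ (bif pB 2 y then 1 else 0) := by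
  decide +kernel

theorem rho_ne : ∀ w ∈ W, w ≠ 0 → ∃ y < 256, rho w y ≠ y := by decide +kernel

theorem W_xor : ∀ a ∈ W, ∀ b ∈ W, a ^^^ b ∈ W := by decide +kernel

/-- An isometry trivial on the hyperplane modulo the point is a radical element. -/
theorem rad_check : ((List.range 256).all fun y => qB y || !pB 1 y ||
    [2, 3].all fun a => pB y a || [4, 5].all fun b => pB y b || [8, 9].all fun c => pB y c ||
      [32, 33].all fun d => pB y d || [64, 65].all fun e => pB y e || [128, 129].all fun f => pB y f ||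
        (fun w => rho w 16 == y && rho w 2 == a && rho w 4 == b && rho w 8 == c && rho w 32 == d &&
          rho w 64 == e && rho w 128 == f) (nr y)) = true := by
  decide +kernel

/-- The codes with odd weight. -/
def par : ℕ := 0x6996966996696996966969966996966996696996699696696996966996696996

/-- The polar form on the section by parity. -/
def pW (a b : ℕ) : Bool := par.testBit (a &&& ((b >>> 4) ||| ((b &&& 15) <<< 4)))

theorem pW_eq : (W.all fun a => W.all fun b => pW a b == pB a b) = true := by decide +kernel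

/-- The vectors of a list orthogonal to a vector. -/
def perpL (a : ℕ) (l : List ℕ) : List ℕ := l.filter fun x => !pW a x

/-- An isotropic three-space of the section is its own orthogonal. -/
theorem perp_three : (W.all fun a => a == 0 || (perpL a W).all fun b => b == 0 || b == a ||
    (fun L => L.all fun c => c == 0 || c == a || c == b || c == a ^^^ b ||
      ((L.all fun v => pW c v || v == 0 || v == a || v == b || v == a ^^^ b || v == c || v == a ^^^ c || v == b ^^^ c ||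
        v == a ^^^ b ^^^ c) && L.any fun e => pW c e)) (perpL b (perpL a W))) = true := by
  decide +kernel

/-- The square of a lift is fixed by the pairings. -/
theorem alpha_check : ∀ a ∈ W.filter (fun x => !pB 2 x && !qB x), a ∉ [0, 2] →
    ∀ b ∈ W.filter (fun x => !pB 2 x && !pB a x), b ∉ [0, 2, a, 2 ^^^ a] →
      ∀ v ∈ W, pB v a = false → pB v 2 = false → pB v b = qB b → qB v = false := by
  decide +kernel

theorem pair_partner : ∀ a ∈ W, ∀ b ∈ W, a ≠ 0 → b ≠ 0 → a ≠ b → ∀ u v : Bool, ∃ d ∈ W, pB d a = u ∧ pB d b = v := by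
  decide +kernel

theorem sing_pair : ∀ a ∈ W, ∀ b ∈ W, b ≠ 0 → qB a = pB a b → qB b = pB a b →
    a = 0 ∨ a = b ∧ qB b = false ∨ (a ≠ 0 ∧ a ≠ b ∧ qB a = false ∧ qB b = false ∧ pB a b = false) ∨
      (qB a = true ∧ qB b = true ∧ pB a b = true) := by
  decide +kernel

theorem shift_nr : ∀ b ∈ W, ∀ y < 256, pB 1 y = true → nr (y ^^^ rho b y) = b ∧ pB 1 (y ^^^ rho b y) = false := by
  decide +kernel

theorem point_partner : ∀ a < 256, a ∉ [0, 1, 2, 3] → ∀ u v : Bool,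
    ∃ y < 256, pB 1 y = u ∧ pB 2 y = v ∧ pB a y = false := by
  decide +kernel

end Cfsg.Lib.ConwayType.Code
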