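import Cfsg.Agent.ConwayType.Point

/-!
Isometries fixing a five-space pointwise and commuting with a radical element.
-/

set_option autoImplicit false
set_option maxRecDepth 100000
set_option maxHeartbeats 1000000
set_option linter.style.haveILetI false

namespace Cfsg.Lib.ConwayType

open Cfsg.Lib.ConwayType.Code

/-- Possible images of a vector under an isometry fixing the given vectors. -/
def candL (N : List ℕ) (v : ℕ) : List ℕ :=
  (List.range 256).filter fun y => qB y == qB v && N.all fun n => pB y n == pB v n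

/-- The linear extension of images of the basis. -/
def lin (im : List ℕ) (x : ℕ) : ℕ := Cfsg.Lib.Classical.OrthH1.lN 8 im x

/-- Possible images of the three completing vectors. -/
def tripL (N : List ℕ) (v1 v2 v3 b : ℕ) (im : ℕ → ℕ → ℕ → List ℕ) : List (ℕ × ℕ × ℕ) :=
  (candL N v1).flatMap fun x => (candL N v2).flatMap fun y => (candL N v3).filterMap fun w =>
    if pB x y == pB v1 v2 && pB x w == pB v1 v3 && pB y w == pB v2 v3 &&
      [1, 2, 4, 8, 16, 32, 64, 128].all (fun k => lin (im x y w) (rho b k) == rho b (lin (im x y w) k))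
    then some (x, y, w) else none

/-- Images of the basis in the anisotropic case. -/
def imTT (x y w : ℕ) : List ℕ := [1, y, w, 8, x, 98 ^^^ 68 ^^^ y ^^^ w, 68 ^^^ w, 128]

/-- Images of the basis in the totally singular case. -/
def imTI (x y w : ℕ) : List ℕ := [1, 2, 4, 8, x, y, w, 128]

theorem countTT : (tripL [1, 8, 128, 68, 98] 16 2 4 100 imTT).length ≤ 8 := by decide +kernel

theorem countTI : (tripL [1, 2, 4, 8, 128] 16 32 64 4 imTI).length ≤ 8 := by decide +kernel

theorem lin_basis {g : O8} {im : List ℕ} (him : im = [1, 2, 4, 8, 16, 32, 64, 128].map (cd g)) {x : ℕ}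
    (hx : x < 256) : cd g x = lin im x := by
  subst him
  conv_lhs => rw [← bits8 x hx]
  simp only [cd_xor, cd_bif]
  simp [lin, Cfsg.Lib.Classical.OrthH1.lN, List.range_succ, Nat.xor_assoc, cd_zero, Bool.cond_eq_ite]

/-- The three completing images determine the element and lie in a short list. -/
theorem mem_trip {g : O8} {N : List ℕ} {v1 v2 v3 b : ℕ} {im : ℕ → ℕ → ℕ → List ℕ} (hN : ∀ n ∈ N, n < 256 ∧ cd g n = n)
    (hv : v1 < 256 ∧ v2 < 256 ∧ v3 < 256) (hb : b ∈ W) (hc : Commute g (rhoE b hb))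
    (him : im (cd g v1) (cd g v2) (cd g v3) = [1, 2, 4, 8, 16, 32, 64, 128].map (cd g)) :
    (cd g v1, cd g v2, cd g v3) ∈ tripL N v1 v2 v3 b im := by
  obtain ⟨h1, h2, h3⟩ := hv
  have cand : ∀ v < 256, cd g v ∈ candL N v := fun v hv => by
    simp only [candL, List.mem_filter, List.mem_range, Bool.and_eq_true, beq_iff_eq, List.all_eq_true]
    refine ⟨cd_lt g v, cd_q g hv, fun n hn => ?_⟩
    obtain ⟨hl, hf⟩ := hN n hn
    conv_lhs => rw [← hf]
    exact cd_p g hv hl
  simp only [tripL, List.mem_flatMap, List.mem_filterMap]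
  refine ⟨_, cand v1 h1, _, cand v2 h2, _, cand v3 h3, if_pos ?_⟩
  simp only [Bool.and_eq_true, beq_iff_eq, List.all_eq_true]
  refine ⟨⟨⟨cd_p g h1 h2, cd_p g h1 h3⟩, cd_p g h2 h3⟩, fun k hk => ?_⟩
  have hkl : k < 256 := (by decide : ∀ k ∈ [1, 2, 4, 8, 16, 32, 64, 128], k < 256) k hk
  have hr : rho b k < 256 := by rw [← cd_rhoE hb hkl]; exact cd_lt _ _
  rw [← lin_basis him hr, ← lin_basis him hkl, ← cd_rhoE hb (cd_lt g k), ← cd_rhoE hb hkl, ← cd_mul, ← cd_mul, hc.eq]

theorem map_tt {g : O8} (h1 : cd g 1 = 1) (h8 : cd g 8 = 8) (h128 : cd g 128 = 128) (h68 : cd g 68 = 68)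
    (h98 : cd g 98 = 98) : imTT (cd g 16) (cd g 2) (cd g 4) = [1, 2, 4, 8, 16, 32, 64, 128].map (cd g) := by
  have e32 : cd g 32 = 98 ^^^ 68 ^^^ cd g 2 ^^^ cd g 4 := by
    conv_rhs => rw [← h98, ← h68, ← cd_xor, ← cd_xor, ← cd_xor]
    rfl
  have e64 : cd g 64 = 68 ^^^ cd g 4 := by
    conv_rhs => rw [← h68, ← cd_xor]
    rfl
  simp [imTT, h1, h8, h128, e32, e64]

theorem map_ti {g : O8} (h1 : cd g 1 = 1) (h2 : cd g 2 = 2) (h4 : cd g 4 = 4) (h8 : cd g 8 = 8)
    (h128 : cd g 128 = 128) : imTI (cd g 16) (cd g 32) (cd g 64) = [1, 2, 4, 8, 16, 32, 64, 128].map (cd g) := by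
  simp [imTI, h1, h2, h4, h8, h128]

/-- A set of isometries fixing the five-space of the pair and commuting with the radical element is small. -/
theorem small_set {N : List ℕ} {v1 v2 v3 b : ℕ} {im : ℕ → ℕ → ℕ → List ℕ} (hv : v1 < 256 ∧ v2 < 256 ∧ v3 < 256)
    (hb : b ∈ W) (hlen : (tripL N v1 v2 v3 b im).length ≤ 8) (S : Finset O8)
    (hS : ∀ g ∈ S, (∀ n ∈ N, n < 256 ∧ cd g n = n) ∧ Commute g (rhoE b hb) ∧
      im (cd g v1) (cd g v2) (cd g v3) = [1, 2, 4, 8, 16, 32, 64, 128].map (cd g)) : S.card ≤ 8 := by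
  classical
  refine le_trans ?_ ((List.toFinset_card_le _).trans hlen)
  refine Finset.card_le_card_of_injOn (fun g => (cd g v1, cd g v2, cd g v3)) (fun g hg => ?_) fun g hg g' hg' e => ?_
  · obtain ⟨a, b', c⟩ := hS g (Finset.mem_coe.mp hg)
    exact List.mem_toFinset.mpr (mem_trip a hv hb b' c)
  · obtain ⟨-, -, c⟩ := hS g (Finset.mem_coe.mp hg)
    obtain ⟨-, -, c'⟩ := hS g' (Finset.mem_coe.mp hg')
    simp only [Prod.mk.injEq] at e
    obtain ⟨e1, e2, e3⟩ := e
    rw [e1, e2, e3] at c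
    exact cd_ext fun x hx => by rw [lin_basis c hx, lin_basis c' hx]

end Cfsg.Lib.ConwayType
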