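import Cfsg.Agent.ConwayType.Fusion
import Mathlib.GroupTheory.Sylow
import Mathlib.GroupTheory.Nilpotent

/-!
The two products have centralizers with different two-parts.
-/

set_option autoImplicit false
set_option maxRecDepth 100000
set_option maxHeartbeats 1000000
set_option linter.unusedSectionVars false
set_option linter.style.haveILetI false

namespace Cfsg.Lib.ConwayType

open Subgroup Cfsg.Lib.ConwayType.Code
open Cfsg.Lib.LargeExtra (X2 mem_map_conj mem_conj_of_mem mem_zpowers_two)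
open scoped commutatorElement

universe u

variable {G : Type u} [Group G] [Finite G] {z : G}

theorem perp_pair : ∀ w ∈ W, (∀ d ∈ W, pB d 34 = false → pB d 100 = false → pB d w = false) →
    w ∈ [0, 34, 100, 34 ^^^ 100] := by decide +kernel

theorem perp_five : ∀ l < 256, (∀ n ∈ [1, 8, 128, 68, 98], pB l n = false) → qB l = false → l = 0 ∨ l = 1 := by
  decide +kernel

theorem card_ttPairs : ((W.toFinset ×ˢ W.toFinset).filter fun x => qB x.1 = true ∧ qB x.2 = true ∧ pB x.1 x.2 = true).card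
    = 336 := by decide +kernel

theorem card_tiPairs : ((W.toFinset ×ˢ W.toFinset).filter fun x => qB x.1 = false ∧ qB x.2 = false ∧
    pB x.1 x.2 = false ∧ x.1 ≠ 0 ∧ x.2 ≠ 0 ∧ x.1 ≠ x.2).card = 630 := by decide +kernel

/-- The orbit-stabiliser formula for conjugation by a subgroup. -/
theorem card_conj_orbit (T : Subgroup G) (t : G) (O : Set G) (hO : ∀ v, v ∈ O ↔ ∃ x ∈ T, x * t * x⁻¹ = v) :
    Nat.card ↥T = Nat.card O * Nat.card ↥(T ⊓ centralizer ({t} : Set G)) := by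
  let f : ↥T →* MulAut G := MulAut.conj.comp T.subtype
  letI : MulAction ↥T G := MulAction.compHom G f
  have hsmul : ∀ (x : ↥T) (v : G), x • v = (x : G) * v * (x : G)⁻¹ := fun x v => rfl
  have horb : MulAction.orbit ↥T t = O := Set.ext fun v => by
    rw [hO, MulAction.mem_orbit_iff]
    constructor
    · rintro ⟨x, rfl⟩; exact ⟨x, x.2, (hsmul x t).symm⟩
    · rintro ⟨x, hx, rfl⟩; exact ⟨⟨x, hx⟩, hsmul _ t⟩
  have hstab : MulAction.stabilizer ↥T t = (T ⊓ centralizer ({t} : Set G)).subgroupOf T := by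
    ext x
    rw [MulAction.mem_stabilizer_iff, hsmul, Subgroup.mem_subgroupOf, Subgroup.mem_inf, mul_inv_eq_iff_eq_mul,
      mem_centralizer_singleton_iff]
    exact ⟨fun h => ⟨x.2, h⟩, fun h => h.2⟩
  rw [← horb, Nat.card_congr (MulAction.orbitEquivQuotientStabilizer ↥T t),
    ← Nat.card_congr (Subgroup.subgroupOfEquivOfLe (show T ⊓ centralizer ({t} : Set G) ≤ T from inf_le_left)).toEquiv,
    ← hstab]
  exact Subgroup.card_eq_card_quotient_mul_card_subgroup _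

namespace Pt

variable (p : Pt z)

/-- The pair centralizer as a subgroup. -/
def Tg : Subgroup G := centralizer ({z} : Set G) ⊓ centralizer ({p.s} : Set G)

theorem mem_Tg {x : G} : x ∈ p.Tg ↔ p.T x :=
  and_congr mem_centralizer_singleton_iff mem_centralizer_singleton_iff

/-- The centralizer in the pair centralizer. -/
def K0 (t : G) : Subgroup G := p.Tg ⊓ centralizer ({t} : Set G)

theorem mem_K0 {t x : G} : x ∈ p.K0 t ↔ p.T x ∧ Commute x t :=
  and_congr p.mem_Tg mem_centralizer_singleton_iff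

/-- The element of the four-group with the given components. -/
def eOf (c : Bool × Bool) : G := (bif c.1 then z else 1) * (bif c.2 then p.s else 1)

theorem eOf_spec (c : Bool × Bool) : p.InE (p.eOf c) ∧ p.ze (p.eOf c) = c.1 ∧ p.se (p.eOf c) = c.2 := by
  obtain ⟨⟨z1, t1⟩, ⟨z2, t2⟩, ⟨z3, t3⟩, ⟨z4, t4⟩⟩ := p.zse
  obtain ⟨a, b⟩ := c
  cases a <;> cases b <;> simp [eOf, InE, z1, z2, z3, z4, t1, t2, t3, t4]

theorem eOf_zse {e : G} (he : p.InE e) : p.eOf (p.ze e, p.se e) = e := by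
  obtain ⟨h, h1, h2⟩ := p.eOf_spec (p.ze e, p.se e)
  exact p.eq_of_zse h he h1 h2

/-- The pair centralizer has as many cosets as there are products over an invariant orbit of pairs. -/
theorem orbit_count {q0 r0 : G} (hq0 : p.A q0) (hr0 : p.R r0) (P : ℕ → ℕ → Prop) [DecidableRel P]
    (h0 : P (p.α q0) (p.β r0))
    (hmove : ∀ q r, p.A q → p.R r → P (p.α q) (p.β r) → ∃ x, p.T x ∧ x * (q0 * r0) * x⁻¹ = q * r)
    (hinv : ∀ g : O8, cd g 1 = 1 → ∀ a ∈ W, ∀ b ∈ W, P a b → P (sa g a) (sa g b)) :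
    Nat.card ↥p.Tg =
      ((W.toFinset ×ˢ W.toFinset).filter fun x => P x.1 x.2).card * 4 * Nat.card ↥(p.K0 (q0 * r0)) := by
  classical
  obtain ⟨S, hSdef⟩ : ∃ S, S = (W.toFinset ×ˢ W.toFinset).filter fun x => P x.1 x.2 := ⟨_, rfl⟩
  have hS : ∀ x, x ∈ S ↔ x.1 ∈ W ∧ x.2 ∈ W ∧ P x.1 x.2 := fun x => by
    rw [hSdef, Finset.mem_filter, Finset.mem_product, List.mem_toFinset, List.mem_toFinset, and_assoc]
  have ea : ∀ w, ∃ a, w ∈ W → p.A a ∧ p.α a = w := fun w => by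
    by_cases hw : w ∈ W
    · obtain ⟨a, ha⟩ := p.α_surj hw; exact ⟨a, fun _ => ha⟩
    · exact ⟨1, fun h => absurd h hw⟩
  have eb : ∀ w, ∃ a, w ∈ W → p.R a ∧ p.β a = w := fun w => by
    by_cases hw : w ∈ W
    · obtain ⟨a, ha⟩ := p.β_surj hw; exact ⟨a, fun _ => ha⟩
    · exact ⟨1, fun h => absurd h hw⟩
  choose qa hqa using ea
  choose rb hrb using eb
  obtain ⟨F, hF⟩ : ∃ F : (ℕ × ℕ) × (Bool × Bool) → G, ∀ u, F u = qa u.1.1 * (rb u.1.2 * p.eOf u.2) :=
    ⟨_, fun _ => rfl⟩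
  have hinj : Set.InjOn F ↑(S ×ˢ (Finset.univ : Finset (Bool × Bool))) := by
    rintro ⟨⟨a, b⟩, e⟩ hx ⟨⟨a', b'⟩, e'⟩ hx' h
    obtain ⟨ha, hb, -⟩ := (hS _).mp (Finset.mem_product.mp (Finset.mem_coe.mp hx)).1
    obtain ⟨ha', hb', -⟩ := (hS _).mp (Finset.mem_product.mp (Finset.mem_coe.mp hx')).1
    rw [hF, hF] at h
    have A1 := hqa a ha
    have A2 := hqa a' ha'
    have B1 := hrb b hb
    have B2 := hrb b' hb'
    have hE := (p.eOf_spec e).1
    have hE' := (p.eOf_spec e').1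
    have R1 := p.R_mul B1.1 (p.E_R hE)
    have R2 := p.R_mul B2.1 (p.E_R hE')
    have hm := congrArg p.toCtx.m h
    rw [p.m_prod A1.1 R1, p.m_prod A2.1 R2] at hm
    have hbb : b = b' := by
      have h16 := congrArg (fun g => nr (cd g 16)) hm
      simp only [cd_rhoE _ (show (16 : ℕ) < 256 by norm_num),
        rho_facts _ (p.β_mem _) 16 (by norm_num) (by decide), show nr 16 = 0 from rfl, Nat.zero_xor] at h16
      rw [p.β_mul B1.1 (p.E_R hE), p.β_mul B2.1 (p.E_R hE'), p.β_E hE, p.β_E hE', Nat.xor_zero, Nat.xor_zero,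
        B1.2, B2.2] at h16
      exact h16
    subst hbb
    dsimp only at h
    rw [(p.E_central hE (p.R_T B1.1)).eq, (p.E_central hE' (p.R_T B1.1)).eq, ← mul_assoc, ← mul_assoc] at h
    have h1 := mul_right_cancel h
    have haa : a = a' := by
      have := congrArg p.α h1
      rw [p.α_mul A1.1 (p.E_A hE), p.α_mul A2.1 (p.E_A hE'), p.α_E hE, p.α_E hE', Nat.xor_zero, Nat.xor_zero, A1.2,
        A2.2] at this
      exact this
    subst haa
    have h2 := mul_left_cancel h1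
    have h3 := congrArg p.ze h2
    have h4 := congrArg p.se h2
    rw [(p.eOf_spec e).2.1, (p.eOf_spec e').2.1] at h3
    rw [(p.eOf_spec e).2.2, (p.eOf_spec e').2.2] at h4
    exact Prod.ext rfl (Prod.ext h3 h4)
  have hO : ∀ v, v ∈ (↑((S ×ˢ (Finset.univ : Finset (Bool × Bool))).image F) : Set G) ↔
      ∃ x ∈ p.Tg, x * (q0 * r0) * x⁻¹ = v := fun v => by
    rw [Finset.mem_coe, Finset.mem_image]
    constructor
    · rintro ⟨⟨⟨a, b⟩, e⟩, hx, rfl⟩
      obtain ⟨ha, hb, hP⟩ := (hS _).mp (Finset.mem_product.mp hx).1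
      have A1 := hqa a ha
      have B1 := hrb b hb
      have hE := (p.eOf_spec e).1
      obtain ⟨x, hx', ex⟩ := hmove _ _ A1.1 (p.R_mul B1.1 (p.E_R hE))
        (by rw [A1.2, p.β_mul B1.1 (p.E_R hE), p.β_E hE, Nat.xor_zero, B1.2]; exact hP)
      exact ⟨x, p.mem_Tg.mpr hx', by rw [hF]; exact ex⟩
    · rintro ⟨x, hx, rfl⟩
      have hT := p.mem_Tg.mp hx
      have A' := p.A_norm hT hq0
      have R' := p.R_norm hT hr0
      obtain ⟨a, hadef⟩ : ∃ a, a = p.α (x * q0 * x⁻¹) := ⟨_, rfl⟩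
      obtain ⟨b, hbdef⟩ : ∃ b, b = p.β (x * r0 * x⁻¹) := ⟨_, rfl⟩
      have ha : a ∈ W := hadef ▸ p.α_mem _
      have hb : b ∈ W := hbdef ▸ p.β_mem _
      have hP : P a b := by
        rw [hadef, hbdef, p.α_conj hT hq0, p.β_conj hT hr0]
        exact hinv _ (p.T_fix hT) _ (p.α_mem _) _ (p.β_mem _) h0
      have A1 := hqa a ha
      have B1 := hrb b hb
      obtain ⟨e1, he1⟩ : ∃ e, e = (qa a)⁻¹ * (x * q0 * x⁻¹) := ⟨_, rfl⟩
      obtain ⟨e2, he2⟩ : ∃ e, e = (rb b)⁻¹ * (x * r0 * x⁻¹) := ⟨_, rfl⟩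
      have hE1 : p.InE e1 := p.α_zero (he1 ▸ p.A_mul (p.A_inv A1.1) A') (by
        rw [he1, p.α_mul (p.A_inv A1.1) A', p.α_inv A1.1, A1.2, hadef, Nat.xor_self])
      have hE2 : p.InE e2 := he2 ▸ p.R_fibre B1.1 R' (B1.2.trans hbdef)
      refine ⟨((a, b), (p.ze (e1 * e2), p.se (e1 * e2))),
        Finset.mem_product.mpr ⟨(hS _).mpr ⟨ha, hb, hP⟩, Finset.mem_univ _⟩, ?_⟩
      rw [hF]
      dsimp only
      rw [p.eOf_zse (p.E_cases hE1 _ hE2), ← mul_assoc (rb b) e1 e2, (p.E_central hE1 (p.R_T B1.1)).eq, he1, he2]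
      group
  have h := card_conj_orbit p.Tg (q0 * r0) _ hO
  rw [show p.Tg ⊓ centralizer ({q0 * r0} : Set G) = p.K0 (q0 * r0) from rfl] at h
  rw [h, Nat.card_coe_set_eq, Set.ncard_coe_finset, Finset.card_image_of_injOn hinj, Finset.card_product,
    Finset.card_univ, hSdef]
  simp

/-- The anisotropic and the totally singular product are not conjugate. -/
theorem tt_not_ti {q1 r1 q2 r2 : G} (hq1 : p.A q1) (hr1 : p.R r1) (a1 : p.α q1 = 34) (b1 : p.β r1 = 100)
    (hq2 : p.A q2) (hr2 : p.R r2) (a2 : p.α q2 = 2) (b2 : p.β r2 = 4) : ¬ IsConj (q1 * r1) (q2 * r2) := by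
  classical
  haveI : Fact (Nat.Prime 2) := ⟨Nat.prime_two⟩
  intro hconj
  obtain ⟨t, htdef⟩ : ∃ t, t = q1 * r1 := ⟨_, rfl⟩
  have hT : p.T t := htdef ▸ p.T_mul (p.A_T hq1) (p.R_T hr1)
  have hb1 : p.β r1 ≠ 0 := by rw [b1]; decide
  have htt : p.IsTT q1 r1 := ⟨hq1, hr1, by rw [a1]; decide, by rw [b1]; decide, by rw [a1, b1]; decide⟩
  obtain ⟨K, hKdef⟩ : ∃ K : Subgroup G, K = centralizer ({z} : Set G) ⊓ centralizer ({t} : Set G) := ⟨_, rfl⟩
  have memK : ∀ {x}, x ∈ K ↔ Commute x z ∧ Commute x t := fun {x} => by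
    rw [hKdef]; exact and_congr mem_centralizer_singleton_iff mem_centralizer_singleton_iff
  have hK0 : p.K0 t ≤ K := fun x hx => memK.mpr ⟨(p.mem_K0.mp hx).1.1, (p.mem_K0.mp hx).2⟩
  -- an element exchanging the two lifts of the point
  obtain ⟨d, hd, hds⟩ : ∃ d ∈ K, d * p.s * d⁻¹ = z * p.s := by
    obtain ⟨v, hv, hvs⟩ := p.X.exists_swap p.hs fun hm => by
      rcases (mem_zpowers_two p.X.zz).mp hm with e | e
      · exact p.s_ne.1 e
      · exact p.s_ne.2 e
    have hp4 : pB 1 (p.π v) = true := by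
      by_contra hc
      rw [Bool.not_eq_true] at hc
      rw [(p.A_of_perp hv hc).2.eq, mul_inv_cancel_right] at hvs
      exact p.X.ne (mul_eq_right.mp hvs.symm)
    obtain ⟨b, hbdef⟩ : ∃ b, b = v * (t * v⁻¹ * t⁻¹) := ⟨_, rfl⟩
    have hvi := p.toCtx.norm hT.1 (inv_mem hv)
    have hbQ : b ∈ p.Q := hbdef ▸ mul_mem hv hvi
    have hbπ : p.π b = p.π v ^^^ rho 100 (p.π v) := by
      rw [hbdef, p.π_mul v hv _ hvi, p.toCtx.act hT.1 (inv_mem hv), p.toCtx.pi_inv hv, htdef, p.m_prod hq1 hr1,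
        cd_rhoE _ (p.π_lt v), b1]
    obtain ⟨hn, hp'⟩ := shift_nr 100 (by decide) _ (p.π_lt v) hp4
    have hbA : p.A b := p.A_of_perp hbQ (by rw [hbπ]; exact hp')
    have hα : p.α (b * q1) = 34 ^^^ 100 := by
      rw [p.α_mul hbA hq1, a1, α, hbπ, hn]; rfl
    have hTT : p.IsTT (b * q1) r1 := ⟨p.A_mul hbA hq1, hr1, by rw [hα]; decide, by rw [b1]; decide,
      by rw [hα, b1]; decide⟩
    obtain ⟨x, hx, ex⟩ := p.tt_move hTT hq1 hr1 a1 b1
    have hvt : v * t * v⁻¹ = x * t * x⁻¹ := by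
      rw [htdef, ex, show b * q1 * r1 = b * (q1 * r1) by group, ← htdef, hbdef]; group
    refine ⟨x⁻¹ * v, memK.mpr ⟨hx.1.inv_left.mul_left (p.X.central v hv), mul_inv_eq_iff_eq_mul.mp ?_⟩, ?_⟩
    · rw [show x⁻¹ * v * t * (x⁻¹ * v)⁻¹ = x⁻¹ * (v * t * v⁻¹) * x by group, hvt]; group
    · rw [show x⁻¹ * v * p.s * (x⁻¹ * v)⁻¹ = x⁻¹ * (v * p.s * v⁻¹) * x⁻¹⁻¹ by group, hvs,
        (hx.1.mul_right hx.2).inv_left.eq, mul_inv_cancel_right]
  have horb : ∀ x ∈ K, x * p.s * x⁻¹ = p.s ∨ x * p.s * x⁻¹ = z * p.s := fun x hx => by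
    obtain ⟨hxz, hxt⟩ := memK.mp hx
    have e1 : p.π (x * p.s * x⁻¹) = cd (p.toCtx.m x) 1 := by rw [p.toCtx.act hxz p.hs, p.πs]
    obtain ⟨g, hg⟩ : ∃ g, g = p.toCtx.m x := ⟨_, rfl⟩
    have hc : Commute g (rhoE 100 (by decide)) := by
      have h1 : p.toCtx.m (x * t) = p.toCtx.m (t * x) := by rw [hxt.eq]
      rw [p.toCtx.m_mul hxz hT.1, p.toCtx.m_mul hT.1 hxz, htdef, p.m_prod hq1 hr1, ← hg] at h1
      rw [show rhoE (p.β r1) (p.β_mem r1) = rhoE 100 (by decide) from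
        cd_ext fun y hy => by rw [cd_rhoE _ hy, cd_rhoE _ hy, b1]] at h1
      exact h1
    have hb : br (rhoE 100 (by decide)) (cd g 4) = cd g 1 := by
      have hk : br (rhoE 100 (by decide)) 4 = 1 := by rw [br, cd_rhoE _ (by norm_num)]; decide
      conv_rhs => rw [← hk, br, cd_xor, ← cd_mul, hc.eq, cd_mul]
      rfl
    have hm : cd g 1 ∈ [0, 1, 100, 100 ^^^ 1] := by
      rw [← hb, br, cd_rhoE _ (cd_lt _ _)]
      exact rho_image 100 (by decide) _ (cd_lt _ _)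
    have h10 : cd g 1 ≠ 0 := fun e => one_ne_zero (cd_inj g (by norm_num) (by norm_num) (e.trans (cd_zero g).symm))
    have hq : qB (cd g 1) = false := by rw [cd_q g (by norm_num)]; decide
    have h11 : cd g 1 = 1 := (by decide : ∀ l ∈ [0, 1, 100, 100 ^^^ 1], l ≠ 0 → qB l = false → l = 1) _ hm h10 hq
    rw [← hg, h11, ← p.πs] at e1
    exact p.toCtx.pi_eq (p.toCtx.norm hxz p.hs) p.hs e1
  have hindex : ((p.K0 t).subgroupOf K).index = 2 := by
    refine Subgroup.index_eq_two_iff.mpr ⟨⟨d, hd⟩, fun ⟨x, hx⟩ => ?_⟩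
    simp only [Subgroup.mem_subgroupOf, Subgroup.coe_mul]
    have hzs := p.zs_ne.2.2
    have key : ∀ y ∈ K, (y ∈ p.K0 t ↔ y * p.s * y⁻¹ = p.s) := fun y hy => by
      rw [p.mem_K0]
      exact ⟨fun h => by rw [h.1.2.eq, mul_inv_cancel_right],
        fun h => ⟨⟨(memK.mp hy).1, mul_inv_eq_iff_eq_mul.mp h⟩, (memK.mp hy).2⟩⟩
    rw [key x hx, key (x * d) (mul_mem hx hd), show x * d * p.s * (x * d)⁻¹ = x * (d * p.s * d⁻¹) * x⁻¹ by group, hds,
      show x * (z * p.s) * x⁻¹ = x * z * x⁻¹ * (x * p.s * x⁻¹) by group, (memK.mp hx).1.eq, mul_inv_cancel_right]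
    rcases horb x hx with e | e <;> rw [e]
    · exact Or.inr ⟨rfl, hzs⟩
    · refine Or.inl ⟨?_, hzs⟩
      rw [← mul_assoc, p.X.zz, one_mul]
  have hKcard : Nat.card ↥K = 2 * Nat.card ↥(p.K0 t) := by
    rw [← Subgroup.card_mul_index ((p.K0 t).subgroupOf K), hindex,
      Nat.card_congr (Subgroup.subgroupOfEquivOfLe hK0).toEquiv, mul_comm]
  -- a Sylow subgroup of the intersection is a Sylow subgroup of the centralizer
  obtain ⟨P0⟩ : Nonempty (Sylow 2 ↥K) := inferInstance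
  obtain ⟨Pg, hPg⟩ : ∃ Pg : Subgroup G, Pg = (P0 : Subgroup ↥K).map K.subtype := ⟨_, rfl⟩
  have hPK : Pg ≤ K := hPg ▸ map_subtype_le _
  have hPcard : Nat.card ↥Pg = Nat.card ↥(P0 : Subgroup ↥K) := by
    rw [hPg]; exact (Nat.card_congr (Subgroup.equivMapOfInjective _ _ K.subtype_injective).toEquiv).symm
  have hPp : IsPGroup 2 ↥Pg := hPg ▸ P0.2.map _
  have maxK : ∀ H : Subgroup G, H ≤ K → Pg ≤ H → IsPGroup 2 ↥H → H = Pg := fun H hHK hPH hH => by
    have h2 : (P0 : Subgroup ↥K) ≤ H.subgroupOf K := fun x hx =>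
      hPH (hPg ▸ Subgroup.mem_map_of_mem K.subtype hx)
    have h3 := P0.3 (hH.comap_of_injective K.subtype K.subtype_injective) h2
    rw [hPg, ← h3]
    exact (Subgroup.map_subgroupOf_eq_of_le hHK).symm
  have hzK : z ∈ K := memK.mpr ⟨Commute.refl z, hT.1.symm⟩
  have zP : z ∈ Pg := by
    haveI hn : (zpowers (⟨z, hzK⟩ : ↥K)).Normal := ⟨fun n hn c => by
      obtain ⟨i, rfl⟩ := mem_zpowers_iff.mp hn
      refine mem_zpowers_iff.mpr ⟨i, Subtype.ext ?_⟩
      simp only [Subgroup.coe_zpow, Subgroup.coe_mul, Subgroup.coe_inv]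
      rw [((memK.mp c.2).1.zpow_right i).eq, mul_inv_cancel_right]⟩
    have hp2 : IsPGroup 2 ↥(zpowers (⟨z, hzK⟩ : ↥K)) := fun x => ⟨1, by
      obtain ⟨i, hi⟩ := mem_zpowers_iff.mp x.2
      refine Subtype.ext ?_
      show (x : ↥K) ^ 2 = 1
      rw [← hi, ← zpow_natCast, ← zpow_mul, mul_comm, zpow_mul, zpow_natCast,
        show (⟨z, hzK⟩ : ↥K) ^ 2 = 1 from Subtype.ext (by simp [pow_two, p.X.zz]), one_zpow]⟩
    rw [hPg]
    exact ⟨⟨z, hzK⟩, hp2.le_sylow_of_normal (N := zpowers (⟨z, hzK⟩ : ↥K)) P0 (mem_zpowers _), rfl⟩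
  have CQP : ∀ v ∈ p.Q, Commute v t → v ∈ Pg := fun v hv hvt => by
    have hle : p.Q ⊓ centralizer ({t} : Set G) ≤ K := fun x hx =>
      memK.mpr ⟨p.X.central x hx.1, mem_centralizer_singleton_iff.mp hx.2⟩
    haveI : ((p.Q ⊓ centralizer ({t} : Set G)).subgroupOf K).Normal := ⟨fun n hn c => by
      have hn' : (n : G) ∈ p.Q ⊓ centralizer ({t} : Set G) := hn
      obtain ⟨c1, c2⟩ := memK.mp c.2
      exact ⟨p.toCtx.norm c1 hn'.1, mem_centralizer_singleton_iff.mpr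
        ((c2.mul_left (mem_centralizer_singleton_iff.mp hn'.2)).mul_left c2.inv_left)⟩⟩
    have hp2 : IsPGroup 2 ↥((p.Q ⊓ centralizer ({t} : Set G)).subgroupOf K) :=
      (p.X.isP.to_le inf_le_left).comap_of_injective K.subtype K.subtype_injective
    have hm : v ∈ p.Q ⊓ centralizer ({t} : Set G) := ⟨hv, mem_centralizer_singleton_iff.mpr hvt⟩
    rw [hPg]
    exact ⟨⟨v, hle hm⟩, hp2.le_sylow_of_normal (N := (p.Q ⊓ centralizer ({t} : Set G)).subgroupOf K) P0 hm, rfl⟩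
  have hsnot : ¬ ∀ x ∈ Pg, Commute x p.s := fun hall => by
    have hle : Pg ≤ p.K0 t := fun x hx =>
      p.mem_K0.mpr ⟨⟨(memK.mp (hPK hx)).1, hall x hx⟩, (memK.mp (hPK hx)).2⟩
    have hle2 : (P0 : Subgroup ↥K) ≤ (p.K0 t).subgroupOf K := fun x hx =>
      hle (hPg ▸ Subgroup.mem_map_of_mem K.subtype hx)
    have h2' := Subgroup.index_dvd_of_le hle2
    rw [hindex] at h2'
    have h2 : (2 : ℕ) ∣ (P0 : Subgroup ↥K).index := h2'
    exact P0.not_dvd_index h2
  have ttz := p.tt_not_z hq1 hr1 a1 b1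
  obtain ⟨S, hS⟩ : ∃ S : Sylow 2 ↥(centralizer ({t} : Set G)), Pg.subgroupOf (centralizer ({t} : Set G)) ≤ S :=
    (hPp.comap_of_injective _ (centralizer ({t} : Set G)).subtype_injective).exists_le_sylow
  have hPC : Pg ≤ centralizer ({t} : Set G) := fun x hx => mem_centralizer_singleton_iff.mpr (memK.mp (hPK hx)).2
  have hSeq : (S : Subgroup ↥(centralizer ({t} : Set G))) = Pg.subgroupOf (centralizer ({t} : Set G)) := by
    by_contra hne
    haveI : Group.IsNilpotent ↥(S : Subgroup ↥(centralizer ({t} : Set G))) := S.2.isNilpotent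
    obtain ⟨H, hH⟩ : ∃ H, H = (Pg.subgroupOf (centralizer ({t} : Set G))).subgroupOf
        (S : Subgroup ↥(centralizer ({t} : Set G))) := ⟨_, rfl⟩
    have hlt : H < ⊤ := lt_top_iff_ne_top.mpr fun e => hne (le_antisymm
      (by rw [hH, Subgroup.subgroupOf_eq_top] at e; exact e) hS)
    obtain ⟨n, hn, hnH⟩ := SetLike.exists_of_lt (Group.normalizerCondition_of_isNilpotent H hlt)
    obtain ⟨m, hm⟩ : ∃ m, m = ((n : ↥(centralizer ({t} : Set G))) : G) := ⟨_, rfl⟩
    have hmt : Commute m t := hm ▸ mem_centralizer_singleton_iff.mp (n : ↥(centralizer ({t} : Set G))).2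
    have hnorm : ∀ x ∈ Pg, m * x * m⁻¹ ∈ Pg ∧ m⁻¹ * x * m ∈ Pg := fun x hx => by
      have hxS : (⟨x, hPC hx⟩ : ↥(centralizer ({t} : Set G))) ∈ (S : Subgroup ↥(centralizer ({t} : Set G))) := hS hx
      have hxH : (⟨⟨x, hPC hx⟩, hxS⟩ : ↥(S : Subgroup ↥(centralizer ({t} : Set G)))) ∈ H := by rw [hH]; exact hx
      have h1 := (Subgroup.mem_normalizer_iff.mp hn _).mp hxH
      have h2 := (Subgroup.mem_normalizer_iff.mp (inv_mem hn) _).mp hxH
      rw [inv_inv] at h2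
      rw [hH] at h1 h2
      exact ⟨hm ▸ h1, hm ▸ h2⟩
    have hmK : m ∉ K := fun hmK => by
      let H2 : Subgroup G := ((S : Subgroup ↥(centralizer ({t} : Set G))).map (centralizer ({t} : Set G)).subtype) ⊓ K
      have h2p : IsPGroup 2 ↥H2 := (S.2.map _).to_le inf_le_left
      have hle : Pg ≤ H2 := fun x hx => ⟨⟨⟨x, hPC hx⟩, hS hx, rfl⟩, hPK hx⟩
      have hmem : m ∈ H2 := ⟨⟨(n : ↥(centralizer ({t} : Set G))), n.2, hm.symm⟩, hmK⟩
      rw [maxK H2 inf_le_right hle h2p, hm] at hmem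
      exact hnH (by rw [hH]; exact hmem)
    obtain ⟨z', hz'⟩ : ∃ z', z' = m * z * m⁻¹ := ⟨_, rfl⟩
    have hz'P : z' ∈ Pg := hz' ▸ (hnorm z zP).1
    have hz'ne : z' ≠ z := fun e => hmK (memK.mpr ⟨mul_inv_eq_iff_eq_mul.mp (hz'.symm.trans e), hmt⟩)
    have hz'z : Commute z' z := (memK.mp (hPK hz'P)).1
    have hz'c : ∀ x ∈ Pg, Commute z' x := fun x hx => by
      have h := (memK.mp (hPK (hnorm x hx).2)).1
      have h2 := (Commute.conj_iff m).mpr h.symm
      rwa [← hz', show m * (m⁻¹ * x * m) * m⁻¹ = x by group] at h2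
    have hz'2 : z' * z' = 1 := by
      rw [hz', show m * z * m⁻¹ * (m * z * m⁻¹) = m * (z * z) * m⁻¹ by group, p.X.zz, mul_one, mul_inv_cancel]
    have hz'1 : z' ≠ 1 := fun e => p.X.ne (by rw [hz'] at e; exact conj_eq_one_iff.mp e)
    have hN5 : ∀ n' < 256, pB 1 n' = false → pB (nr n') 34 = false → pB (nr n') 100 = false →
        ∃ v, p.A v ∧ p.π v = n' ∧ Commute z' v := fun n' hn' e1 e2 e3 => by
      obtain ⟨v, hv, hvn⟩ := p.π_surj n' hn'
      have hvA : p.A v := p.A_of_perp hv (by rw [hvn]; exact e1)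
      refine ⟨v, hvA, hvn, hz'c v (CQP v hv ?_)⟩
      rw [htdef]
      exact (p.comm_prod hq1 hr1 hb1 hv).mpr ⟨hvA, by rw [α, hvn, a1]; exact e2, by rw [α, hvn, b1]; exact e3⟩
    by_cases hzQ : z' ∈ p.Q
    · obtain ⟨v1, hv1A, hv1π, hv1c⟩ := hN5 1 (by norm_num) (by decide) (by decide) (by decide)
      have hz'A : p.A z' := by
        refine p.A_of_perp hzQ ?_
        rw [pB_comm, ← hv1π]
        exact (p.π_comm z' hzQ v1 hv1A.1).mp hv1c
      have hα : p.α z' ∈ [0, 34, 100, 34 ^^^ 100] := perp_pair _ (p.α_mem z') fun dd hd' e1 e2 => by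
        obtain ⟨hl, hp', hn'⟩ := W_lt dd hd'
        obtain ⟨v, hvA, hvn, hvc⟩ := hN5 dd hl hp' (by rw [hn']; exact e1) (by rw [hn']; exact e2)
        have := (p.α_comm hz'A hvA).mp hvc
        rwa [show p.α v = dd by rw [α, hvn, hn'], pB_comm] at this
      have hq0 : qB (p.α z') = false := (p.α_sq hz'A).mp hz'2
      have hz0 : p.α z' = 0 := (by decide : ∀ l ∈ [0, 34, 100, 34 ^^^ 100], qB l = false → l = 0) _ hα hq0
      rcases p.α_zero hz'A hz0 with e | e | e | e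
      · exact hz'1 e
      · exact hz'ne e
      · exact hsnot fun x hx => e ▸ (hz'c x hx).symm
      · refine hsnot fun x hx => ?_
        have h := (memK.mp (hPK hx)).1.mul_right (e ▸ (hz'c x hx).symm)
        rwa [← mul_assoc, p.X.zz, one_mul] at h
    · obtain ⟨g, hg⟩ : ∃ g, g = p.toCtx.m z' := ⟨_, rfl⟩
      have hgg : g * g = 1 := by rw [hg, ← p.toCtx.m_mul hz'z hz'z, hz'2, p.toCtx.m_one]
      have hfix : ∀ n' < 256, pB 1 n' = false → pB (nr n') 34 = false → pB (nr n') 100 = false → cd g n' = n' :=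
        fun n' hn' e1 e2 e3 => by
        obtain ⟨v, hvA, hvn, hvc⟩ := hN5 n' hn' e1 e2 e3
        have := p.toCtx.act hz'z hvA.1
        rwa [hvc.eq, mul_inv_cancel_right, hvn, ← hg, eq_comm] at this
      have h64 : (fixSet g).card = 64 := by
        have hsub : ((Finset.range 256).filter fun n' => pB 1 n' = false ∧ pB (nr n') 34 = false ∧
            pB (nr n') 100 = false) ⊆ fixSet g := fun n' hn' => by
          obtain ⟨h1, h2, h3, h4⟩ := Finset.mem_filter.mp hn'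
          exact mem_fixSet.mpr ⟨Finset.mem_range.mp h1, hfix n' (Finset.mem_range.mp h1) h2 h3 h4⟩
        have h32 : ((Finset.range 256).filter fun n' => pB 1 n' = false ∧ pB (nr n') 34 = false ∧
            pB (nr n') 100 = false).card = 32 := by decide +kernel
        have := Finset.card_le_card hsub
        rw [h32] at this
        rcases fix_cases (hg ▸ p.toCtx.m_mem hz'z) hgg with e | e | e
        · omega
        · exact e
        · exact absurd (fix_all e) (hg ▸ p.m_ne hz'z hzQ)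
      obtain ⟨h, hh, w, hw, hw0, heq⟩ := inv_rad hgg h64
      have hwq : qB w = false := by
        rcases p.radical_class hz'z hz'2 hh hw hw0 (hg ▸ heq) with ⟨e, -⟩ | ⟨q, r, hqr, -, hc⟩ | ⟨q, r, hqr, e, -⟩
        · exact e
        · exact absurd ((isConj_iff.mpr ⟨m, hz'.symm⟩).trans
            (((p.tt_class hqr hq1 hr1 a1 b1).trans hc).symm)) ttz
        · exact e
      have himg : imgSet g ⊆ ({0, 1} : Finset ℕ) := fun l hl => by
        obtain ⟨x, hx, rfl⟩ := mem_imgSet.mp hl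
        have hperp : ∀ n' ∈ [1, 8, 128, 68, 98], pB (br g x) n' = false := fun n' hn' => by
          obtain ⟨a, b, c, dd⟩ := (by decide : ∀ n ∈ [1, 8, 128, 68, 98], n < 256 ∧ pB 1 n = false ∧
            pB (nr n) 34 = false ∧ pB (nr n) 100 = false) n' hn'
          rw [adj hgg hx a, br_eq_zero.mpr (hfix n' a b c dd), pB_comm, pB_zero]
        have hsing : qB (br g x) = false := by
          have h1 : br g x = cd h⁻¹ (br (rhoE w hw) (cd h x)) := by
            rw [← heq, br_conj _ _ (cd_lt _ _), cd_inv h hx, cd_inv h (br_lt g hx)]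
          rw [h1, cd_q _ (br_lt _ (cd_lt _ _)), br, cd_rhoE hw (cd_lt _ _)]
          have hq4 : ∀ l ∈ [0, 1, w, w ^^^ 1], qB l = false := by
            intro l hl
            simp only [List.mem_cons, List.not_mem_nil, or_false] at hl
            rcases hl with rfl | rfl | rfl | rfl
            · rfl
            · decide
            · exact hwq
            · rw [qB_add, hwq, pB_comm, (W_lt w hw).2.1]; decide
          exact hq4 _ (rho_image w hw _ (cd_lt _ _))
        rcases perp_five _ (br_lt g hx) hperp hsing with e | e <;> rw [e] <;> simp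
      have h4 : (imgSet g).card ≤ 2 := (Finset.card_le_card himg).trans Finset.card_le_two
      have := card_img_mul g
      rw [h64] at this
      omega
  -- the arithmetic
  have c1 := p.orbit_count hq1 hr1 (fun a b => qB a = true ∧ qB b = true ∧ pB a b = true) htt.2.2
    (fun q r hq hr h => p.tt_move ⟨hq, hr, h⟩ hq1 hr1 a1 b1)
    (fun g h1 a ha b hb h => by rw [sa_q h1 ha, sa_q h1 hb, sa_p h1 ha hb]; exact h)
  have hti : qB (p.α q2) = false ∧ qB (p.β r2) = false ∧ pB (p.α q2) (p.β r2) = false ∧ p.α q2 ≠ 0 ∧ p.β r2 ≠ 0 ∧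
      p.α q2 ≠ p.β r2 := by rw [a2, b2]; decide
  have c2 := p.orbit_count hq2 hr2
    (fun a b => qB a = false ∧ qB b = false ∧ pB a b = false ∧ a ≠ 0 ∧ b ≠ 0 ∧ a ≠ b) hti
    (fun q r hq hr h => p.ti_move ⟨hq, hr, h⟩ hq2 hr2 a2 b2)
    (fun g h1 a ha b hb h => by
      obtain ⟨x1, x2, x3, x4, x5, x6⟩ := h
      refine ⟨by rw [sa_q h1 ha]; exact x1, by rw [sa_q h1 hb]; exact x2, by rw [sa_p h1 ha hb]; exact x3,
        fun e => x4 ?_, fun e => x5 ?_, fun e => x6 ?_⟩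
      · rw [← (sa_inv h1 ha).2, e, sa_zero]
      · rw [← (sa_inv h1 hb).2, e, sa_zero]
      · rw [← (sa_inv h1 ha).2, e, (sa_inv h1 hb).2])
  rw [card_ttPairs, ← htdef] at c1
  rw [card_tiPairs] at c2
  obtain ⟨e, he⟩ := P0.2.exists_card_eq
  have hmax : ∀ H : Subgroup ↥(centralizer ({t} : Set G)), IsPGroup 2 ↥H → Nat.card ↥H ≤ 2 ^ e := fun H hH => by
    obtain ⟨S', hS'⟩ := hH.exists_le_sylow
    refine (Subgroup.card_le_of_le hS').trans (le_of_eq ?_)
    rw [← he, ← hPcard, ← Nat.card_congr (Subgroup.subgroupOfEquivOfLe hPC).toEquiv, ← hSeq,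
      S'.card_eq_multiplicity, S.card_eq_multiplicity]
  obtain ⟨g, hg⟩ := isConj_iff.mp hconj
  have hcc : Nat.card ↥(centralizer ({q2 * r2} : Set G)) = Nat.card ↥(centralizer ({t} : Set G)) := by
    have hmem : ∀ x, x ∈ centralizer ({q2 * r2} : Set G) ↔ g⁻¹ * x * g ∈ centralizer ({t} : Set G) := fun x => by
      rw [mem_centralizer_singleton_iff, mem_centralizer_singleton_iff, ← hg, ← htdef]
      have := Commute.conj_iff (a := g⁻¹ * x * g) (b := t) g
      rw [show g * (g⁻¹ * x * g) * g⁻¹ = x by group] at this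
      exact this
    refine Nat.card_congr ((Equiv.mk (fun x => g⁻¹ * x * g) (fun x => g * x * g⁻¹) (fun x => by group)
      (fun x => by group)).subtypeEquiv hmem)
  have h2 : 2 ^ (e + 2) ∣ 15 * Nat.card ↥(p.K0 (q2 * r2)) := by
    have hd1 : 2 ^ e ∣ Nat.card ↥K := he ▸ Subgroup.card_subgroup_dvd_card _
    have : 15 * Nat.card ↥(p.K0 (q2 * r2)) = 4 * Nat.card ↥K := by omega
    rw [this, pow_add, mul_comm]
    exact mul_dvd_mul dvd_rfl hd1
  have h3 : 2 ^ (e + 2) ∣ Nat.card ↥(centralizer ({t} : Set G)) := by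
    have hco : Nat.Coprime (2 ^ (e + 2)) 15 := (by decide : Nat.Coprime 2 15).pow_left _
    refine (hco.dvd_of_dvd_mul_left h2).trans ?_
    rw [← hcc]
    exact Subgroup.card_dvd_of_le inf_le_right
  obtain ⟨H, hH⟩ := Sylow.exists_subgroup_card_pow_prime 2 h3
  have := hmax H (IsPGroup.of_card hH)
  rw [hH] at this
  have hlt : 2 ^ e < 2 ^ (e + 2) := Nat.pow_lt_pow_right (by norm_num) (by omega)
  omega

end Pt

end Cfsg.Lib.ConwayType
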