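import Cfsg.Agent.ConwayType.Distinct

/-!
The three classes of involutions in a group of Conway type.
-/

set_option autoImplicit false
set_option maxHeartbeats 1000000
set_option linter.unusedSectionVars false
set_option linter.style.haveILetI false

namespace Cfsg.Lib.ConwayType

open Subgroup Cfsg.Lib.ConwayType.Code

universe u

variable {G : Type u} [Group G] [Finite G] {z : G}

namespace Pt

theorem involution_into_C (p : Pt z) {y : G} (hy : y * y = 1) : ∃ g, Commute (g * y * g⁻¹) z := by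
  classical
  haveI : Fact (Nat.Prime 2) := ⟨Nat.prime_two⟩
  obtain ⟨P0⟩ : Nonempty (Sylow 2 ↥(centralizer ({z} : Set G))) := inferInstance
  haveI hQn : (p.Q.subgroupOf (centralizer ({z} : Set G))).Normal := ⟨fun n hn c => p.toCtx.norm (Ctx.mem_C.mp c.2) hn⟩
  have hQP : p.Q.subgroupOf (centralizer ({z} : Set G)) ≤ (P0 : Subgroup ↥(centralizer ({z} : Set G))) :=
    IsPGroup.le_sylow_of_normal (N := p.Q.subgroupOf (centralizer ({z} : Set G)))
      (p.X.isP.comap_of_injective _ Subtype.val_injective) P0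
  obtain ⟨S, hS⟩ := ((P0.2.map (centralizer ({z} : Set G)).subtype)).exists_le_sylow
  have hQS : p.Q ≤ S := fun q hq => hS ⟨⟨q, p.toCtx.q_C hq⟩, hQP hq, rfl⟩
  haveI : Nontrivial ↥(S : Subgroup G) := nontrivial_iff.mpr ⟨⟨z, hQS p.X.mem⟩, 1, fun e => p.X.ne (congrArg Subtype.val e)⟩
  haveI := S.2.center_nontrivial
  obtain ⟨⟨u, hu⟩, hu1⟩ := exists_ne (1 : center ↥(S : Subgroup G))
  have huQ : (u : G) ∈ p.Q := p.cQ (mem_centralizer_iff.mpr fun q hq =>
    congrArg Subtype.val (mem_center_iff.mp hu ⟨q, hQS hq⟩))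
  have hz : (u : G) = z := (p.X.cen _ huQ fun q hq => congrArg Subtype.val (mem_center_iff.mp hu ⟨q, hQS hq⟩)).resolve_left
    fun e => hu1 (Subtype.ext (Subtype.ext e))
  obtain ⟨S1, hS1⟩ := (show IsPGroup 2 ↥(zpowers y) from fun x => ⟨1, by
    obtain ⟨i, hi⟩ := mem_zpowers_iff.mp x.2
    refine Subtype.ext ?_
    show (x : G) ^ 2 = 1
    rw [← hi, ← zpow_natCast, ← zpow_mul, mul_comm, zpow_mul, zpow_natCast, pow_two, hy, one_zpow]⟩).exists_le_sylow
  obtain ⟨g, rfl⟩ := MulAction.exists_smul_eq G S1 S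
  refine ⟨g, ?_⟩
  have hg : g * y * g⁻¹ ∈ ((g • S1 : Sylow 2 G) : Subgroup G) := by
    rw [Sylow.coe_subgroup_smul]
    exact ⟨y, hS1 (mem_zpowers y), rfl⟩
  rw [← hz]
  exact congrArg Subtype.val (mem_center_iff.mp hu ⟨_, hg⟩)

end Pt

/-- Exactly three classes of involutions. -/
theorem three_classes (c : Ctx z) : ∃ a b d : G, orderOf a = 2 ∧ orderOf b = 2 ∧ orderOf d = 2 ∧ ¬ IsConj a b ∧
    ¬ IsConj a d ∧ ¬ IsConj b d ∧ ∀ x : G, orderOf x = 2 → IsConj x a ∨ IsConj x b ∨ IsConj x d := by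
  haveI : Fact (Nat.Prime 2) := ⟨Nat.prime_two⟩
  obtain ⟨p⟩ := c.exists_pt
  obtain ⟨q1, r1, hq1, hr1, a1, b1⟩ := p.exists_tt
  obtain ⟨q2, r2, hq2, hr2, a2, b2⟩ := p.exists_ti
  have ord : ∀ {q r : G}, p.A q → p.R r → qB (p.α q) = pB (p.α q) (p.β r) → qB (p.β r) = pB (p.α q) (p.β r) →
      p.β r ≠ 0 → orderOf (q * r) = 2 := fun {q r} hq hr h1 h2 hb => by
    refine orderOf_eq_prime (by rw [pow_two]; exact (p.prod_sq hq hr).mpr ⟨h1, h2⟩) fun e => hb ?_
    refine (p.β_zero hr).mpr ?_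
    rw [show r = q⁻¹ * (q * r) by group, e, mul_one]
    exact inv_mem hq.1
  refine ⟨z, q1 * r1, q2 * r2, p.hz, ord hq1 hr1 (by rw [a1, b1]; decide) (by rw [a1, b1]; decide)
      (by rw [b1]; decide), ord hq2 hr2 (by rw [a2, b2]; decide) (by rw [a2, b2]; decide) (by rw [b2]; decide),
    p.tt_not_z hq1 hr1 a1 b1, p.ti_not_z hq2 hr2 a2 b2, p.tt_not_ti hq1 hr1 a1 b1 hq2 hr2 a2 b2, fun x hx => ?_⟩
  have hxx : x * x = 1 := by rw [← pow_two, ← hx, pow_orderOf_eq_one]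
  obtain ⟨g, hg⟩ := Pt.involution_into_C p hxx
  have hx1 : g * x * g⁻¹ ≠ 1 := fun e => by rw [conj_eq_one_iff.mp e, orderOf_one] at hx; norm_num at hx
  have hcj : IsConj x (g * x * g⁻¹) := isConj_iff.mpr ⟨g, rfl⟩
  rcases p.central_involutions hg (by
      rw [show g * x * g⁻¹ * (g * x * g⁻¹) = g * (x * x) * g⁻¹ by group, hxx, mul_one, mul_inv_cancel]) hx1
      hq1 hr1 a1 b1 hq2 hr2 a2 b2 with h | h | h
  · exact Or.inl (hcj.trans h.symm)
  · exact Or.inr (Or.inl (hcj.trans h.symm))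
  · exact Or.inr (Or.inr (hcj.trans h.symm))

end Cfsg.Lib.ConwayType
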