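import Cfsg.Agent.ConwayType.FiveMove

/-!
The moved alternating group equals the original one.
-/

set_option autoImplicit false
set_option maxRecDepth 100000
set_option maxHeartbeats 1000000
set_option linter.unusedSectionVars false
set_option linter.style.haveILetI false

namespace Cfsg.Lib.ConwayType

open Subgroup Cfsg.Lib.ConwayType.Code Cfsg.Lib.ConwayType.Five
open scoped commutatorElement

universe u

variable {G : Type u} [Group G] [Finite G] {z : G}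

namespace Fv

variable (p : Fv z)

theorem M_T {y : G} (hy : y ∈ p.toCtx.M) : p.T y :=
  ⟨p.toCtx.M_z hy, p.toCtx.mem_M.mp hy p.s p.hs (by rw [p.πs]; decide)⟩

theorem Ag_CH : p.Ag ≤ p.CH := fun _ hy =>
  p.mem_CH.mpr ⟨p.M_T (p.Ag_M hy), fun _ hh => p.Ag_K (p.mem_H0.mp hh).1 hy⟩

/-- The moved group. -/
noncomputable def Ag' : Subgroup G := p.Ag.map (MulAut.conj p.x).toMonoidHom

theorem x_inv_spec : p.x⁻¹ * z * p.x⁻¹⁻¹ = p.s ∧ p.x⁻¹ * p.s * p.x⁻¹⁻¹ = z ∧ Commute p.x⁻¹ p.b := by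
  obtain ⟨h1, h2, h3⟩ := p.x_spec
  exact ⟨by rw [inv_inv, mul_assoc, ← mul_inv_eq_iff_eq_mul.mp h2, inv_mul_cancel_left],
    by rw [inv_inv, mul_assoc, ← mul_inv_eq_iff_eq_mul.mp h1, inv_mul_cancel_left], h3.inv_left⟩

theorem Ag'_CH : p.Ag' ≤ p.CH := by
  rintro _ ⟨y, hy, rfl⟩
  show p.x * y * p.x⁻¹ ∈ p.CH
  obtain ⟨hT, hc⟩ := p.mem_CH.mp (p.Ag_CH hy)
  obtain ⟨h1, h2, -⟩ := p.x_spec
  refine p.mem_CH.mpr ⟨⟨?_, ?_⟩, fun h hh => ?_⟩
  · have := (Commute.conj_iff p.x).mpr hT.2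
    rwa [h2] at this
  · have := (Commute.conj_iff p.x).mpr hT.1
    rwa [h1] at this
  · obtain ⟨i1, i2, i3⟩ := p.x_inv_spec
    have hm := p.H0_conj i1 i2 i3 hh
    have := (Commute.conj_iff p.x).mpr (hc _ hm)
    rwa [show p.x * (p.x⁻¹ * h * p.x⁻¹⁻¹) * p.x⁻¹ = h by group] at this

theorem b_Ag' : p.b ∈ p.Ag' :=
  ⟨p.b, p.b_Ag, show p.x * p.b * p.x⁻¹ = p.b by rw [p.x_spec.2.2.eq, mul_inv_cancel_right]⟩

/-- The action of the moved group on the points. -/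
noncomputable def top' : ↥p.Ag' →* Equiv.Perm (Fin 5) :=
  Five.tau.comp (p.mCH.comp (Subgroup.inclusion p.Ag'_CH))

theorem top'_b : p.top' ⟨p.b, p.b_Ag'⟩ = perm ⟨e5, e5_O1⟩ := by
  show Five.tau (p.mCH _) = Five.tau (Subgroup.inclusion O1_le_St ⟨e5, e5_O1⟩)
  exact congrArg Five.tau (Subtype.ext p.mb)

theorem top'_inj : Function.Injective p.top' := by
  obtain ⟨e⟩ := p.Ag_equiv
  haveI := alternatingGroup.isSimpleGroup_five
  haveI : IsSimpleGroup ↥p.Ag := e.isSimpleGroup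
  haveI : IsSimpleGroup ↥p.Ag' :=
    (p.Ag.equivMapOfInjective _ (MulAut.conj p.x).injective).symm.isSimpleGroup
  refine (MonoidHom.ker_eq_bot_iff p.top').mp
    ((IsSimpleGroup.eq_bot_or_eq_top_of_normal _ inferInstance).resolve_right fun h => ?_)
  have := h.ge (mem_top ⟨p.b, p.b_Ag'⟩)
  rw [MonoidHom.mem_ker, p.top'_b] at this
  exact (perm_tables _ _ perm_e5 perm_e2).2.1 this

theorem top'_range : p.top'.range = alternatingGroup (Fin 5) := by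
  refine Equiv.Perm.eq_alternatingGroup_of_index_eq_two ?_
  have h := p.top'.range.card_mul_index
  rw [← Nat.card_congr (MonoidHom.ofInjective p.top'_inj).toEquiv, Nat.card_perm, Nat.card_fin,
    show Nat.card ↥p.Ag' = 60 by
      unfold Ag'
      rw [← Nat.card_congr (p.Ag.equivMapOfInjective _ (MulAut.conj p.x).injective).toEquiv, p.Ag_card]] at h
  norm_num [Nat.factorial] at h
  omega

theorem a_Ag' : p.a ∈ p.Ag' := by
  obtain ⟨haM, haa, hma, hba⟩ := p.a_spec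
  obtain ⟨s5, sne, tt, tne, st3, stne, ss, ts⟩ := perm_tables _ _ perm_e5 perm_e2
  obtain ⟨⟨a', ha'⟩, he⟩ : perm ⟨e2, e2_O1⟩ ∈ p.top'.range := by
    rw [p.top'_range]; exact Equiv.Perm.mem_alternatingGroup.mpr ts
  have h2 : a' * a' = 1 := congrArg Subtype.val (p.top'_inj (show p.top' (⟨a', ha'⟩ * ⟨a', ha'⟩) = p.top' 1 by
    rw [map_mul, map_one, he, tt]))
  have h3 : (p.b * a') ^ 3 = 1 :=
    congrArg Subtype.val (p.top'_inj (show p.top' ((⟨p.b, p.b_Ag'⟩ * ⟨a', ha'⟩) ^ 3) = p.top' 1 by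
      rw [map_pow, map_mul, map_one, he, p.top'_b, st3]))
  have haC := p.Ag_CH p.a_Ag
  have ha'C := p.Ag'_CH ha'
  obtain ⟨n, hn⟩ : ∃ n, n = a' * p.a := ⟨_, rfl⟩
  have hnC : n ∈ p.CH := hn ▸ mul_mem ha'C haC
  have hn1 : Five.tau (p.mCH ⟨n, hnC⟩) = 1 := by
    have e : Five.tau (p.mCH ⟨p.a, haC⟩) = perm ⟨e2, e2_O1⟩ := congrArg Five.tau (Subtype.ext hma)
    have e' : Five.tau (p.mCH ⟨a', ha'C⟩) = perm ⟨e2, e2_O1⟩ := he
    rw [show (⟨n, hnC⟩ : ↥p.CH) = ⟨a', ha'C⟩ * ⟨p.a, haC⟩ from Subtype.ext hn, map_mul, map_mul, e, e', tt]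
  obtain ⟨u, hu, v, hv, hP⟩ := p.kernel_pair hn1
  change p.toPt.Pair n u v at hP
  have hna : n * p.a = a' := by rw [hn, mul_assoc, haa, mul_one]
  have haT := p.M_T haM
  obtain ⟨t, ht⟩ : ∃ t, t = p.b * p.a := ⟨_, rfl⟩
  have htT : p.T t := ht ▸ p.T_mul p.b_T haT
  have mt : p.toCtx.m t = e5 * e2 := by rw [ht, p.toCtx.m_mul p.bz (p.toCtx.M_z haM), p.mb, hma]
  have htO : p.toCtx.m t ∈ O1 := mt ▸ mul_mem e5_O1 e2_O1
  have sb : ∀ w ∈ V1, sa (p.toCtx.m p.b) w = c5 w ∧ c5 w ∈ V1 := fun w hw => by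
    rw [p.mb, sa_O1 e5_O1 hw, ← cd_e5 (V1_lt w hw)]; exact ⟨rfl, keep_V1 e5_O1.2 hw⟩
  have sA : ∀ w ∈ V1, sa (p.toCtx.m p.a) w = c2 w := fun w hw => by
    rw [hma, sa_O1 e2_O1 hw, cd_e2 (V1_lt w hw)]
  have st : ∀ w ∈ V1, sa (p.toCtx.m t) w = c5 (c2 w) ∧ c5 (c2 w) ∈ V1 := fun w hw => by
    rw [sa_O1 htO hw, mt, ← cd_e52 (V1_lt w hw)]; exact ⟨rfl, keep_V1 (mul_mem e5_O1 e2_O1 : e5 * e2 ∈ O1).2 hw⟩
  -- the two relations
  have r1 := hP.mul (hP.conj haT)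
  rw [show n * (p.a * n * p.a⁻¹) = 1 by
    rw [inv_eq_of_mul_eq_one_right haa, show n * (p.a * n * p.a) = n * p.a * (n * p.a) by group, hna, h2],
    sA u hu, sA v hv] at r1
  obtain ⟨f1, g1'⟩ := r1.one
  have hb' := hP.conj p.b_T
  rw [(sb u hu).1, (sb v hv).1] at hb'
  have hb'' := hb'.conj htT
  rw [(st _ (sb u hu).2).1, (st _ (sb v hv).2).1] at hb''
  have hb3 := hb''.conj htT
  rw [(st _ (st _ (sb u hu).2).2).1, (st _ (st _ (sb v hv).2).2).1] at hb3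
  have r2 := (hb'.mul hb'').mul hb3
  have ht3 : t ^ 3 = 1 := by rw [ht]; exact hba
  rw [show p.b * n * p.b⁻¹ * (t * (p.b * n * p.b⁻¹) * t⁻¹) * (t * (t * (p.b * n * p.b⁻¹) * t⁻¹) * t⁻¹) = 1 by
    calc _ = (p.b * n * p.b⁻¹ * t) ^ 3 * (t ^ 3)⁻¹ := by simp only [pow_succ, pow_zero, one_mul]; group
      _ = (p.b * a') ^ 3 * (t ^ 3)⁻¹ := by rw [ht, ← hna]; group
      _ = 1 := by rw [h3, ht3]; group] at r2
  obtain ⟨f2, g2'⟩ := r2.one
  have u0 := rel_zero u hu (xor_eq_zero'.mp f1).symm f2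
  have v0 := rel_zero v hv (xor_eq_zero'.mp g1').symm g2'
  subst u0 v0
  have hE := Pt.Pair.zero hP
  have hc := p.E_central hE htT
  have hcb := p.E_central hE p.b_T
  have : n = 1 := by
    have e : (p.b * a') ^ 3 = n ^ 3 * t ^ 3 := by
      rw [← hna, ← mul_assoc, hcb.eq, mul_assoc, ← ht, hc.symm.mul_pow]
    rw [h3, ht3, mul_one, show n ^ 3 = n * n * n by simp [pow_succ, mul_assoc], p.E_sq hE, one_mul] at e
    exact e.symm
  rw [this, one_mul] at hna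
  exact hna ▸ ha'

theorem Ag'_eq : p.Ag' = p.Ag := by
  refine (Subgroup.eq_of_le_of_card_ge ?_ (le_of_eq ?_)).symm
  · rw [Ag, closure_le, Set.insert_subset_iff, Set.singleton_subset_iff]
    exact ⟨p.b_Ag', p.a_Ag'⟩
  · exact (Nat.card_congr (p.Ag.equivMapOfInjective _ (MulAut.conj p.x).injective).toEquiv).symm

theorem x_norm : p.x ∈ normalizer (p.Ag : Set G) := by
  rw [mem_normalizer_iff]
  intro y
  constructor
  · intro hy
    exact p.Ag'_eq.le ⟨y, hy, rfl⟩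
  · intro hy
    obtain ⟨w, hw, e⟩ := p.Ag'_eq.ge hy
    have : w = y := (MulAut.conj p.x).injective e
    exact this ▸ hw

end Fv

end Cfsg.Lib.ConwayType
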