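import Cfsg.Agent.ConwayType.Code

/-!
Coded tables for two orthogonal four-spaces of elliptic type and elements of order five in one side.
-/

set_option autoImplicit false
set_option maxRecDepth 100000
set_option maxHeartbeats 2000000

namespace Cfsg.Lib.ConwayType.Code

/-- The first four-space. -/
def V0 : List ℕ := [0, 1, 16, 17, 34, 35, 50, 51, 70, 71, 86, 87, 100, 101, 116, 117]

/-- The second four-space. -/
def V1 : List ℕ := [0, 8, 38, 46, 68, 76, 98, 106, 128, 136, 166, 174, 196, 204, 226, 234]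

/-- The singular points of the second four-space. -/
def P1 : List ℕ := [8, 128, 174, 204, 234]

/-- Siegel pairs. -/
def gF : List (ℕ × ℕ) := [(204, 68), (8, 38), (8, 98), (2, 4), (9, 144), (4, 34), (8, 68)]

/-- The word of order five. -/
def w5 : List ℕ := [0, 1]

/-- The word of order two. -/
def w2 : List ℕ := [2]

/-- The word exchanging the two four-spaces. -/
def wX : List ℕ := [3, 4]

/-- The word normalising the cyclic group of order five and fixing the point. -/
def wN : List ℕ := [5, 6]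

/-- The coded element of order five. -/
def c5 (x : ℕ) : ℕ := wact gF w5 x

/-- The coded element of order two. -/
def c2 (x : ℕ) : ℕ := wact gF w2 x

/-- The coded exchange. -/
def cX (x : ℕ) : ℕ := wact gF wX x

/-- The coded normalising element. -/
def cN (x : ℕ) : ℕ := wact gF wN x

theorem gF_ok : ∀ t ∈ gF, t.1 < 256 ∧ t.2 < 256 ∧ qB t.1 = false ∧ pB t.1 t.2 = false := by decide +kernel

theorem words_ok : ∀ w ∈ [w5, w2, wX, wN], ∀ i ∈ w, i < gF.length := by decide

theorem V0_lt : ∀ x ∈ V0, x < 256 := by decide +kernel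

theorem V1_lt : ∀ x ∈ V1, x < 256 := by decide +kernel

theorem V0_perp : ∀ x < 256, x ∈ V0 ↔ ∀ v ∈ V1, pB x v = false := by decide +kernel

theorem V1_perp : ∀ x < 256, x ∈ V1 ↔ ∀ v ∈ V0, pB x v = false := by decide +kernel

theorem V0_xor : ∀ a ∈ V0, ∀ b ∈ V0, a ^^^ b ∈ V0 := by decide +kernel

theorem V1_xor : ∀ a ∈ V1, ∀ b ∈ V1, a ^^^ b ∈ V1 := by decide +kernel

theorem V_split : ∀ x < 256, ∃ a ∈ V0, a ^^^ x ∈ V1 := by decide +kernel

theorem V_inter : ∀ x ∈ V0, x ∈ V1 → x = 0 := by decide +kernel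

theorem V1_W : ∀ v ∈ V1, v ∈ W ∧ nr v = v := by decide +kernel

theorem W_V1 : ∀ w ∈ W, pB w 34 = false → pB w 100 = false → w ∈ V1 := by decide +kernel

theorem W_split : ∀ w ∈ W, ∃ a ∈ [0, 34, 100, 34 ^^^ 100], a ^^^ w ∈ V1 := by decide +kernel

theorem P1_iff : ∀ x ∈ V1, x ∈ P1 ↔ x ≠ 0 ∧ qB x = false := by decide +kernel

theorem P1_mem : ∀ x ∈ P1, x ∈ V1 := by decide +kernel

theorem P1_pairs : ∀ v ∈ V1, ∃ a ∈ 0 :: P1, ∃ b ∈ 0 :: P1, a ^^^ b = v := by decide +kernel

theorem c_lt : ∀ x < 256, c5 x < 256 ∧ c2 x < 256 ∧ cX x < 256 ∧ cN x < 256 := by decide +kernel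

theorem c5_fix : ∀ x < 256, c5 x = x ↔ x ∈ V0 := by decide +kernel

theorem c5_five : ∀ x < 256, c5 (c5 (c5 (c5 (c5 x)))) = x := by decide +kernel

theorem c2_two : ∀ x < 256, c2 (c2 x) = x := by decide +kernel

theorem c2_fix : ∀ x ∈ V0, c2 x = x := by decide +kernel

theorem c52_three : ∀ x < 256, c5 (c2 (c5 (c2 (c5 (c2 x))))) = x := by decide +kernel

theorem c5_orbit : ∀ x ∈ P1, ∃ i < 5, c5^[i] 8 = x := by decide +kernel

theorem cX_two : ∀ x < 256, cX (cX x) = x := by decide +kernel

theorem cX_V0 : ∀ x ∈ V0, cX x ∈ V1 := by decide +kernel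

theorem cX_V1 : ∀ x ∈ V1, cX x ∈ V0 := by decide +kernel

theorem cX_one : cX 1 = 8 := by decide +kernel

theorem c2_conj : ∀ x < 256, c2 x = cX (rho 100 (cX x)) := by decide +kernel

theorem cN_one : cN 1 = 1 := by decide +kernel

theorem cN_conj : ∀ x < 256, cN (c5 x) = c5 (c5 (cN x)) := by decide +kernel

/-- Every vector of the side is moved by the element of order five onto every translate. -/
theorem c5_shift : ∀ v ∈ V1, ∃ u ∈ V1, c5 u ^^^ u = v := by decide +kernel

/-- A vector of the second side is paired with one of its images. -/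
theorem irr : ∀ v ∈ V1, v ≠ 0 → pB v (c5 v) = true ∨ pB v (c2 v) = true ∨ pB v (c5 (c5 v)) = true := by decide +kernel

/-- The obstruction to the lift of the relation of order three is a norm. -/
theorem norm_surj : ∀ u ∈ V1, c5 (c2 u) = u → ∃ v ∈ V1,
    c5 (v ^^^ c2 v) ^^^ c5 (c2 (c5 (v ^^^ c2 v))) ^^^ c5 (c2 (c5 (c2 (c5 (v ^^^ c2 v))))) = u := by decide +kernel

/-- A vector killed by both relations vanishes. -/
theorem rel_zero : ∀ v ∈ V1, c2 v = v →
    c5 v ^^^ c5 (c2 (c5 v)) ^^^ c5 (c2 (c5 (c2 (c5 v)))) = 0 → v = 0 := by decide +kernel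

/-- The transvection exchanging two of the points. -/
theorem swap_count : ((List.range 256).filter fun x =>
    Cfsg.Lib.Classical.OrthH1.lN 8 [1, 2, 4, 128, 16, 32, 64, 8] x == x).length = 128 := by decide +kernel

theorem pair_one : pB 34 100 = true := by decide +kernel

end Cfsg.Lib.ConwayType.Code
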