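import Cfsg.Agent.ConwayType.FiveQuot
import Cfsg.Agent.Components.Layer
import Cfsg.Agent.Spor.J2.Group

/-!
The centralizer of the element of order five: its layer and the centralizer of the layer.
-/

set_option autoImplicit false
set_option maxRecDepth 100000
set_option maxHeartbeats 1000000
set_option linter.unusedSectionVars false
set_option linter.style.haveILetI false

namespace Cfsg.Lib.ConwayType

open Subgroup Cfsg.Lib.ConwayType.Code Cfsg.Lib.ConwayType.Five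
open scoped commutatorElement

universe u

variable {G : Type u} [Group G] [Finite G] {z : G}

theorem j2_facts {H : Type*} [Group H] (h : Cfsg.Spor.IsoJ2 H) :
    IsSimpleGroup H ∧ ¬ IsMulCommutative H ∧ Nat.card H = 604800 := by
  obtain ⟨e⟩ := h
  haveI := Cfsg.Lib.J2.J2_simple
  refine ⟨e.isSimpleGroup, fun hc => ?_, by rw [Nat.card_congr e.toEquiv, Cfsg.Lib.J2.card_J2]⟩
  obtain ⟨a, b, hab⟩ := Cfsg.Lib.J2.J2_noncomm
  exact hab (e.symm.injective (by rw [map_mul, map_mul]; exact hc.is_comm.comm _ _))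

theorem isQuasisimple_of_simple {H : Type*} [Group H] [IsSimpleGroup H] (hn : ¬ IsMulCommutative H) :
    Cfsg.IsQuasisimple H := by
  have hz : center H = ⊥ := (IsSimpleGroup.eq_bot_or_eq_top_of_normal _ inferInstance).resolve_right fun h =>
    hn ⟨⟨fun a b => mem_center_iff.mp (h ▸ mem_top b) a⟩⟩
  refine ⟨(Group.isPerfect_def (G := H)).mpr
    ((IsSimpleGroup.eq_bot_or_eq_top_of_normal _ inferInstance).resolve_left fun h =>
      hn ⟨⟨fun a b => commutatorElement_eq_one_iff_mul_comm.mp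
        (Subgroup.mem_bot.mp (h ▸ Subgroup.commutator_mem_commutator (mem_top a) (mem_top b)))⟩⟩), ?_⟩
  exact ((QuotientGroup.quotientMulEquivOfEq hz).trans QuotientGroup.quotientBot).isSimpleGroup

namespace Fv

variable (p : Fv z)

/-- The centralizer of the element of order five. -/
def XX : Subgroup G := centralizer ({p.b} : Set G)

theorem mem_XX {x : G} : x ∈ p.XX ↔ Commute x p.b := mem_centralizer_singleton_iff

theorem b_XX : p.b ∈ p.XX := p.mem_XX.mpr (Commute.refl _)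

instance normal_sub (Y : Subgroup G) [hY : Fact (Y ≤ p.XX)] : ((zpowers p.b).subgroupOf Y).Normal :=
  ⟨fun n hn g => by
    rw [mem_subgroupOf, p.mem_zpowers_b] at hn ⊢
    obtain ⟨i, hi⟩ := hn
    refine ⟨i, ?_⟩
    have hc : Commute (g : G) (p.b ^ i) := (p.mem_XX.mp (hY.out g.2)).pow_right i
    simp only [Subgroup.coe_mul, Subgroup.coe_inv, ← hi, hc.eq, mul_inv_cancel_right]⟩

theorem card_of_quot (hX : Cfsg.IsExtraspecial 2 ↥p.Q0) (hc : Nat.card ↥p.Q0 = 32) (Y : Subgroup G)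
    (hY : Y ≤ p.XX) (hb : p.b ∈ Y) (hK : p.toCtx.K ≤ Y) (hx : p.x ∈ Y) : Nat.card ↥Y = 604800 * 5 := by
  haveI : Fact (Y ≤ p.XX) := ⟨hY⟩
  rw [Subgroup.card_eq_card_quotient_mul_card_subgroup ((zpowers p.b).subgroupOf Y),
    (j2_facts (p.quot_iso hX hc Y hY hb hK hx)).2.2,
    Nat.card_congr (subgroupOfEquivOfLe (zpowers_le.mpr hb)).toEquiv, Nat.card_zpowers, p.b_order]

theorem XX_norm (hX : Cfsg.IsExtraspecial 2 ↥p.Q0) (hc : Nat.card ↥p.Q0 = 32) :
    p.XX ≤ normalizer (p.Ag : Set G) := by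
  have hbN : p.b ∈ normalizer (p.Ag : Set G) := le_normalizer p.b_Ag
  have hKN : p.toCtx.K ≤ normalizer (p.Ag : Set G) := fun k hk => by
    refine centralizer_le_normalizer _ (mem_centralizer_iff.mpr fun y hy => (p.Ag_K hk hy).eq.symm)
  have h1 := p.card_of_quot hX hc p.XX le_rfl p.b_XX (fun k hk => p.mem_XX.mpr (p.b_K hk))
    (p.mem_XX.mpr p.x_spec.2.2)
  have h2 := p.card_of_quot hX hc (p.XX ⊓ normalizer (p.Ag : Set G)) inf_le_left ⟨p.b_XX, hbN⟩
    (fun k hk => ⟨p.mem_XX.mpr (p.b_K hk), hKN hk⟩) ⟨p.mem_XX.mpr p.x_spec.2.2, p.x_norm⟩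
  exact inf_eq_left.mp (Subgroup.eq_of_le_of_card_ge inf_le_left (by rw [h1, h2]))

/-- The centralizer of the alternating group. -/
noncomputable def Yg : Subgroup G := centralizer (p.Ag : Set G)

theorem Yg_le : p.Yg ≤ p.XX := centralizer_le (Set.singleton_subset_iff.mpr p.b_Ag)

theorem K_Yg : p.toCtx.K ≤ p.Yg := fun _ hk => mem_centralizer_iff.mpr fun _ hy => (p.Ag_K hk hy).eq.symm

theorem b_pow_Yg {i : ℕ} (h : p.b ^ i ∈ p.Yg) : p.b ^ i = 1 := by
  by_contra hne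
  obtain ⟨-, haa, -, hba⟩ := p.a_spec
  haveI : Fact (Nat.Prime 5) := ⟨by norm_num⟩
  have hbi : p.b ∈ zpowers (p.b ^ i) := by
    refine mem_zpowers_pow_iff (g := p.b) (k := i) |>.mpr ?_
    rw [p.b_order]
    exact ((Nat.Prime.coprime_iff_not_dvd (by norm_num : Nat.Prime 5)).mpr fun hd =>
      hne (orderOf_dvd_iff_pow_eq_one.mp (p.b_order.symm ▸ hd))).symm
  have hc : Commute p.b p.a := (mem_centralizer_iff.mp (zpowers_le.mpr h hbi) p.a p.a_Ag).symm
  rw [hc.mul_pow] at hba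
  have ha3 : p.a ^ 3 = p.a := by rw [pow_succ, pow_two, haa, one_mul]
  rw [ha3] at hba
  have e : p.a = (p.b ^ 3)⁻¹ := eq_inv_of_mul_eq_one_right hba
  rw [e, ← mul_inv_rev, inv_eq_one, ← pow_add] at haa
  exact absurd (p.b_order ▸ orderOf_dvd_of_pow_eq_one haa) (by norm_num)

theorem core (hX : Cfsg.IsExtraspecial 2 ↥p.Q0) (hc : Nat.card ↥p.Q0 = 32) :
    (Cfsg.Spor.IsoJ2 ↥(Cfsg.layer ↥p.XX) ∧
      Nonempty (↥(centralizer (((Cfsg.layer ↥p.XX).map p.XX.subtype) : Set G)) ≃* alternatingGroup (Fin 5))) := by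
  classical
  have hN := p.XX_norm hX hc
  haveI : Fact (p.XX ≤ p.XX) := ⟨le_rfl⟩
  have hqi := p.quot_iso hX hc p.XX le_rfl p.b_XX (fun k hk => p.mem_XX.mpr (p.b_K hk))
    (p.mem_XX.mpr p.x_spec.2.2)
  obtain ⟨hqs, -, -⟩ := j2_facts hqi
  haveI := hqs
  set N := (zpowers p.b).subgroupOf p.XX with hNdef
  set mk := QuotientGroup.mk' N with hmk
  set Z := p.Yg.subgroupOf p.XX with hZ
  haveI hZn : Z.Normal := ⟨fun n hn g => by
    rw [hZ, mem_subgroupOf] at hn ⊢
    refine mem_centralizer_iff.mpr fun y hy => ?_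
    have hy' : (g : G)⁻¹ * y * g ∈ p.Ag := (mem_normalizer_iff''.mp (hN g.2) y).mp hy
    have := (Commute.conj_iff (g : G)).mpr (mem_centralizer_iff.mp hn _ hy' : Commute _ (n : G))
    rw [show (g : G) * ((g : G)⁻¹ * y * g) * (g : G)⁻¹ = y by group] at this
    exact this.eq⟩
  have hcap : ∀ u : ↥p.XX, u ∈ Z → u ∈ N → u = 1 := fun u hu hu' => by
    obtain ⟨i, hi⟩ := p.mem_zpowers_b.mp (mem_subgroupOf.mp hu')
    exact Subtype.ext (hi.symm.trans (p.b_pow_Yg (by rw [hi]; exact hu)))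
  let f : ↥Z →* ↥p.XX ⧸ N := mk.comp Z.subtype
  have hinj : Function.Injective f := (injective_iff_map_eq_one f).mpr fun u hu =>
    Subtype.ext (hcap u u.2 ((QuotientGroup.eq_one_iff _).mp hu))
  haveI : f.range.Normal := by
    rw [show f.range = Z.map mk by rw [MonoidHom.range_eq_map, ← Subgroup.map_map, ← MonoidHom.range_eq_map,
      Subgroup.range_subtype]]
    exact Subgroup.Normal.map hZn _ (QuotientGroup.mk'_surjective N)
  have hsurj : f.range = ⊤ := by
    refine (IsSimpleGroup.eq_bot_or_eq_top_of_normal _ inferInstance).resolve_left fun h => p.y1_ne ?_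
    have hm : (⟨p.y1, p.mem_XX.mpr (p.b_K p.y1_K)⟩ : ↥p.XX) ∈ Z := p.K_Yg p.y1_K
    have := h.le (MonoidHom.mem_range.mpr ⟨⟨_, hm⟩, rfl⟩)
    rw [Subgroup.mem_bot, ← map_one f] at this
    exact congrArg (fun w : ↥Z => ((w : ↥p.XX) : G)) (hinj this)
  let eZ : ↥Z ≃* ↥p.XX ⧸ N := MulEquiv.ofBijective f ⟨hinj, MonoidHom.range_eq_top.mp hsurj⟩
  have hJ : Cfsg.Spor.IsoJ2 ↥Z := ⟨eZ.trans hqi.some⟩
  obtain ⟨hZs, hZc, -⟩ := j2_facts hJ
  haveI := hZs
  have hZcen : center ↥Z = ⊥ := (IsSimpleGroup.eq_bot_or_eq_top_of_normal _ inferInstance).resolve_right fun h =>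
    hZc ⟨⟨fun a b => mem_center_iff.mp (h ▸ mem_top b) a⟩⟩
  have hcomp : Cfsg.IsComponent Z := ⟨hZn.isSubnormal, isQuasisimple_of_simple hZc⟩
  have hlay : Cfsg.layer ↥p.XX = Z := by
    refine le_antisymm (sSup_le fun L hL => ?_) (Cfsg.Lib.Components.comp_le_layer hcomp)
    by_cases hLZ : L = Z
    · exact hLZ.le
    exfalso
    have hcm := Cfsg.Lib.Components.comp_commute hL hcomp hLZ
    have hLN : L ≤ N := fun l hl => by
      obtain ⟨⟨y, hy⟩, e⟩ := eZ.surjective (mk l)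
      change mk y = mk l at e
      have hd : y⁻¹ * l ∈ N := (QuotientGroup.eq_one_iff _).mp (by
        show mk (y⁻¹ * l) = 1
        rw [map_mul, map_inv, e, inv_mul_cancel])
      have hy1 : y = 1 := by
        have : (⟨y, hy⟩ : ↥Z) ∈ center ↥Z := by
          rw [mem_center_iff]
          intro w
          have h1 : Commute l (w : ↥p.XX) :=
            commutatorElement_eq_one_iff_commute.mp (Subgroup.mem_bot.mp (hcm.le (commutator_mem_commutator hl w.2)))
          obtain ⟨i, hi⟩ := p.mem_zpowers_b.mp (mem_subgroupOf.mp hd)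
          have h2 : Commute (y⁻¹ * l) (w : ↥p.XX) := Subtype.ext (by
            show ((y⁻¹ * l : ↥p.XX) : G) * ((w : ↥p.XX) : G) = ((w : ↥p.XX) : G) * ((y⁻¹ * l : ↥p.XX) : G)
            rw [← hi]
            exact ((p.mem_XX.mp (w : ↥p.XX).2).symm.pow_left i).eq)
          have h3 := h1.mul_left h2.inv_left
          rw [mul_inv_rev, inv_inv, mul_inv_cancel_left] at h3
          exact Subtype.ext h3.symm.eq
        rw [hZcen, Subgroup.mem_bot] at this
        exact congrArg Subtype.val this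
      rwa [hy1, inv_one, one_mul] at hd
    refine Cfsg.Lib.Components.comp_not_isMulCommutative hL ⟨⟨fun a b => Subtype.ext (Subtype.ext ?_)⟩⟩
    obtain ⟨i, hi⟩ := p.mem_zpowers_b.mp (mem_subgroupOf.mp (hLN a.2))
    obtain ⟨j, hj⟩ := p.mem_zpowers_b.mp (mem_subgroupOf.mp (hLN b.2))
    show ((a : ↥p.XX) : G) * ((b : ↥p.XX) : G) = ((b : ↥p.XX) : G) * ((a : ↥p.XX) : G)
    rw [← hi, ← hj, ← pow_add, add_comm, pow_add]
  refine ⟨by rw [hlay]; exact hJ, ?_⟩
  rw [hlay, hZ, map_subgroupOf_eq_of_le p.Yg_le]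
  -- the centralizer of the layer
  have hzY : z ∈ p.Yg := p.K_Yg ((p.toCtx.Q_K p.X.mem).mpr (by rw [p.toCtx.pi_z]; decide))
  have hM : centralizer (p.Yg : Set G) ≤ p.toCtx.M := fun y hy => p.toCtx.mem_M.mpr fun q hq hv =>
    (mem_centralizer_iff.mp hy q (p.K_Yg ((p.toCtx.Q_K hq).mpr hv))).symm
  have hle : p.Ag ≤ centralizer (p.Yg : Set G) := fun a ha => mem_centralizer_iff.mpr fun y hy =>
    (mem_centralizer_iff.mp hy a ha).symm
  have hzC : z ∉ centralizer (p.Yg : Set G) := fun hz => by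
    have hzX : z ∈ p.XX := p.Yg_le hzY
    have : (⟨⟨z, hzX⟩, hzY⟩ : ↥Z) ∈ center ↥Z := by
      rw [mem_center_iff]
      intro w
      exact Subtype.ext (Subtype.ext (mem_centralizer_iff.mp hz _ w.2))
    rw [hZcen, Subgroup.mem_bot] at this
    exact p.X.ne (congrArg (fun w : ↥Z => ((w : ↥p.XX) : G)) this)
  have hinj' : Function.Injective (p.toCtx.mM.comp (Subgroup.inclusion hM)) :=
    (injective_iff_map_eq_one _).mpr fun ⟨q, hq⟩ h => by
      have hQ : q ∈ p.Q := p.toCtx.mM_ker.mp h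
      have hv := (p.toCtx.Q_M hQ).mp (hM hq)
      by_cases h0 : p.π q = 0
      · rcases (p.π_zero q hQ).mp h0 with e | e
        · exact Subtype.ext e
        · exact absurd (e ▸ hq) hzC
      exfalso
      obtain ⟨g, hg, hp⟩ : ∃ g, g ∈ p.Ag ∧ pB (p.π q) (p.π (g * q * g⁻¹)) = true := by
        rcases irr _ hv h0 with e | e | e
        · exact ⟨p.b, p.b_Ag, by rw [p.toCtx.act p.bz hQ, p.mb, cd_e5 (p.π_lt q)]; exact e⟩
        · exact ⟨p.a, p.a_Ag, by
            rw [p.toCtx.act (p.toCtx.M_z p.a_spec.1) hQ, p.a_spec.2.2.1, cd_e2 (p.π_lt q)]; exact e⟩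
        · refine ⟨p.b ^ 2, pow_mem p.b_Ag 2, ?_⟩
          rw [p.toCtx.act (p.bz.pow_left 2) hQ, p.m_b_pow, cd_e5_pow 2 (p.π_lt q)]
          exact e
      have hgq : g * q * g⁻¹ ∈ centralizer (p.Yg : Set G) := mul_mem (mul_mem (hle hg) hq) (inv_mem (hle hg))
      have hcom := p.toCtx.comm_V1 hQ (p.toCtx.norm (p.toCtx.M_z (p.Ag_M hg)) hQ) hp
      refine hzC ?_
      have := Subgroup.commutator_le_self _ (commutator_mem_commutator hq hgq)
      rwa [hcom] at this
  have hcard : Nat.card ↥(centralizer (p.Yg : Set G)) ≤ 60 :=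
    card_O1 ▸ Nat.card_le_card_of_injective _ hinj'
  have heq : p.Ag = centralizer (p.Yg : Set G) := Subgroup.eq_of_le_of_card_ge hle (by rw [p.Ag_card]; exact hcard)
  rw [← heq]
  exact p.Ag_equiv

end Fv

end Cfsg.Lib.ConwayType
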