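import Cfsg.Agent.ConwayType.FiveLift
import Cfsg.Agent.Presentations.BinaryIcosahedral

/-!
An alternating group of degree five containing the element of order five in the second factor.
-/

set_option autoImplicit false
set_option maxRecDepth 100000
set_option maxHeartbeats 1000000
set_option linter.unusedSectionVars false
set_option linter.style.haveILetI false

namespace Cfsg.Lib.ConwayType

open Subgroup Cfsg.Lib.ConwayType.Code Cfsg.Lib.ConwayType.Five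
open scoped commutatorElement

universe u

variable {G : Type u} [Group G] [Finite G] {z : G}

theorem closure_sixty {b a : G} (hb : b ^ 5 = 1) (ha : a * a = 1) (hba : (b * a) ^ 3 = 1) :
    Nat.card ↥(closure ({b, a} : Set G)) ≤ 60 := by
  classical
  let gens : Fin 2 → G := ![(b * a)⁻¹, b]
  have hrels : ∀ r ∈ Cfsg.Lib.Presentations.icosaRels, FreeGroup.lift gens r = 1 := by
    intro r hr
    simp only [Cfsg.Lib.Presentations.icosaRels, Set.mem_insert_iff, Set.mem_singleton_iff] at hr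
    rcases hr with rfl | rfl | rfl
    · simp [gens, -mul_inv_rev, inv_pow, hba]
    · simp [gens, hb]
    · simp [gens, pow_two, mul_inv_rev, inv_eq_of_mul_eq_one_right ha, ha]
  let φ : PresentedGroup Cfsg.Lib.Presentations.icosaRels →* G := PresentedGroup.toGroup hrels
  obtain ⟨hfin, hle⟩ := Cfsg.Lib.Presentations.icosa_card
  haveI := hfin
  have h : closure ({b, a} : Set G) ≤ φ.range := by
    have h0 : (b * a)⁻¹ ∈ φ.range := ⟨PresentedGroup.of 0, PresentedGroup.toGroup.of hrels⟩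
    have h1 : b ∈ φ.range := ⟨PresentedGroup.of 1, PresentedGroup.toGroup.of hrels⟩
    rw [closure_le, Set.insert_subset_iff, Set.singleton_subset_iff]
    refine ⟨h1, ?_⟩
    have := mul_mem (inv_mem h1) (inv_mem h0)
    rwa [inv_inv, inv_mul_cancel_left] at this
  calc Nat.card ↥(closure ({b, a} : Set G)) ≤ Nat.card ↥φ.range :=
        Nat.le_of_dvd Nat.card_pos (Subgroup.card_dvd_of_le h)
    _ ≤ Nat.card (PresentedGroup Cfsg.Lib.Presentations.icosaRels) :=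
        Nat.card_le_card_of_surjective φ.rangeRestrict φ.rangeRestrict_surjective
    _ ≤ 60 := hle

namespace Pt

variable (p : Pt z)

/-- The first component of the noncentral involution. -/
noncomputable def tq : G := p.exists_tt.choose

/-- The second component of the noncentral involution. -/
noncomputable def tr : G := p.exists_tt.choose_spec.choose

theorem tt_spec : p.A p.tq ∧ p.R p.tr ∧ p.α p.tq = 34 ∧ p.β p.tr = 100 := p.exists_tt.choose_spec.choose_spec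

/-- A radical element of the first factor with given vector. -/
theorem R_K {r : G} (hr : p.R r) (h : ∀ v ∈ V1, pB v (p.β r) = false) : r ∈ p.toCtx.K :=
  p.toCtx.mem_K.mpr fun q hq hv => by
    obtain ⟨-, hnr⟩ := V1_W _ hv
    have hA : p.A q := p.A_of_perp hq (by rw [pB_comm]; exact (V1_perp _ (p.π_lt q)).mp hv 1 (by decide))
    refine (p.cab_one hA hr ?_).symm
    rw [show p.α q = p.π q from hnr]
    exact h _ hv

theorem A_K {q : G} (hq : p.A q) (h : p.α q ∈ [0, 34, 100, 70]) : q ∈ p.toCtx.K := by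
  refine (p.toCtx.Q_K hq.1).mpr ?_
  have key : ∀ x < 256, pB 1 x = false → nr x ∈ [0, 34, 100, 70] → x ∈ V0 := by decide +kernel
  exact key _ (p.π_lt q) (p.A_perp hq) h

/-- The noncentral involution. -/
noncomputable def y1 : G := p.tq * p.tr

theorem y1_K : p.y1 ∈ p.toCtx.K := by
  obtain ⟨hq, hr, a, b⟩ := p.tt_spec
  exact mul_mem (p.A_K hq (by rw [a]; decide)) (p.R_K hr (by rw [b]; decide +kernel))

theorem y1_sq : p.y1 * p.y1 = 1 := by
  obtain ⟨hq, hr, a, b⟩ := p.tt_spec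
  exact (p.prod_sq hq hr).mpr ⟨by rw [a, b]; decide, by rw [a, b]; decide⟩

theorem y1_not_z : ¬ IsConj z p.y1 := by
  obtain ⟨hq, hr, a, b⟩ := p.tt_spec
  exact p.tt_not_z hq hr a b

theorem m_y1 : p.toCtx.m p.y1 = rhoE 100 (by decide) := by
  obtain ⟨hq, hr, -, b⟩ := p.tt_spec
  rw [y1, p.toCtx.m_mul (p.X.central _ hq.1) hr.2, (p.toCtx.m_one_iff (p.X.central _ hq.1)).mpr hq.1, one_mul,
    p.m_eq_rhoE hr (by decide) b]

/-- Its image in the second factor. -/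
noncomputable def y2 : G := p.wEl * p.y1 * p.wEl⁻¹

theorem y2_M : p.y2 ∈ p.toCtx.M := p.toCtx.K_to_M.mp p.y1_K

theorem y2_sq : p.y2 * p.y2 = 1 := by
  rw [y2, show p.wEl * p.y1 * p.wEl⁻¹ * (p.wEl * p.y1 * p.wEl⁻¹) = p.wEl * (p.y1 * p.y1) * p.wEl⁻¹ by group,
    p.y1_sq, mul_one, mul_inv_cancel]

theorem m_y2 : p.toCtx.m p.y2 = e2 := by
  rw [y2, p.toCtx.m_mul (p.wEl_z.mul_left (p.toCtx.K_z p.y1_K)) p.wEl_z.inv_left,
    p.toCtx.m_mul p.wEl_z (p.toCtx.K_z p.y1_K), p.toCtx.m_inv p.wEl_z, p.m_wEl, p.m_y1, e2_conj]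

end Pt

namespace Fv

variable (p : Fv z)

theorem exists_invol : ∃ a ∈ p.toCtx.M, a * a = 1 ∧ p.toCtx.m a = e2 ∧ (p.b * a) ^ 3 = 1 := by
  have bM := p.b_M
  have yM := p.y2_M
  set y := p.y2 with hy
  set t := p.b * y with ht
  have tM : t ∈ p.toCtx.M := mul_mem bM yM
  have mt : p.toCtx.m t = e5 * e2 := by rw [ht, p.toCtx.m_mul p.bz (p.toCtx.M_z yM), p.mb, hy, p.m_y2]
  have t3Q : t ^ 3 ∈ p.Q := p.toCtx.mM_ker (x := ⟨t, tM⟩ ^ 3) |>.mp (by
    rw [map_pow]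
    refine Subtype.ext ?_
    show (p.toCtx.m t) ^ 3 = 1
    rw [mt]; exact e52_three)
  have hu : p.π (t ^ 3) ∈ V1 := (p.toCtx.Q_M t3Q).mp (pow_mem tM 3)
  have hact : ∀ q ∈ p.Q, p.π (t * q * t⁻¹) = c5 (c2 (p.π q)) := fun q hq => by
    rw [p.toCtx.act (p.toCtx.M_z tM) hq, mt, cd_e52 (p.π_lt q)]
  have hfix : c5 (c2 (p.π (t ^ 3))) = p.π (t ^ 3) := by
    rw [← hact _ t3Q, show t * t ^ 3 * t⁻¹ = t ^ 3 by group]
  obtain ⟨v, hv, he⟩ := norm_surj _ hu hfix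
  obtain ⟨q, hq, rfl⟩ := p.π_surj v (V1_lt v hv)
  have qM : q ∈ p.toCtx.M := (p.toCtx.Q_M hq).mpr hv
  obtain ⟨k, hk⟩ : ∃ k, k = q * (y * q⁻¹ * y⁻¹) := ⟨_, rfl⟩
  have hn := p.toCtx.norm (p.toCtx.M_z yM) (inv_mem hq)
  have kQ : k ∈ p.Q := hk ▸ mul_mem hq hn
  have hπk : p.π k = p.π q ^^^ c2 (p.π q) := by
    rw [hk, p.π_mul _ hq _ hn, p.toCtx.act (p.toCtx.M_z yM) (inv_mem hq), hy, p.m_y2, p.toCtx.pi_inv hq,
      cd_e2 (p.π_lt q)]
  obtain ⟨a, ha⟩ : ∃ a, a = q * y * q⁻¹ := ⟨_, rfl⟩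
  have haM : a ∈ p.toCtx.M := ha ▸ mul_mem (mul_mem qM yM) (inv_mem qM)
  have haa : a * a = 1 := by
    rw [ha, show q * y * q⁻¹ * (q * y * q⁻¹) = q * (y * y) * q⁻¹ by group, hy, p.y2_sq, mul_one, mul_inv_cancel]
  have hma : p.toCtx.m a = e2 := by
    rw [ha, p.toCtx.m_mul ((p.X.central _ hq).mul_left (p.toCtx.M_z yM)) (p.X.central _ (inv_mem hq)),
      p.toCtx.m_mul (p.X.central _ hq) (p.toCtx.M_z yM), (p.toCtx.m_one_iff (p.X.central _ hq)).mpr hq,
      (p.toCtx.m_one_iff (p.X.central _ (inv_mem hq))).mpr (inv_mem hq), hy, p.m_y2, one_mul, mul_one]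
  obtain ⟨l, hl⟩ : ∃ l, l = p.b * k * p.b⁻¹ := ⟨_, rfl⟩
  have lQ : l ∈ p.Q := hl ▸ p.toCtx.norm p.bz kQ
  have hba : p.b * a = l * t := by rw [hl, hk, ha, ht]; group
  have hπl : p.π l = c5 (p.π k) := by rw [hl, p.toCtx.act p.bz kQ, p.mb, cd_e5 (p.π_lt k)]
  have l1 : t * l * t⁻¹ ∈ p.Q := p.toCtx.norm (p.toCtx.M_z tM) lQ
  have l2 : t * (t * l * t⁻¹) * t⁻¹ ∈ p.Q := p.toCtx.norm (p.toCtx.M_z tM) l1
  have h3 : (p.b * a) ^ 3 = l * (t * l * t⁻¹) * (t * (t * l * t⁻¹) * t⁻¹) * t ^ 3 := by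
    rw [hba]; simp only [pow_succ, pow_zero, one_mul]; group
  have hQ3 : (p.b * a) ^ 3 ∈ p.Q := h3 ▸ mul_mem (mul_mem (mul_mem lQ l1) l2) t3Q
  have h0 : p.π ((p.b * a) ^ 3) = 0 := by
    rw [h3, p.π_mul _ (mul_mem (mul_mem lQ l1) l2) _ t3Q, p.π_mul _ (mul_mem lQ l1) _ l2, p.π_mul _ lQ _ l1,
      hact _ l1, hact _ lQ, hπl, hπk, he, Nat.xor_self]
  rcases (p.π_zero _ hQ3).mp h0 with e | e
  · exact ⟨a, haM, haa, hma, e⟩
  · have az := p.toCtx.M_z haM
    have hzM : z ∈ p.toCtx.M := (p.toCtx.Q_M p.X.mem).mpr (by rw [p.toCtx.pi_z]; decide)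
    refine ⟨a * z, mul_mem haM hzM, ?_, ?_, ?_⟩
    · rw [az.symm.mul_mul_mul_comm, haa, p.X.zz, one_mul]
    · rw [p.toCtx.m_mul az (Commute.refl z), (p.toCtx.m_one_iff (Commute.refl z)).mpr p.X.mem, mul_one, hma]
    · rw [← mul_assoc, (p.bz.mul_left az).mul_pow, e,
        show z ^ 3 = z * z * z by simp [pow_succ, mul_assoc], p.X.zz, one_mul, p.X.zz]

/-- The involution. -/
noncomputable def a : G := p.exists_invol.choose

theorem a_spec : p.a ∈ p.toCtx.M ∧ p.a * p.a = 1 ∧ p.toCtx.m p.a = e2 ∧ (p.b * p.a) ^ 3 = 1 :=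
  p.exists_invol.choose_spec

/-- The alternating group. -/
noncomputable def Ag : Subgroup G := closure {p.b, p.a}

theorem b_Ag : p.b ∈ p.Ag := subset_closure (Set.mem_insert _ _)

theorem a_Ag : p.a ∈ p.Ag := subset_closure (Set.mem_insert_of_mem _ rfl)

theorem Ag_M : p.Ag ≤ p.toCtx.M := by
  rw [Ag, closure_le, Set.insert_subset_iff, Set.singleton_subset_iff]
  exact ⟨p.b_M, p.a_spec.1⟩

theorem Ag_K {x y : G} (hx : x ∈ p.toCtx.K) (hy : y ∈ p.Ag) : Commute x y := p.toCtx.KM_comm hx (p.Ag_M hy)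

theorem Ag_card_le : Nat.card ↥p.Ag ≤ 60 := closure_sixty p.b5 p.a_spec.2.1 p.a_spec.2.2.2

theorem Ag_equiv : Nonempty (↥p.Ag ≃* alternatingGroup (Fin 5)) := by
  let f : ↥p.Ag →* Equiv.Perm (Fin 5) := perm.comp (p.toCtx.mM.comp (Subgroup.inclusion p.Ag_M))
  have hb : f ⟨p.b, p.b_Ag⟩ = perm ⟨e5, e5_O1⟩ := congrArg perm (Subtype.ext p.mb)
  have ha : f ⟨p.a, p.a_Ag⟩ = perm ⟨e2, e2_O1⟩ := congrArg perm (Subtype.ext p.a_spec.2.2.1)
  have hle : alternatingGroup (Fin 5) ≤ f.range := alt_le ⟨_, hb⟩ ⟨_, ha⟩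
  have hr : f.range = alternatingGroup (Fin 5) := le_antisymm (by
    rintro _ ⟨x, rfl⟩
    rw [← perm_range]
    exact ⟨_, rfl⟩) hle
  have hs : Function.Surjective f.rangeRestrict := f.rangeRestrict_surjective
  have hc : Nat.card ↥f.range = 60 := by rw [hr, Five.sixty]
  have hbij : Function.Bijective f.rangeRestrict :=
    hs.bijective_of_nat_card_le (by rw [hc]; exact p.Ag_card_le)
  exact ⟨(MulEquiv.ofBijective _ hbij).trans (MulEquiv.subgroupCongr hr)⟩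

theorem Ag_card : Nat.card ↥p.Ag = 60 := by
  obtain ⟨e⟩ := p.Ag_equiv
  rw [Nat.card_congr e.toEquiv, Five.sixty]

end Fv

end Cfsg.Lib.ConwayType
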