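import Cfsg.Agent.ConwayType.FiveTop
import Cfsg.Agent.ConwayType.Distinct

/-!
The two commuting perfect factors above the two four-spaces and an element of order five in one of them.
-/

set_option autoImplicit false
set_option maxRecDepth 100000
set_option maxHeartbeats 1000000
set_option linter.unusedSectionVars false
set_option linter.style.haveILetI false

namespace Cfsg.Lib.ConwayType

open Subgroup Cfsg.Lib.ConwayType.Code Cfsg.Lib.ConwayType.Five
open scoped commutatorElement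

universe u

variable {G : Type u} [Group G] [Finite G] {z : G}

/-- A point together with an element of order five acting as the model element. -/
structure Fv (z : G) extends Pt z where
  b : G
  bz : Commute b z
  b5 : b ^ 5 = 1
  mb : toPt.toCtx.m b = e5

namespace Ctx

variable (c : Ctx z)

/-- The elements over the first four-space. -/
def S0 : Set G := {q | q ∈ c.Q ∧ c.π q ∈ V0}

/-- The elements over the second four-space. -/
def S1 : Set G := {q | q ∈ c.Q ∧ c.π q ∈ V1}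

/-- The centralizer of the first part. -/
def M : Subgroup G := centralizer c.S0

/-- The centralizer of the second part. -/
def K : Subgroup G := centralizer c.S1

theorem mem_M {x : G} : x ∈ c.M ↔ ∀ q ∈ c.Q, c.π q ∈ V0 → Commute x q := by
  rw [M, mem_centralizer_iff]
  exact ⟨fun h q hq hv => (h q ⟨hq, hv⟩).symm, fun h q hq => (h q hq.1 hq.2).eq.symm⟩

theorem mem_K {x : G} : x ∈ c.K ↔ ∀ q ∈ c.Q, c.π q ∈ V1 → Commute x q := by
  rw [K, mem_centralizer_iff]
  exact ⟨fun h q hq hv => (h q ⟨hq, hv⟩).symm, fun h q hq => (h q hq.1 hq.2).eq.symm⟩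

theorem z_S : z ∈ c.S0 ∧ z ∈ c.S1 :=
  ⟨⟨c.X.mem, by rw [c.pi_z]; decide⟩, ⟨c.X.mem, by rw [c.pi_z]; decide⟩⟩

theorem M_z {x : G} (hx : x ∈ c.M) : Commute x z := (mem_centralizer_iff.mp hx z c.z_S.1).symm

theorem K_z {x : G} (hx : x ∈ c.K) : Commute x z := (mem_centralizer_iff.mp hx z c.z_S.2).symm

theorem m_fix {x q : G} (hx : Commute x z) (hq : q ∈ c.Q) (h : Commute x q) : cd (c.m x) (c.π q) = c.π q := by
  rw [← c.act hx hq, h.eq, mul_inv_cancel_right]

theorem M_fix {x : G} (hx : x ∈ c.M) : ∀ v ∈ V0, cd (c.m x) v = v := fun v hv => by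
  obtain ⟨q, hq, rfl⟩ := c.π_surj v (V0_lt v hv)
  exact c.m_fix (c.M_z hx) hq (c.mem_M.mp hx q hq hv)

theorem K_fix {x : G} (hx : x ∈ c.K) : ∀ v ∈ V1, cd (c.m x) v = v := fun v hv => by
  obtain ⟨q, hq, rfl⟩ := c.π_surj v (V1_lt v hv)
  exact c.m_fix (c.K_z hx) hq (c.mem_K.mp hx q hq hv)

theorem m_M {x : G} (hx : x ∈ c.M) : c.m x ∈ O1 := ⟨c.m_mem (c.M_z hx), c.M_fix hx⟩

theorem Q_M {q : G} (hq : q ∈ c.Q) : q ∈ c.M ↔ c.π q ∈ V1 := by
  rw [c.mem_M]
  constructor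
  · intro h
    refine (V1_perp _ (c.π_lt q)).mpr fun v hv => ?_
    obtain ⟨a, ha, rfl⟩ := c.π_surj v (V0_lt v hv)
    exact (c.π_comm q hq a ha).mp (h a ha hv)
  · exact fun h a ha hv => (c.π_comm q hq a ha).mpr ((V1_perp _ (c.π_lt q)).mp h _ hv)

theorem Q_K {q : G} (hq : q ∈ c.Q) : q ∈ c.K ↔ c.π q ∈ V0 := by
  rw [c.mem_K]
  constructor
  · intro h
    refine (V0_perp _ (c.π_lt q)).mpr fun v hv => ?_
    obtain ⟨a, ha, rfl⟩ := c.π_surj v (V1_lt v hv)
    exact (c.π_comm q hq a ha).mp (h a ha hv)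
  · exact fun h a ha hv => (c.π_comm q hq a ha).mpr ((V0_perp _ (c.π_lt q)).mp h _ hv)

/-- A functional on the first four-space is a pairing with one of its vectors. -/
theorem functional_V0 : ∀ a b d e : Bool, ∃ u ∈ V0,
    pB u 1 = a ∧ pB u 16 = b ∧ pB u 34 = d ∧ pB u 100 = e := by
  decide +kernel

theorem V0_basis : ∀ v ∈ V0, ∃ a b d e : Bool,
    v = (bif a then 1 else 0) ^^^ (bif b then 16 else 0) ^^^ (bif d then 34 else 0) ^^^ (bif e then 100 else 0) := by
  decide +kernel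

/-- Lifts with a given top. -/
theorem M_surj {g : O8} (hg : g ∈ O1) : ∃ x ∈ c.M, c.m x = g := by
  classical
  obtain ⟨x, hx, rfl⟩ := c.m_surj hg.1
  obtain ⟨q1, h1, e1⟩ := c.π_surj 1 (by norm_num)
  obtain ⟨q2, h2, e2⟩ := c.π_surj 16 (by norm_num)
  obtain ⟨q3, h3, e3⟩ := c.π_surj 34 (by norm_num)
  obtain ⟨q4, h4, e4⟩ := c.π_surj 100 (by norm_num)
  obtain ⟨u, hu, u1, u2, u3, u4⟩ := functional_V0 (decide (¬ Commute x q1)) (decide (¬ Commute x q2))
    (decide (¬ Commute x q3)) (decide (¬ Commute x q4))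
  obtain ⟨a, ha, hπ⟩ := c.π_surj u (V0_lt u hu)
  have hy : Commute (x * a) z := hx.mul_left (c.X.central a ha)
  have hflip : ∀ q ∈ c.Q, c.π q ∈ V0 → ¬ Commute x q → x * q * x⁻¹ = z * q := fun q hq hv h => by
    have hp : c.π (x * q * x⁻¹) = c.π q := by rw [c.act hx hq, hg.2 _ hv]
    exact (c.pi_eq (c.norm hx hq) hq hp).resolve_left fun e => h (mul_inv_eq_iff_eq_mul.mp e)
  have gen : ∀ q ∈ c.Q, c.π q ∈ V0 → pB u (c.π q) = decide (¬ Commute x q) → Commute (x * a) q := by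
    intro q hq hv he
    rw [← hπ] at he
    have key : x * a * q * (x * a)⁻¹ = q := by
      rw [show x * a * q * (x * a)⁻¹ = x * (a * q * a⁻¹) * x⁻¹ by group]
      by_cases hc : Commute x q
      · rw [decide_eq_false (not_not.mpr hc)] at he
        rw [((c.π_comm a ha q hq).mpr he).eq, mul_inv_cancel_right, hc.eq, mul_inv_cancel_right]
      · rw [decide_eq_true hc] at he
        have hn : ¬ Commute a q := fun h => by
          rw [(c.π_comm a ha q hq).mp h] at he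
          exact Bool.false_ne_true he
        rw [c.X.not_commute_conj ha hq hn, show x * (z * q) * x⁻¹ = (x * z * x⁻¹) * (x * q * x⁻¹) by group,
          hx.eq, mul_inv_cancel_right, hflip q hq hv hc, ← mul_assoc, c.X.zz, one_mul]
    exact mul_inv_eq_iff_eq_mul.mp key
  refine ⟨x * a, c.mem_M.mpr fun q hq hv => ?_, ?_⟩
  · have c1 := gen q1 h1 (by rw [e1]; decide) (by rw [e1]; exact u1)
    have c2 := gen q2 h2 (by rw [e2]; decide) (by rw [e2]; exact u2)
    have c3 := gen q3 h3 (by rw [e3]; decide) (by rw [e3]; exact u3)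
    have c4 := gen q4 h4 (by rw [e4]; decide) (by rw [e4]; exact u4)
    obtain ⟨i, j, k, l, hv'⟩ := V0_basis _ hv
    have hm : ∀ (i : Bool) (y : G), y ∈ c.Q → (bif i then y else 1) ∈ c.Q ∧
        c.π (bif i then y else 1) = (bif i then c.π y else 0) ∧
        (Commute (x * a) y → Commute (x * a) (bif i then y else 1)) := fun i y hy' => by
      cases i
      · exact ⟨one_mem _, c.pi_one, fun _ => Commute.one_right _⟩
      · exact ⟨hy', rfl, id⟩
    obtain ⟨A1, B1, D1⟩ := hm i q1 h1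
    obtain ⟨A2, B2, D2⟩ := hm j q2 h2
    obtain ⟨A3, B3, D3⟩ := hm k q3 h3
    obtain ⟨A4, B4, D4⟩ := hm l q4 h4
    have hp := (((D1 c1).mul_right (D2 c2)).mul_right (D3 c3)).mul_right (D4 c4)
    have hπ' : c.π q = c.π ((bif i then q1 else 1) * (bif j then q2 else 1) * (bif k then q3 else 1) *
        (bif l then q4 else 1)) := by
      rw [c.π_mul _ (mul_mem (mul_mem A1 A2) A3) _ A4, c.π_mul _ (mul_mem A1 A2) _ A3, c.π_mul _ A1 _ A2,
        B1, B2, B3, B4, e1, e2, e3, e4]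
      exact hv'
    rcases c.pi_eq hq (mul_mem (mul_mem (mul_mem A1 A2) A3) A4) hπ' with e | e
    · rw [e]; exact hp
    · rw [e]; exact hy.mul_right hp
  · rw [c.m_mul hx (c.X.central a ha), (c.m_one_iff (c.X.central a ha)).mpr ha, mul_one]

/-- A lift of the exchange. -/
noncomputable def wEl : G := (c.m_surj eX_mem).choose

theorem wEl_z : Commute c.wEl z := (c.m_surj eX_mem).choose_spec.1

theorem m_wEl : c.m c.wEl = eX := (c.m_surj eX_mem).choose_spec.2

theorem conj_wEl_inv {x : G} (hx : Commute x z) : Commute (c.wEl⁻¹ * x * c.wEl) z :=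
  (c.wEl_z.inv_left.mul_left hx).mul_left c.wEl_z

theorem K_to_M {x : G} : x ∈ c.K ↔ c.wEl * x * c.wEl⁻¹ ∈ c.M := by
  have hw := c.wEl_z
  rw [c.mem_K, c.mem_M]
  constructor
  · intro h q hq hv
    have hq' : c.wEl⁻¹ * q * c.wEl ∈ c.Q := by simpa using c.norm hw.inv_left hq
    have hπ : c.π (c.wEl⁻¹ * q * c.wEl) ∈ V1 := by
      have := c.act hw.inv_left hq
      rw [inv_inv, c.m_inv hw, c.m_wEl, eX_inv] at this
      rw [this]; exact eX_V0 hv
    have := Commute.conj_iff c.wEl |>.mpr (h _ hq' hπ)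
    rwa [show c.wEl * (c.wEl⁻¹ * q * c.wEl) * c.wEl⁻¹ = q by group] at this
  · intro h q hq hv
    have hπ : c.π (c.wEl * q * c.wEl⁻¹) ∈ V0 := by
      rw [c.act hw hq, c.m_wEl]; exact eX_V1 hv
    exact (Commute.conj_iff c.wEl).mp (h _ (c.norm hw hq) hπ)

/-- The hom of the second factor to its top. -/
noncomputable def mM : ↥c.M →* ↥O1 where
  toFun x := ⟨c.m x, c.m_M x.2⟩
  map_one' := Subtype.ext c.m_one
  map_mul' x y := Subtype.ext (c.m_mul (c.M_z x.2) (c.M_z y.2))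

theorem mM_surj : Function.Surjective c.mM := fun g => by
  obtain ⟨x, hx, e⟩ := c.M_surj g.2
  exact ⟨⟨x, hx⟩, Subtype.ext e⟩

theorem mM_ker {x : ↥c.M} : c.mM x = 1 ↔ (x : G) ∈ c.Q :=
  (Subtype.ext_iff).trans (c.m_one_iff (c.M_z x.2))

theorem comm_V1 {q r : G} (hq : q ∈ c.Q) (hr : r ∈ c.Q) (h : pB (c.π q) (c.π r) = true) : ⁅q, r⁆ = z := by
  have hn : ¬ Commute q r := fun e => by rw [(c.π_comm q hq r hr).mp e] at h; exact Bool.false_ne_true h
  rw [commutatorElement_def, c.X.not_commute_conj hq hr hn, mul_inv_cancel_right]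

theorem M_perfect : ⁅c.M, c.M⁆ = c.M := by
  refine le_antisymm (commutator_le_self _) fun x hx => ?_
  obtain ⟨b, hb, hmb⟩ := c.M_surj e5_O1
  have hz : z ∈ ⁅c.M, c.M⁆ := by
    obtain ⟨q, hq, e⟩ := c.π_surj 8 (by norm_num)
    obtain ⟨r, hr, e'⟩ := c.π_surj 128 (by norm_num)
    have hm := commutator_mem_commutator ((c.Q_M hq).mpr (by rw [e]; decide)) ((c.Q_M hr).mpr (by rw [e']; decide))
    rwa [c.comm_V1 hq hr (by rw [e, e']; decide)] at hm
  have hQ : ∀ q ∈ c.Q, c.π q ∈ V1 → q ∈ ⁅c.M, c.M⁆ := by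
    intro q hq hv
    obtain ⟨u, hu, hu'⟩ := c5_shift _ hv
    obtain ⟨a, ha, rfl⟩ := c.π_surj u (V1_lt u hu)
    have hm : ⁅b, a⁆ ∈ ⁅c.M, c.M⁆ := commutator_mem_commutator hb ((c.Q_M ha).mpr hu)
    have hn := c.norm (c.M_z hb) ha
    have hp : c.π q = c.π ⁅b, a⁆ := by
      rw [commutatorElement_def, c.π_mul _ hn _ (inv_mem ha), c.pi_inv ha, c.act (c.M_z hb) ha, hmb,
        cd_e5 (c.π_lt a), hu']
    rcases c.pi_eq hq (by rw [commutatorElement_def]; exact mul_mem hn (inv_mem ha)) hp with e | e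
    · rw [e]; exact hm
    · rw [e]; exact mul_mem hz hm
  obtain ⟨eA⟩ := O1_equiv
  haveI : IsSimpleGroup ↥O1 := haveI := alternatingGroup.isSimpleGroup_five; eA.isSimpleGroup
  have hO : commutator ↥O1 = ⊤ := by
    refine (IsSimpleGroup.eq_bot_or_eq_top_of_normal _ inferInstance).resolve_left fun h => ?_
    haveI : IsMulCommutative ↥O1 := ⟨⟨fun a b => commutatorElement_eq_one_iff_mul_comm.mp
      (Subgroup.mem_bot.mp (h ▸ Subgroup.commutator_mem_commutator (mem_top a) (mem_top b)))⟩⟩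
    have := (Group.is_simple_iff_prime_card (α := ↥O1)).mp inferInstance
    rw [card_O1] at this
    norm_num at this
  have hmap : (commutator ↥c.M).map c.mM = ⊤ := by
    rw [_root_.commutator_def, Subgroup.map_commutator, ← MonoidHom.range_eq_map,
      MonoidHom.range_eq_top.mpr c.mM_surj, ← _root_.commutator_def, hO]
  obtain ⟨y, hy, e⟩ := mem_map.mp (hmap.ge (mem_top (c.mM ⟨x, hx⟩)))
  have hyG : (y : G) ∈ ⁅c.M, c.M⁆ := by
    have := mem_map_of_mem c.M.subtype hy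
    rwa [_root_.commutator_def, Subgroup.map_commutator, ← MonoidHom.range_eq_map, Subgroup.range_subtype] at this
  have hk : (y : G)⁻¹ * x ∈ c.Q := c.mM_ker (x := y⁻¹ * ⟨x, hx⟩).mp (by rw [map_mul, map_inv, e, inv_mul_cancel])
  have hk' := hQ _ hk ((c.Q_M hk).mp (mul_mem (inv_mem y.2) hx))
  have := mul_mem hyG hk'
  rwa [mul_inv_cancel_left] at this

theorem K_map : c.K.map (MulAut.conj c.wEl).toMonoidHom = c.M := by
  ext x
  rw [mem_map]
  constructor
  · rintro ⟨y, hy, rfl⟩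
    exact c.K_to_M.mp hy
  · intro hx
    refine ⟨c.wEl⁻¹ * x * c.wEl, c.K_to_M.mpr (by rwa [show c.wEl * (c.wEl⁻¹ * x * c.wEl) * c.wEl⁻¹ = x by group]), ?_⟩
    show c.wEl * (c.wEl⁻¹ * x * c.wEl) * c.wEl⁻¹ = x
    group

theorem K_perfect : ⁅c.K, c.K⁆ = c.K := by
  apply Subgroup.map_injective (f := (MulAut.conj c.wEl).toMonoidHom) (MulAut.conj c.wEl).injective
  rw [Subgroup.map_commutator, c.K_map, c.M_perfect]

/-- The two factors commute. -/
theorem KM_comm {x y : G} (hx : x ∈ c.K) (hy : y ∈ c.M) : Commute x y := by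
  have key : ∀ x ∈ c.K, ⁅x, y⁆ = 1 ∨ ⁅x, y⁆ = z := fun x hx => by
    have xz := c.K_z hx
    have yz := c.M_z hy
    have hcz : Commute ⁅x, y⁆ z := by
      rw [commutatorElement_def]; exact ((xz.mul_left yz).mul_left xz.inv_left).mul_left yz.inv_left
    have hQ : ⁅x, y⁆ ∈ c.Q := by
      rw [← c.m_one_iff hcz, commutatorElement_def, c.m_mul ((xz.mul_left yz).mul_left xz.inv_left) yz.inv_left,
        c.m_mul (xz.mul_left yz) xz.inv_left, c.m_mul xz yz, c.m_inv xz, c.m_inv yz]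
      have f0 := c.M_fix hy
      have f1 := c.K_fix hx
      have hcomm : Commute (c.m x) (c.m y) := cd_ext fun v hv => by
        obtain ⟨a, ha, hb⟩ := V_split v hv
        obtain ⟨b', hb'⟩ : ∃ b', b' = a ^^^ v := ⟨_, rfl⟩
        rw [← hb'] at hb
        have e : v = a ^^^ b' := by rw [hb', ← Nat.xor_assoc, Nat.xor_self, Nat.zero_xor]
        rw [cd_mul, cd_mul, e]
        simp only [cd_xor]
        rw [f0 a ha, f0 _ (keep_V0 f1 ha), f1 _ hb, f1 _ (keep_V1 f0 hb)]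
      rw [hcomm.eq, mul_inv_cancel_right, mul_inv_cancel]
    have hK' : ⁅x, y⁆ ∈ c.K := c.mem_K.mpr fun q hq hv => by
      have h1 := c.mem_K.mp hx
      have hq' : c.π (y * q * y⁻¹) ∈ V1 := by rw [c.act yz hq]; exact keep_V1 (c.M_fix hy) hv
      have hq'' : c.π (y⁻¹ * q * y) ∈ V1 := by
        have := c.act yz.inv_left hq
        rw [inv_inv] at this
        rw [this, c.m_inv yz]
        exact keep_V1 (inv_mem (c.m_M hy) : (c.m y)⁻¹ ∈ O1).2 hv
      have hn : y⁻¹ * q * y ∈ c.Q := by simpa using c.norm yz.inv_left hq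
      have e1 : x * q * x⁻¹ = q := by rw [(h1 q hq hv).eq, mul_inv_cancel_right]
      have e2 : x⁻¹ * (y⁻¹ * q * y) * x = y⁻¹ * q * y := by
        rw [mul_assoc, ← (h1 _ hn hq'').eq, inv_mul_cancel_left]
      refine mul_inv_eq_iff_eq_mul.mp ?_
      rw [commutatorElement_def]
      calc x * y * x⁻¹ * y⁻¹ * q * (x * y * x⁻¹ * y⁻¹)⁻¹
          = x * y * (x⁻¹ * (y⁻¹ * q * y) * x) * y⁻¹ * x⁻¹ := by group
        _ = x * y * (y⁻¹ * q * y) * y⁻¹ * x⁻¹ := by rw [e2]
        _ = x * q * x⁻¹ := by group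
        _ = q := e1
    have hM' : ⁅x, y⁆ ∈ c.M := c.mem_M.mpr fun q hq hv => by
      have h1 := c.mem_M.mp hy
      have hq'' : c.π (x⁻¹ * q * x) ∈ V0 := by
        have := c.act xz.inv_left hq
        rw [inv_inv] at this
        rw [this, c.m_inv xz]
        refine keep_V0 (fun v hv' => ?_) hv
        conv_lhs => rw [← c.K_fix hx v hv']
        exact cd_inv _ (V1_lt v hv')
      have hn : x⁻¹ * q * x ∈ c.Q := by simpa using c.norm xz.inv_left hq
      have e2 : y⁻¹ * q * y = q := by rw [mul_assoc, ← (h1 q hq hv).eq, inv_mul_cancel_left]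
      have e3 : y * (x⁻¹ * q * x) * y⁻¹ = x⁻¹ * q * x := by rw [(h1 _ hn hq'').eq, mul_inv_cancel_right]
      refine mul_inv_eq_iff_eq_mul.mp ?_
      rw [commutatorElement_def]
      calc x * y * x⁻¹ * y⁻¹ * q * (x * y * x⁻¹ * y⁻¹)⁻¹
          = x * (y * (x⁻¹ * (y⁻¹ * q * y) * x) * y⁻¹) * x⁻¹ := by group
        _ = x * (y * (x⁻¹ * q * x) * y⁻¹) * x⁻¹ := by rw [e2]
        _ = x * (x⁻¹ * q * x) * x⁻¹ := by rw [e3]
        _ = q := by group
    have h0 : c.π ⁅x, y⁆ = 0 := V_inter _ ((c.Q_K hQ).mp hK') ((c.Q_M hQ).mp hM')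
    exact (c.π_zero _ hQ).mp h0
  have mem : ∀ {d : G}, d = 1 ∨ d = z → ∀ x ∈ c.K, Commute x d := fun {d} hd x hx => by
    rcases hd with rfl | rfl
    · exact Commute.one_right _
    · exact c.K_z hx
  have hom : ∀ u ∈ c.K, ∀ v ∈ c.K, ⁅u * v, y⁆ = ⁅u, y⁆ * ⁅v, y⁆ := fun u hu v hv => by
    have huv : u * ⁅v, y⁆ * u⁻¹ = ⁅v, y⁆ := by rw [(mem (key v hv) u hu).eq, mul_inv_cancel_right]
    have hc : Commute ⁅v, y⁆ ⁅u, y⁆ := by
      rcases key v hv with e | e <;> rcases key u hu with e' | e' <;> rw [e, e'] <;> simp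
    calc ⁅u * v, y⁆ = u * ⁅v, y⁆ * u⁻¹ * ⁅u, y⁆ := by simp only [commutatorElement_def]; group
      _ = _ := by rw [huv, hc.eq]
  let f : ↥c.K →* G :=
    { toFun := fun u => ⁅(u : G), y⁆
      map_one' := by simp
      map_mul' := fun u v => hom u u.2 v v.2 }
  have hcom : ∀ u v : ↥c.K, Commute (f u) (f v) := fun u v => by
    show Commute ⁅(u : G), y⁆ ⁅(v : G), y⁆
    rcases key _ u.2 with e | e <;> rcases key _ v.2 with e' | e' <;> rw [e, e'] <;> simp
  have hker : commutator ↥c.K ≤ f.ker := by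
    rw [_root_.commutator_def, commutator_le]
    intro u _ v _
    rw [MonoidHom.mem_ker, map_commutatorElement, commutatorElement_eq_one_iff_commute]
    exact hcom u v
  have htop : commutator ↥c.K = ⊤ := by
    apply Subgroup.map_injective c.K.subtype_injective
    rw [_root_.commutator_def, Subgroup.map_commutator, ← MonoidHom.range_eq_map, Subgroup.range_subtype,
      c.K_perfect]
  have : f ⟨x, hx⟩ = 1 := hker (htop.symm ▸ mem_top _)
  exact commutatorElement_eq_one_iff_commute.mp this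

end Ctx

namespace Fv

variable (p : Fv z)

theorem b_M : p.b ∈ p.toCtx.M := p.toCtx.mem_M.mpr fun q hq hv => by
  by_contra h
  have hp : p.π (p.b * q * p.b⁻¹) = p.π q := by rw [p.toCtx.act p.bz hq, p.mb, (e5_fix (p.π_lt q)).mpr hv]
  have e1 : p.b * q * p.b⁻¹ = z * q :=
    (p.toCtx.pi_eq (p.toCtx.norm p.bz hq) hq hp).resolve_left fun e => h (mul_inv_eq_iff_eq_mul.mp e)
  have e2 : ∀ n : ℕ, p.b ^ n * q * (p.b ^ n)⁻¹ = z ^ n * q := by
    intro n
    induction n with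
    | zero => simp
    | succ n ih =>
      rw [pow_succ, show p.b ^ n * p.b * q * (p.b ^ n * p.b)⁻¹ = p.b ^ n * (p.b * q * p.b⁻¹) * (p.b ^ n)⁻¹ by group,
        e1, show p.b ^ n * (z * q) * (p.b ^ n)⁻¹ = (p.b ^ n * z) * q * (p.b ^ n)⁻¹ by group, (p.bz.pow_left n).eq,
        show z * p.b ^ n * q * (p.b ^ n)⁻¹ = z * (p.b ^ n * q * (p.b ^ n)⁻¹) by group, ih, ← mul_assoc, ← pow_succ']
  have := e2 5
  rw [p.b5, show z ^ 5 = z * z * (z * z) * z by simp [pow_succ, mul_assoc], p.X.zz] at this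
  simp only [one_mul, inv_one, mul_one] at this
  exact p.X.ne (mul_right_cancel (this.symm.trans (one_mul q).symm))

theorem b_K {x : G} (hx : x ∈ p.toCtx.K) : Commute x p.b := p.toCtx.KM_comm hx p.b_M

theorem b_ne : p.b ≠ 1 := fun e => e5_ne (by rw [← p.mb, e, p.toCtx.m_one])

theorem b_order : orderOf p.b = 5 := by
  haveI : Fact (Nat.Prime 5) := ⟨by norm_num⟩
  exact orderOf_eq_prime p.b5 p.b_ne

theorem m_b_pow (i : ℕ) : p.toCtx.m (p.b ^ i) = e5 ^ i := by
  induction i with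
  | zero => rw [pow_zero, pow_zero, p.toCtx.m_one]
  | succ i ih => rw [pow_succ, pow_succ, p.toCtx.m_mul (p.bz.pow_left i) p.bz, ih, p.mb]

theorem cent_Q {q : G} (hq : q ∈ p.Q) : Commute p.b q ↔ p.π q ∈ V0 := by
  refine ⟨fun h => ?_, fun h => p.toCtx.mem_M.mp p.b_M q hq h⟩
  have := p.toCtx.m_fix p.bz hq h
  rw [p.mb] at this
  exact (e5_fix (p.π_lt q)).mp this

/-- The centralizer in the centralizer of the involution. -/
theorem cent_b {x : G} (hx : Commute x z) (hb : Commute x p.b) : ∃ i : ℕ, ∃ k ∈ p.toCtx.K, x = p.b ^ i * k := by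
  have hc : Commute (p.toCtx.m x) e5 := by
    rw [← p.mb]
    show _ = _
    rw [← p.toCtx.m_mul hx p.bz, ← p.toCtx.m_mul p.bz hx, hb.eq]
  obtain ⟨i, hi⟩ := cent_e5 (p.toCtx.m_mem hx) hc
  set g := p.toCtx.m x * (e5 ^ i)⁻¹ with hg
  have hgO : eX * g * eX⁻¹ ∈ O1 := by
    refine ⟨mul_mem (mul_mem eX_mem (mul_mem (p.toCtx.m_mem hx) (inv_mem (pow_mem e5_mem i)))) (inv_mem eX_mem),
      fun v hv => ?_⟩
    rw [cd_mul, cd_mul, eX_inv, hi _ (eX_V0 hv), ← cd_mul, eX_two, cd_one (V0_lt v hv)]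
  obtain ⟨y, hy, hmy⟩ := p.toCtx.M_surj hgO
  set k := p.wEl⁻¹ * y * p.wEl with hk'
  have hk : k ∈ p.toCtx.K := p.toCtx.K_to_M.mpr (by
    rwa [hk', show p.wEl * (p.wEl⁻¹ * y * p.wEl) * p.wEl⁻¹ = y by group])
  have kz := p.toCtx.K_z hk
  have hmk : p.toCtx.m k = g := by
    rw [hk', p.toCtx.m_mul (p.wEl_z.inv_left.mul_left (p.toCtx.M_z hy)) p.wEl_z,
      p.toCtx.m_mul p.wEl_z.inv_left (p.toCtx.M_z hy), p.toCtx.m_inv p.wEl_z, p.m_wEl, hmy]
    group
  have hd : Commute ((p.b ^ i * k)⁻¹ * x) z := ((p.bz.pow_left i).mul_left kz).inv_left.mul_left hx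
  have hq : (p.b ^ i * k)⁻¹ * x ∈ p.Q := by
    rw [← p.toCtx.m_one_iff hd, p.toCtx.m_mul ((p.bz.pow_left i).mul_left kz).inv_left hx,
      p.toCtx.m_inv ((p.bz.pow_left i).mul_left kz), p.toCtx.m_mul (p.bz.pow_left i) kz, m_b_pow, hmk, hg,
      ← mul_assoc (e5 ^ i), ← (hc.pow_right i).eq, mul_inv_cancel_right, inv_mul_cancel]
  have hcb : Commute p.b ((p.b ^ i * k)⁻¹ * x) :=
    ((Commute.refl p.b).pow_right i |>.mul_right (p.b_K hk).symm).inv_right.mul_right hb.symm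
  refine ⟨i, k * ((p.b ^ i * k)⁻¹ * x), mul_mem hk ((p.toCtx.Q_K hq).mpr ((p.cent_Q hq).mp hcb)), ?_⟩
  group

end Fv

end Cfsg.Lib.ConwayType
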