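import Cfsg.Agent.ConwayType.FiveIcosa

/-!
An element exchanging the two central involutions normalises the alternating group.
-/

set_option autoImplicit false
set_option maxRecDepth 100000
set_option maxHeartbeats 1000000
set_option linter.unusedSectionVars false
set_option linter.style.haveILetI false

namespace Cfsg.Lib.ConwayType

open Subgroup Cfsg.Lib.ConwayType.Code Cfsg.Lib.ConwayType.Five
open scoped commutatorElement

universe u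

variable {G : Type u} [Group G] [Finite G] {z : G}

theorem conj_to_gen {U : Subgroup G} (h25 : ¬ 25 ∣ Nat.card ↥U) {b c : G} (hb : b ∈ U) (hc : c ∈ U)
    (ob : orderOf b = 5) (oc : orderOf c = 5) : ∃ u ∈ U, ∃ i : ℕ, u * c * u⁻¹ = b ^ i := by
  haveI : Fact (Nat.Prime 5) := ⟨by norm_num⟩
  have hp : ∀ (x : ↥U), orderOf x = 5 → ∃ S : Sylow 5 ↥U, (S : Subgroup ↥U) = zpowers x := fun x hx => by
    have hP : IsPGroup 5 ↥(zpowers x) := IsPGroup.of_card (n := 1) (by rw [Nat.card_zpowers, hx, pow_one])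
    obtain ⟨S, hS⟩ := hP.exists_le_sylow
    refine ⟨S, (Subgroup.eq_of_le_of_card_ge hS ?_).symm⟩
    obtain ⟨n, hn⟩ := S.2.exists_card_eq
    rw [Nat.card_zpowers, hx, hn]
    rcases Nat.lt_or_ge n 2 with h | h
    · calc 5 ^ n ≤ 5 ^ 1 := Nat.pow_le_pow_right (by norm_num) (by omega)
        _ = 5 := by norm_num
    · exfalso
      refine h25 (dvd_trans ?_ (Subgroup.card_subgroup_dvd_card (S : Subgroup ↥U)))
      rw [hn]
      exact dvd_trans (by norm_num) (pow_dvd_pow 5 h)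
  obtain ⟨Sb, hSb⟩ := hp ⟨b, hb⟩ (by rw [← Subgroup.orderOf_coe]; exact ob)
  obtain ⟨Sc, hSc⟩ := hp ⟨c, hc⟩ (by rw [← Subgroup.orderOf_coe]; exact oc)
  obtain ⟨u, hu⟩ := MulAction.exists_smul_eq ↥U Sc Sb
  have hm : u * ⟨c, hc⟩ * u⁻¹ ∈ ((u • Sc : Sylow 5 ↥U) : Subgroup ↥U) := by
    rw [Sylow.coe_subgroup_smul]
    exact ⟨⟨c, hc⟩, hSc.ge (mem_zpowers _), rfl⟩
  rw [hu, hSb, ← mem_powers_iff_mem_zpowers, Submonoid.mem_powers_iff] at hm
  obtain ⟨i, hi⟩ := hm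
  exact ⟨u, u.2, i, (congrArg Subtype.val hi).symm⟩

namespace Pt

variable (p : Pt z)

/-- An element with the two given coordinates. -/
def Pair (y : G) (a b : ℕ) : Prop := ∃ q r, p.A q ∧ p.R r ∧ y = q * r ∧ p.α q = a ∧ p.β r = b

theorem Pair.T {p : Pt z} {y : G} {a b : ℕ} (h : p.Pair y a b) : p.T y := by
  obtain ⟨q, r, hq, hr, rfl, -, -⟩ := h
  exact p.T_mul (p.A_T hq) (p.R_T hr)

theorem Pair.mul {p : Pt z} {y y' : G} {a a' b b' : ℕ} (h : p.Pair y a b) (h' : p.Pair y' a' b') :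
    p.Pair (y * y') (a ^^^ a') (b ^^^ b') := by
  obtain ⟨q, r, hq, hr, rfl, rfl, rfl⟩ := h
  obtain ⟨q', r', hq', hr', rfl, rfl, rfl⟩ := h'
  have he := p.cab_E hq' hr
  have hA := p.A_mul hq hq'
  have hi : p.InE (cab q' r)⁻¹ := p.E_inv he
  refine ⟨q * q', r * r' * (cab q' r)⁻¹, hA, p.R_mul (p.R_mul hr hr') (p.E_R hi), ?_, p.α_mul hq hq', ?_⟩
  · have hc := p.E_central hi (p.T_mul (p.T_mul (p.A_T hq') (p.R_T hr)) (p.R_T hr'))
    calc q * r * (q' * r') = q * ((cab q' r)⁻¹ * (q' * r * r')) := by simp only [cab]; group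
      _ = q * (q' * r * r' * (cab q' r)⁻¹) := by rw [hc.eq]
      _ = _ := by group
  · rw [p.β_mul (p.R_mul hr hr') (p.E_R hi), p.β_mul hr hr', p.β_E hi, Nat.xor_zero]

theorem Pair.conj {p : Pt z} {y t : G} {a b : ℕ} (h : p.Pair y a b) (ht : p.T t) :
    p.Pair (t * y * t⁻¹) (sa (p.toCtx.m t) a) (sa (p.toCtx.m t) b) := by
  obtain ⟨q, r, hq, hr, rfl, rfl, rfl⟩ := h
  exact ⟨t * q * t⁻¹, t * r * t⁻¹, p.A_norm ht hq, p.R_norm ht hr, by group, p.α_conj ht hq, p.β_conj ht hr⟩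

theorem Pair.one {p : Pt z} {a b : ℕ} (h : p.Pair 1 a b) : a = 0 ∧ b = 0 := by
  obtain ⟨q, r, hq, hr, e, rfl, rfl⟩ := h
  have hr' : r = q⁻¹ := eq_inv_of_mul_eq_one_right e.symm
  have hrQ : r ∈ p.Q := hr' ▸ inv_mem hq.1
  refine ⟨?_, (p.β_zero hr).mpr hrQ⟩
  have := p.α_E (p.R_cap hr hrQ)
  rwa [hr', p.α_inv hq] at this

theorem Pair.zero {p : Pt z} {y : G} (h : p.Pair y 0 0) : p.InE y := by
  obtain ⟨q, r, hq, hr, rfl, ha, hb⟩ := h
  exact p.E_cases (p.α_zero hq ha) _ (p.R_cap hr ((p.β_zero hr).mp hb))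

end Pt

namespace Fv

variable (p : Fv z)

/-- The part of the first factor fixing the point. -/
def H0 : Subgroup G := p.toCtx.K ⊓ centralizer ({p.s} : Set G)

theorem mem_H0 {h : G} : h ∈ p.H0 ↔ h ∈ p.toCtx.K ∧ Commute h p.s :=
  and_congr Iff.rfl mem_centralizer_singleton_iff

theorem H0_T {h : G} (hh : h ∈ p.H0) : p.T h := ⟨p.toCtx.K_z (p.mem_H0.mp hh).1, (p.mem_H0.mp hh).2⟩

theorem b_s : Commute p.b p.s := (p.cent_Q p.hs).mpr (by rw [p.πs]; decide)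

theorem b_T : p.T p.b := ⟨p.bz, p.b_s⟩

theorem five_K {k : G} (hk : k ∈ p.H0) (h5 : k ^ 5 = 1) : k = 1 := by
  obtain ⟨hK, hs⟩ := p.mem_H0.mp hk
  by_contra hne
  have hM := p.toCtx.K_to_M.mp hK
  obtain ⟨y, hy⟩ : ∃ y, y = p.wEl * k * p.wEl⁻¹ := ⟨_, rfl⟩
  rw [← hy] at hM
  have hy5 : y ^ 5 = 1 := by rw [hy, conj_pow, h5, mul_one, mul_inv_cancel]
  have hg5 : p.toCtx.m y ^ 5 = 1 := by
    have := congrArg Subtype.val (map_pow p.toCtx.mM ⟨y, hM⟩ 5)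
    rw [show (⟨y, hM⟩ : ↥p.toCtx.M) ^ 5 = 1 from Subtype.ext hy5, map_one] at this
    exact this.symm
  have hg1 : p.toCtx.m y ≠ 1 := fun e => by
    have hQ := (p.toCtx.m_one_iff (p.toCtx.M_z hM)).mp e
    have hcop : orderOf y ∣ 1 := by
      have h1 : orderOf y ∣ 5 := orderOf_dvd_of_pow_eq_one hy5
      have h2 : orderOf y ∣ 512 := p.card ▸ Subgroup.orderOf_dvd_natCard p.Q hQ
      exact (Nat.dvd_gcd h1 h2).trans (by norm_num)
    have hy1 : y = 1 := orderOf_eq_one_iff.mp (Nat.dvd_one.mp hcop)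
    rw [hy] at hy1
    exact hne (conj_eq_one_iff.mp hy1)
  refine five_moves (p.toCtx.m_M hM) hg5 hg1 (x := 8) (by decide) ?_
  rw [hy, p.toCtx.m_mul (p.wEl_z.mul_left (p.toCtx.K_z hK)) p.wEl_z.inv_left, p.toCtx.m_mul p.wEl_z (p.toCtx.K_z hK),
    p.toCtx.m_inv p.wEl_z, p.m_wEl, cd_mul, cd_mul, eX_inv]
  have e8 : cd eX 8 = 1 := by rw [← eX_one, ← cd_mul, eX_two, cd_one (by norm_num)]
  have hfix : cd (p.toCtx.m k) 1 = 1 := by
    have := p.toCtx.m_fix (p.toCtx.K_z hK) p.hs hs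
    rwa [p.πs] at this
  rw [e8, hfix, eX_one]

theorem not_five_H0 : ¬ 5 ∣ Nat.card ↥p.H0 := fun h => by
  haveI : Fact (Nat.Prime 5) := ⟨by norm_num⟩
  obtain ⟨k, hk⟩ := exists_prime_orderOf_dvd_card' 5 h
  have h1 := p.five_K k.2 (by rw [← SubmonoidClass.coe_pow, ← hk, pow_orderOf_eq_one]; rfl)
  rw [show k = 1 from Subtype.ext h1, orderOf_one] at hk
  norm_num at hk

theorem cent_T {x : G} (hx : p.T x) (hb : Commute x p.b) : ∃ i : ℕ, ∃ k ∈ p.H0, x = p.b ^ i * k := by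
  obtain ⟨i, k, hk, rfl⟩ := p.cent_b hx.1 hb
  refine ⟨i, k, p.mem_H0.mpr ⟨hk, ?_⟩, rfl⟩
  have := (p.b_s.pow_left i).inv_left.mul_left hx.2
  rwa [inv_mul_cancel_left] at this

theorem not_twentyfive : ¬ 25 ∣ Nat.card ↥p.Tg := fun h25 => by
  haveI : Fact (Nat.Prime 5) := ⟨by norm_num⟩
  have hbT : p.b ∈ p.Tg := p.mem_Tg.mpr p.b_T
  have ob : orderOf (⟨p.b, hbT⟩ : ↥p.Tg) = 5 := by rw [← Subgroup.orderOf_coe]; exact p.b_order
  obtain ⟨S, hS⟩ := (IsPGroup.of_card (n := 1) (by rw [Nat.card_zpowers, ob, pow_one]) :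
    IsPGroup 5 ↥(zpowers (⟨p.b, hbT⟩ : ↥p.Tg))).exists_le_sylow
  set B := (⟨p.b, hbT⟩ : ↥p.Tg) with hB
  have key : ∀ u ∈ (S : Subgroup ↥p.Tg), Commute (u : G) p.b → u ∈ zpowers B := fun u hu hc => by
    obtain ⟨i, k, hk, e⟩ := p.cent_T (p.mem_Tg.mp u.2) hc
    have hkT : k ∈ p.Tg := p.mem_Tg.mpr (p.H0_T hk)
    have hkS : (⟨k, hkT⟩ : ↥p.Tg) ∈ (S : Subgroup ↥p.Tg) := by
      have := mul_mem (inv_mem (pow_mem (hS (mem_zpowers B)) i)) hu
      convert this using 1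
      refine Subtype.ext ?_
      show k = (p.b ^ i)⁻¹ * (u : G)
      rw [e, inv_mul_cancel_left]
    obtain ⟨n, hn⟩ := IsPGroup.iff_orderOf.mp S.2 ⟨_, hkS⟩
    rw [← Subgroup.orderOf_coe, ← Subgroup.orderOf_coe] at hn
    have hk1 : k = 1 := by
      by_contra hne
      refine p.not_five_H0 (dvd_trans ?_ (Subgroup.orderOf_dvd_natCard p.H0 hk))
      rw [show orderOf k = 5 ^ n from hn]
      rcases n with _ | n
      · exact absurd (orderOf_eq_one_iff.mp hn) hne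
      · exact dvd_pow_self 5 (by omega)
    rw [hk1, mul_one] at e
    rw [show u = B ^ i from Subtype.ext e]
    exact pow_mem (mem_zpowers B) i
  haveI : Nontrivial ↥(S : Subgroup ↥p.Tg) := nontrivial_iff.mpr ⟨⟨B, hS (mem_zpowers B)⟩, 1, fun e => p.b_ne
    (congrArg (fun w : ↥(S : Subgroup ↥p.Tg) => ((w : ↥p.Tg) : G)) e)⟩
  haveI := S.2.center_nontrivial
  obtain ⟨⟨u, hu⟩, hu1⟩ := exists_ne (1 : center ↥(S : Subgroup ↥p.Tg))
  have hcen : ∀ v ∈ (S : Subgroup ↥p.Tg), Commute (v : G) ((u : ↥p.Tg) : G) := fun v hv =>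
    congrArg (fun w : ↥(S : Subgroup ↥p.Tg) => ((w : ↥p.Tg) : G)) (mem_center_iff.mp hu ⟨v, hv⟩)
  have huB : (u : ↥p.Tg) ∈ zpowers B := key _ u.2 (hcen B (hS (mem_zpowers B))).symm
  have hgen : zpowers (u : ↥p.Tg) = zpowers B := by
    refine Subgroup.eq_of_le_of_card_ge (zpowers_le.mpr huB) ?_
    rw [Nat.card_zpowers, Nat.card_zpowers, ob]
    rcases (Nat.dvd_prime (by norm_num : Nat.Prime 5)).mp (ob ▸ orderOf_dvd_of_mem_zpowers huB) with e | e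
    · exact absurd (Subtype.ext (Subtype.ext (orderOf_eq_one_iff.mp e))) hu1
    · rw [e]
  have hall : (S : Subgroup ↥p.Tg) ≤ zpowers B := fun v hv => key v hv (by
    obtain ⟨j, hj⟩ := mem_zpowers_iff.mp (hgen.ge (mem_zpowers B))
    have := (hcen v hv).zpow_right j
    rwa [← SubgroupClass.coe_zpow, hj] at this)
  have h := (Nat.pow_dvd_pow_iff_le_right (by norm_num : 1 < 5)).mp
    (show 5 ^ 2 ∣ 5 ^ 1 by
      have h2 : 5 ^ 2 ∣ Nat.card ↥(S : Subgroup ↥p.Tg) := S.pow_dvd_card_of_pow_dvd_card (by simpa using h25)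
      exact h2.trans ((Subgroup.card_dvd_of_le hall).trans (dvd_of_eq (by rw [Nat.card_zpowers, ob, pow_one]))))
  omega

theorem pow_inj {i j : ℕ} (h : e5 ^ i = e5 ^ j) : p.b ^ i = p.b ^ j := by
  rw [pow_eq_pow_iff_modEq, p.b_order, ← e5_order, ← pow_eq_pow_iff_modEq]; exact h

theorem exists_normaliser : ∃ N, p.T N ∧ N * p.b * N⁻¹ = p.b ^ 2 := by
  obtain ⟨t, ht, hmt⟩ := p.T_lift eN_mem eN_one
  obtain ⟨c, hc⟩ : ∃ c, c = t * p.b * t⁻¹ := ⟨_, rfl⟩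
  have hcT : p.T c := hc ▸ p.T_mul (p.T_mul ht p.b_T) (p.T_inv ht)
  have hmc : p.toCtx.m c = e5 ^ 2 := by
    rw [hc, p.toCtx.m_mul (ht.1.mul_left p.bz) ht.1.inv_left, p.toCtx.m_mul ht.1 p.bz, p.toCtx.m_inv ht.1, hmt, p.mb,
      eN_conj]
  let U : Subgroup G :=
    { carrier := {x | p.T x ∧ p.toCtx.m x ∈ zpowers e5}
      one_mem' := ⟨p.T_one, by rw [p.toCtx.m_one]; exact one_mem _⟩
      mul_mem' := fun {a b} ha hb => ⟨p.T_mul ha.1 hb.1, by rw [p.toCtx.m_mul ha.1.1 hb.1.1]; exact mul_mem ha.2 hb.2⟩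
      inv_mem' := fun {a} ha => ⟨p.T_inv ha.1, by rw [p.toCtx.m_inv ha.1.1]; exact inv_mem ha.2⟩ }
  have hU : U ≤ p.Tg := fun x hx => p.mem_Tg.mpr hx.1
  obtain ⟨u, hu, j, hj⟩ := conj_to_gen (U := U) (b := p.b) (c := c)
    (fun h => p.not_twentyfive (h.trans (Subgroup.card_dvd_of_le hU)))
    ⟨p.b_T, by rw [p.mb]; exact mem_zpowers _⟩ ⟨hcT, by rw [hmc]; exact pow_mem (mem_zpowers _) 2⟩ p.b_order (by
      rw [hc, show t * p.b * t⁻¹ = MulAut.conj t p.b from rfl, MulEquiv.orderOf_eq]; exact p.b_order)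
  refine ⟨u * t, p.T_mul hu.1 ht, ?_⟩
  have he : u * t * p.b * (u * t)⁻¹ = p.b ^ j := by rw [← hj, hc]; group
  rw [he]
  refine p.pow_inj ?_
  have := congrArg p.toCtx.m hj
  rw [p.toCtx.m_mul (hu.1.1.mul_left hcT.1) hu.1.1.inv_left, p.toCtx.m_mul hu.1.1 hcT.1, p.toCtx.m_inv hu.1.1, hmc,
    p.m_b_pow] at this
  obtain ⟨l, hl⟩ := mem_zpowers_iff.mp hu.2
  rw [← this, ← hl, (((Commute.refl e5).zpow_left l).pow_right 2).eq, mul_inv_cancel_right]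

theorem adjust : ∀ r < 5, r ≠ 0 → ∃ l < 4, (2 ^ l * r) % 5 = 1 := by decide

theorem exists_mover : ∃ x, x * z * x⁻¹ = p.s ∧ x * p.s * x⁻¹ = z ∧ Commute x p.b := by
  obtain ⟨b', hb'⟩ : ∃ b', b' = p.toPt.k * p.b * p.toPt.k⁻¹ := ⟨_, rfl⟩
  have hb'T : p.T b' := ⟨by
      have := (Commute.conj_iff p.toPt.k).mpr p.b_s
      rwa [← hb', p.ks] at this, by
      have := (Commute.conj_iff p.toPt.k).mpr p.bz
      rwa [← hb', p.kz] at this⟩
  have ob' : orderOf b' = 5 := by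
    rw [hb', show p.toPt.k * p.b * p.toPt.k⁻¹ = MulAut.conj p.toPt.k p.b from rfl, MulEquiv.orderOf_eq]; exact p.b_order
  obtain ⟨u, hu, i, hi⟩ := conj_to_gen p.not_twentyfive (p.mem_Tg.mpr p.b_T) (p.mem_Tg.mpr hb'T) p.b_order ob'
  have hu' := p.mem_Tg.mp hu
  have hi5 : i % 5 ≠ 0 := fun h => by
    have : p.b ^ i = 1 := orderOf_dvd_iff_pow_eq_one.mp (p.b_order.symm ▸ Nat.dvd_of_mod_eq_zero h)
    rw [this] at hi
    rw [conj_eq_one_iff.mp hi, orderOf_one] at ob'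
    norm_num at ob'
  obtain ⟨l, -, hl⟩ := adjust (i % 5) (Nat.mod_lt _ (by norm_num)) hi5
  obtain ⟨N, hN, hNb⟩ := p.exists_normaliser
  have hNl : ∀ l j : ℕ, N ^ l * p.b ^ j * (N ^ l)⁻¹ = p.b ^ (2 ^ l * j) := fun l => by
    induction l with
    | zero => intro j; simp
    | succ l ih =>
      intro j
      rw [pow_succ, show N ^ l * N * p.b ^ j * (N ^ l * N)⁻¹ = N ^ l * (N * p.b ^ j * N⁻¹) * (N ^ l)⁻¹ by group,
        ← conj_pow, hNb, ← pow_mul, ih, pow_succ, mul_assoc (2 ^ l) 2 j]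
  have hNT : p.T (N ^ l) := ⟨hN.1.pow_left l, hN.2.pow_left l⟩
  obtain ⟨v, hv⟩ : ∃ v, v = N ^ l * u := ⟨_, rfl⟩
  have hvT : p.T v := hv ▸ p.T_mul hNT hu'
  refine ⟨v * p.toPt.k, ?_, ?_, ?_⟩
  · rw [show v * p.toPt.k * z * (v * p.toPt.k)⁻¹ = v * (p.toPt.k * z * p.toPt.k⁻¹) * v⁻¹ by group, p.kz, hvT.2.eq,
      mul_inv_cancel_right]
  · rw [show v * p.toPt.k * p.s * (v * p.toPt.k)⁻¹ = v * (p.toPt.k * p.s * p.toPt.k⁻¹) * v⁻¹ by group, p.ks, hvT.1.eq,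
      mul_inv_cancel_right]
  · have : v * p.toPt.k * p.b * (v * p.toPt.k)⁻¹ = p.b := by
      rw [show v * p.toPt.k * p.b * (v * p.toPt.k)⁻¹ = N ^ l * (u * (p.toPt.k * p.b * p.toPt.k⁻¹) * u⁻¹) * (N ^ l)⁻¹ by
        rw [hv]; group, ← hb', hi, hNl]
      have hm : (2 ^ l * i) % 5 = 1 := by rw [Nat.mul_mod, ← Nat.mod_mod i 5, ← Nat.mul_mod]; exact hl
      rw [← pow_mod_orderOf, p.b_order, hm, pow_one]
    exact mul_inv_eq_iff_eq_mul.mp this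

/-- The moving element. -/
noncomputable def x : G := p.exists_mover.choose

theorem x_spec : p.x * z * p.x⁻¹ = p.s ∧ p.x * p.s * p.x⁻¹ = z ∧ Commute p.x p.b := p.exists_mover.choose_spec

theorem H0_conj {y h : G} (h1 : y * z * y⁻¹ = p.s) (h2 : y * p.s * y⁻¹ = z) (hb : Commute y p.b) (hh : h ∈ p.H0) :
    y * h * y⁻¹ ∈ p.H0 := by
  obtain ⟨hK, hs⟩ := p.mem_H0.mp hh
  have hT : p.T (y * h * y⁻¹) := ⟨by rw [← h2]; exact (Commute.conj_iff y).mpr hs,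
    by rw [← h1]; exact (Commute.conj_iff y).mpr (p.toCtx.K_z hK)⟩
  obtain ⟨i, k, hk, e⟩ := p.cent_T hT ((hb.mul_left (p.b_K hK)).mul_left hb.inv_left)
  set n := Nat.card ↥p.H0
  have hn : ∀ w ∈ p.H0, w ^ n = 1 := fun w hw =>
    orderOf_dvd_iff_pow_eq_one.mp (Subgroup.orderOf_dvd_natCard p.H0 hw)
  have := congrArg (· ^ n) e
  simp only [conj_pow, hn h hh, mul_one, mul_inv_cancel] at this
  rw [((p.b_K (p.mem_H0.mp hk).1).symm.pow_left i).mul_pow, hn k hk, mul_one, ← pow_mul] at this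
  have hd : 5 ∣ i * n := p.b_order ▸ orderOf_dvd_of_pow_eq_one this.symm
  have hi : 5 ∣ i := ((Nat.Prime.dvd_mul (by norm_num)).mp hd).resolve_right p.not_five_H0
  rw [e, orderOf_dvd_iff_pow_eq_one.mp (p.b_order.symm ▸ hi), one_mul]
  exact hk

/-- The centralizer of the part fixing the point, in the pair centralizer. -/
def CH : Subgroup G := p.Tg ⊓ centralizer (p.H0 : Set G)

theorem mem_CH {y : G} : y ∈ p.CH ↔ p.T y ∧ ∀ h ∈ p.H0, Commute h y :=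
  and_congr p.mem_Tg mem_centralizer_iff

theorem radical_H0 {w : ℕ} (hw : w ∈ [34, 100]) : ∃ r, p.R r ∧ p.β r = w ∧ r ∈ p.H0 := by
  obtain ⟨hW, hp⟩ := (by decide +kernel : ∀ w ∈ [34, 100], w ∈ W ∧ ∀ v ∈ V1, pB v w = false) w hw
  obtain ⟨r, hr, hb⟩ := p.β_surj hW
  exact ⟨r, hr, hb, p.mem_H0.mpr ⟨p.toPt.R_K hr (by rw [hb]; exact hp), (p.R_T hr).2⟩⟩

theorem m_CH {y : G} (hy : y ∈ p.CH) : p.toCtx.m y ∈ St := by
  obtain ⟨hT, hc⟩ := p.mem_CH.mp hy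
  have hfix : ∀ w ∈ [1, 34, 100], cd (p.toCtx.m y) w = w := fun w hw => by
    obtain ⟨hl, hp, hv⟩ := (by decide +kernel : ∀ w ∈ [1, 34, 100], w < 256 ∧ pB 1 w = false ∧ w ∈ V0) w hw
    obtain ⟨q, hq, rfl⟩ := p.π_surj w hl
    have hA : p.A q := p.A_of_perp hq hp
    have hm : q ∈ p.H0 := p.mem_H0.mpr ⟨(p.toCtx.Q_K hq).mpr hv, hA.2⟩
    exact p.toCtx.m_fix hT.1 hq (hc q hm).symm
  exact ⟨p.toCtx.m_mem hT.1, hfix 1 (by simp), hfix 34 (by simp), hfix 100 (by simp)⟩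

/-- The hom to the stabiliser. -/
noncomputable def mCH : ↥p.CH →* ↥St where
  toFun y := ⟨p.toCtx.m y, p.m_CH y.2⟩
  map_one' := Subtype.ext p.toCtx.m_one
  map_mul' a b := Subtype.ext (p.toCtx.m_mul (p.mem_CH.mp a.2).1.1 (p.mem_CH.mp b.2).1.1)

/-- The kernel of the action on the points. -/
theorem kernel_pair {y : ↥p.CH} (h : Five.tau (p.mCH y) = 1) : ∃ a ∈ V1, ∃ b ∈ V1, p.toPt.Pair y a b := by
  obtain ⟨hT, hc⟩ := p.mem_CH.mp y.2
  obtain ⟨v, hv, he⟩ := tau_kernel h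
  change ∀ x < 256, cd (p.toCtx.m y) x = rho v x at he
  obtain ⟨hvW, -⟩ := V1_W v hv
  obtain ⟨r, hr, hb⟩ := p.β_surj hvW
  obtain ⟨q, hq⟩ : ∃ q, q = (y : G) * r⁻¹ := ⟨_, rfl⟩
  have hqz : Commute q z := hq ▸ hT.1.mul_left hr.2.inv_left
  have hqQ : q ∈ p.Q := by
    rw [← p.toCtx.m_one_iff hqz, hq, p.toCtx.m_mul hT.1 hr.2.inv_left, p.toCtx.m_inv hr.2, mul_inv_eq_one]
    exact cd_ext fun x hx => by rw [he x hx, p.m_rho hr x hx, hb]
  have hA : p.A q := ⟨hqQ, hq ▸ hT.2.mul_left (p.R_T hr).2.inv_left⟩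
  refine ⟨p.α q, ?_, v, hv, q, r, hA, hr, by rw [hq, inv_mul_cancel_right], rfl, hb⟩
  have horth : ∀ w ∈ [34, 100], pB (p.α q) w = false := fun w hw => by
    obtain ⟨r', hr', hb', hH⟩ := p.radical_H0 hw
    have hcom : Commute r' (q * r) := by
      rw [hq, inv_mul_cancel_right]; exact hc r' hH
    obtain ⟨e, hedef⟩ : ∃ e, e = r * r' * r⁻¹ * r'⁻¹ := ⟨_, rfl⟩
    have hez : e = 1 ∨ e = p.s := by rw [hedef, ← commutatorElement_def]; exact p.X'.comm r hr.1 r' hr'.1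
    have hE : p.InE e := by
      rcases hez with rfl | rfl
      · exact Or.inl rfl
      · exact Or.inr (Or.inr (Or.inl rfl))
    have e1 : e * Pt.cab q r' = 1 := by
      calc e * Pt.cab q r' = q * e * q⁻¹ * (q * r' * q⁻¹ * r'⁻¹) := by
            rw [(p.E_central hE (p.A_T hA)).eq, mul_inv_cancel_right]; rfl
        _ = q * r * r' * (q * r)⁻¹ * r'⁻¹ := by rw [hedef]; group
        _ = 1 := by rw [← hcom.eq, mul_inv_cancel_right, mul_inv_cancel]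
    have e2 : Pt.cab q r' = e := by
      rw [eq_inv_of_mul_eq_one_right e1]
      exact inv_eq_of_mul_eq_one_right (p.E_sq hE)
    have hz := p.cab_ze hA hr'
    rw [e2, hb'] at hz
    rcases hez with rfl | rfl
    · exact hz.symm.trans p.zse.1.1
    · exact hz.symm.trans p.zse.2.2.1.1
  exact W_V1 _ (p.α_mem q) (horth 34 (by simp)) (horth 100 (by simp))

end Fv

end Cfsg.Lib.ConwayType
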