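import Cfsg.Agent.ConwayType.FiveFinal

/-!
Normalising the given group of order five.
-/

set_option autoImplicit false
set_option maxRecDepth 100000
set_option maxHeartbeats 1000000
set_option linter.unusedSectionVars false
set_option linter.style.haveILetI false

namespace Cfsg.Lib.ConwayType

open Subgroup Cfsg.Lib.ConwayType.Code Cfsg.Lib.ConwayType.Five
open scoped commutatorElement

universe u

variable {G : Type u} [Group G] [Finite G] {z : G}

namespace Five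

/-- The element of order five on the other side. -/
noncomputable def f5 : O8 := eX * e5 * eX⁻¹

theorem f5_mem : f5 ∈ Om := mul_mem (mul_mem eX_mem e5_mem) (inv_mem eX_mem)

theorem f5_fix {v : ℕ} (hv : v ∈ V1) : cd f5 v = v := by
  rw [f5, cd_mul, cd_mul, eX_inv, (e5_fix (cd_lt _ _)).mpr (eX_V1 hv), ← cd_mul, eX_two, cd_one (V1_lt v hv)]

theorem f5_five : f5 ^ 5 = 1 := by rw [f5, conj_pow, e5_five, mul_one, mul_inv_cancel]

theorem f5_order : orderOf f5 = 5 := by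
  rw [f5, show eX * e5 * eX⁻¹ = MulAut.conj eX e5 from rfl, MulEquiv.orderOf_eq]; exact e5_order

theorem e5f5 : Commute e5 f5 := cd_ext fun x hx => by
  obtain ⟨a, ha, hb⟩ := V_split x hx
  obtain ⟨b', hb'⟩ : ∃ b', b' = a ^^^ x := ⟨_, rfl⟩
  rw [← hb'] at hb
  have e : x = a ^^^ b' := by rw [hb', ← Nat.xor_assoc, Nat.xor_self, Nat.zero_xor]
  have h0 : ∀ v ∈ V0, cd e5 v = v := e5_O1.2
  rw [cd_mul, cd_mul, e]
  simp only [cd_xor]
  rw [h0 a ha, h0 _ (keep_V0 (fun v hv => f5_fix hv) ha), f5_fix hb, f5_fix (keep_V1 h0 hb)]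

theorem sylow_om {g : O8} (hg : g ∈ Om) (h5 : g ^ 5 = 1) :
    ∃ d ∈ Om, ∃ i j : ℕ, d * g * d⁻¹ = e5 ^ i * f5 ^ j := by
  haveI : Fact (Nat.Prime 5) := ⟨by norm_num⟩
  let f : ↥(zpowers e5) × ↥(zpowers f5) →* O8 :=
    MonoidHom.noncommCoprod (zpowers e5).subtype (zpowers f5).subtype fun x y => by
      obtain ⟨i, hi⟩ := mem_zpowers_iff.mp x.2
      obtain ⟨j, hj⟩ := mem_zpowers_iff.mp y.2
      show Commute (x : O8) y
      rw [← hi, ← hj]
      exact (e5f5.zpow_left i).zpow_right j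
  have hfapp : ∀ x, f x = (x.1 : O8) * (x.2 : O8) := fun x => rfl
  have hfix0 : ∀ x ∈ zpowers e5, x ∈ O1 := fun x hx => zpowers_le.mpr e5_O1 hx
  have hfix1 : ∀ x ∈ zpowers f5, ∀ v ∈ V1, cd x v = v := fun x hx v hv => by
    rw [← mem_powers_iff_mem_zpowers, Submonoid.mem_powers_iff] at hx
    obtain ⟨n, rfl⟩ := hx
    induction n with
    | zero => rw [pow_zero, cd_one (V1_lt v hv)]
    | succ n ih => rw [pow_succ, cd_mul, f5_fix hv, ih]
  have hinj : Function.Injective f := (injective_iff_map_eq_one f).mpr fun ⟨⟨x, hx⟩, ⟨y, hy⟩⟩ h => by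
    rw [hfapp] at h
    change x * y = 1 at h
    have hyO : y ∈ O1 := by
      rw [eq_inv_of_mul_eq_one_right h]; exact inv_mem (hfix0 x hx)
    have hy1 : y = 1 := fix_both hyO.2 (hfix1 y hy)
    rw [hy1, mul_one] at h
    subst h hy1
    rfl
  set P : Subgroup ↥Om := f.range.subgroupOf Om with hP
  have hPle : f.range ≤ Om := by
    rintro _ ⟨x, rfl⟩
    rw [hfapp]
    exact mul_mem (hfix0 _ x.1.2).1 (zpowers_le.mpr f5_mem x.2.2)
  have hPc : Nat.card ↥P = 5 ^ 2 := by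
    rw [hP, Nat.card_congr (subgroupOfEquivOfLe hPle).toEquiv, ← Nat.card_congr (MonoidHom.ofInjective hinj).toEquiv,
      Nat.card_prod, Nat.card_zpowers, Nat.card_zpowers, e5_order, f5_order, pow_two]
  have hOm : Nat.card ↥Om = 174182400 := by
    have hcoe : ∀ (q' : (Fin 4 ⊕ Fin 4 → ZMod 2) → ZMod 2), q' = ⇑qf →
        Nat.card ↥(Cfsg.Omega (ZMod 2) q') = Nat.card ↥Om := fun q' e => by subst e; rfl
    rw [← hcoe _ qf_coe.symm]
    exact card_omega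
  have hsy : ∀ S : Sylow 5 ↥Om, Nat.card ↥(S : Subgroup ↥Om) ≤ 5 ^ 2 := fun S => by
    obtain ⟨n, hn⟩ := S.2.exists_card_eq
    have hd := Subgroup.card_subgroup_dvd_card (S : Subgroup ↥Om)
    rw [hn, hOm] at hd
    rw [hn]
    refine Nat.pow_le_pow_right (by norm_num) ?_
    by_contra hlt
    exact absurd ((pow_dvd_pow 5 (not_le.mp hlt)).trans hd) (by norm_num)
  obtain ⟨S, hS⟩ := (IsPGroup.of_card hPc).exists_le_sylow
  have hSP : P = (S : Subgroup ↥Om) := Subgroup.eq_of_le_of_card_ge hS (by rw [hPc]; exact hsy S)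
  have hgp : IsPGroup 5 ↥(zpowers (⟨g, hg⟩ : ↥Om)) := fun x => ⟨1, by
    obtain ⟨i, hi⟩ := mem_zpowers_iff.mp x.2
    refine Subtype.ext ?_
    rw [SubmonoidClass.coe_pow, ← hi, ← zpow_natCast, ← zpow_mul, mul_comm, zpow_mul, zpow_natCast,
      show (⟨g, hg⟩ : ↥Om) ^ 5 ^ 1 = 1 from Subtype.ext (by rw [SubmonoidClass.coe_pow, pow_one]; exact h5), one_zpow]
    rfl⟩
  obtain ⟨S1, hS1⟩ := hgp.exists_le_sylow
  obtain ⟨d, hd⟩ := MulAction.exists_smul_eq ↥Om S1 S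
  have hm : d * ⟨g, hg⟩ * d⁻¹ ∈ ((d • S1 : Sylow 5 ↥Om) : Subgroup ↥Om) := by
    rw [Sylow.coe_subgroup_smul]
    exact ⟨⟨g, hg⟩, hS1 (mem_zpowers _), rfl⟩
  rw [hd, ← hSP, hP, mem_subgroupOf] at hm
  obtain ⟨⟨⟨x, hx⟩, ⟨y, hy⟩⟩, e⟩ := hm
  rw [hfapp] at e
  rw [← mem_powers_iff_mem_zpowers, Submonoid.mem_powers_iff] at hx hy
  obtain ⟨i, rfl⟩ := hx
  obtain ⟨j, rfl⟩ := hy
  exact ⟨d, d.2, i, j, e.symm⟩

theorem gen_back {g : O8} (hg : g ^ 5 = 1) {i : ℕ} (hi : ¬ 5 ∣ i) : ∃ l, (g ^ i) ^ l = g ∧ ¬ 5 ∣ l := by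
  obtain ⟨l, hl, hl5⟩ : ∃ l, i * l % 5 = 1 ∧ ¬ 5 ∣ l := by
    obtain ⟨l, -, h, h'⟩ := (by decide : ∀ r < 5, r ≠ 0 → ∃ l < 5, r * l % 5 = 1 ∧ ¬ 5 ∣ l) (i % 5)
      (Nat.mod_lt _ (by norm_num)) (fun h => hi (Nat.dvd_of_mod_eq_zero h))
    exact ⟨l, by rw [Nat.mul_mod, ← Nat.mod_mod i 5, ← Nat.mul_mod]; exact h, h'⟩
  exact ⟨l, by rw [← pow_mul, pow_eq_pow_mod _ hg, hl, pow_one], hl5⟩

theorem pow_dvd_one {g : O8} (hg : g ^ 5 = 1) {i : ℕ} (hi : 5 ∣ i) : g ^ i = 1 := by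
  obtain ⟨k, rfl⟩ := hi
  rw [pow_mul, hg, one_pow]

theorem fix_pow {g : O8} {v : ℕ} (hv : v < 256) (h : cd g v = v) : ∀ n : ℕ, cd (g ^ n) v = v
  | 0 => by rw [pow_zero, cd_one hv]
  | n + 1 => by rw [pow_succ, cd_mul, h, fix_pow hv h n]

/-- An element of order five with a nonzero fixed vector. -/
theorem normal_form {g : O8} (hg : g ∈ Om) (h5 : g ^ 5 = 1) (hne : g ≠ 1) {x : ℕ} (hx : x < 256) (hx0 : x ≠ 0)
    (hfix : cd g x = x) : ∃ d ∈ Om, ∃ l, d * g ^ l * d⁻¹ = e5 ∧ ¬ 5 ∣ l := by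
  obtain ⟨d, hd, i, j, e⟩ := sylow_om hg h5
  by_cases hj : 5 ∣ j
  · rw [pow_dvd_one f5_five hj, mul_one] at e
    by_cases hi : 5 ∣ i
    · rw [pow_dvd_one e5_five hi] at e
      exact absurd (conj_eq_one_iff.mp e) hne
    obtain ⟨l, hl, hl5⟩ := gen_back e5_five hi
    exact ⟨d, hd, l, by rw [← conj_pow, e, hl], hl5⟩
  by_cases hi : 5 ∣ i
  · rw [pow_dvd_one e5_five hi, one_mul] at e
    obtain ⟨l, hl, hl5⟩ := gen_back f5_five hj
    refine ⟨eX * d, mul_mem eX_mem hd, l, ?_, hl5⟩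
    rw [show eX * d * g ^ l * (eX * d)⁻¹ = eX * (d * g ^ l * d⁻¹) * eX⁻¹ by group, ← conj_pow, e, hl, f5]
    rw [eX_inv, show eX * (eX * e5 * eX) * eX = eX * eX * e5 * (eX * eX) by group, eX_two, one_mul, mul_one]
  exfalso
  -- both components are nontrivial
  obtain ⟨y, hy⟩ : ∃ y, y = cd d x := ⟨_, rfl⟩
  have hyl : y < 256 := hy ▸ cd_lt _ _
  have hyf : cd (e5 ^ i * f5 ^ j) y = y := by
    rw [← e, hy, ← cd_mul, inv_mul_cancel_right, cd_mul, hfix]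
  obtain ⟨a, ha, hb⟩ := V_split y hyl
  obtain ⟨b', hb'⟩ : ∃ b', b' = a ^^^ y := ⟨_, rfl⟩
  rw [← hb'] at hb
  have ey : y = a ^^^ b' := by rw [hb', ← Nat.xor_assoc, Nat.xor_self, Nat.zero_xor]
  have he0 : ∀ v ∈ V0, cd (e5 ^ i) v = v := (pow_mem e5_O1 i).2
  have hf1 : ∀ v ∈ V1, cd (f5 ^ j) v = v := fun v hv => fix_pow (V1_lt v hv) (f5_fix hv) j
  have ka := keep_V0 hf1 ha
  have kb := keep_V1 he0 hb
  rw [cd_mul, ey, cd_xor (f5 ^ j), hf1 b' hb, cd_xor, he0 _ ka] at hyf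
  have hsum : cd (f5 ^ j) a ^^^ a = cd (e5 ^ i) b' ^^^ b' := by
    calc cd (f5 ^ j) a ^^^ a = cd (f5 ^ j) a ^^^ cd (e5 ^ i) b' ^^^ (cd (e5 ^ i) b' ^^^ a) := by
          rw [Nat.xor_assoc, ← Nat.xor_assoc (cd (e5 ^ i) b'), Nat.xor_self, Nat.zero_xor]
      _ = _ := by
          rw [hyf, Nat.xor_comm (cd (e5 ^ i) b') a, Nat.xor_assoc, ← Nat.xor_assoc b', Nat.xor_comm b' a,
            ← Nat.xor_assoc a, ← Nat.xor_assoc a, Nat.xor_self, Nat.zero_xor, Nat.xor_comm]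
  have z0 : cd (f5 ^ j) a ^^^ a = 0 :=
    V_inter _ (V0_xor _ ka a ha) (hsum ▸ V1_xor _ kb b' hb)
  have z1 : cd (e5 ^ i) b' ^^^ b' = 0 := hsum ▸ z0
  have hb0 : b' = 0 := by
    obtain ⟨l, hl, -⟩ := gen_back e5_five hi
    have := fix_pow (V1_lt b' hb) (xor_eq_zero'.mp z1) l
    rw [hl] at this
    exact V_inter _ ((e5_fix (V1_lt b' hb)).mp this) hb
  have ha0 : a = 0 := by
    obtain ⟨l, hl, -⟩ := gen_back f5_five hj
    have h1 := fix_pow (V0_lt a ha) (xor_eq_zero'.mp z0) l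
    rw [hl, f5, cd_mul, cd_mul, eX_inv] at h1
    have h2 := congrArg (cd eX) h1
    rw [← cd_mul eX eX, eX_two, cd_one (cd_lt _ _)] at h2
    have h3 := V_inter _ ((e5_fix (cd_lt _ _)).mp h2) (eX_V0 ha)
    exact cd_inj eX (V0_lt a ha) (by norm_num) (h3.trans (cd_zero eX).symm)
  rw [hb0, ha0, Nat.xor_self, hy] at ey
  exact hx0 (cd_inj d hx (by norm_num) (ey.trans (cd_zero d).symm))

end Five

/-- The normal subgroup of the data is the given one. -/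
theorem Q_eq (c : Ctx z) (Q : Subgroup (centralizer ({z} : Set G))) [Q.Normal] (hP : IsPGroup 2 ↥Q)
    (hcard : Nat.card ↥Q = 512) : c.Q = Q.map (centralizer ({z} : Set G)).subtype := by
  have hs : IsSimpleGroup ↥c.μ.range := by
    rw [c.rng]
    have hcoe : ∀ (q' : (Fin 4 ⊕ Fin 4 → ZMod 2) → ZMod 2), q' = ⇑qf →
        IsSimpleGroup ↥(Cfsg.Omega (ZMod 2) q') → IsSimpleGroup ↥Om := fun q' e h => by subst e; exact h
    exact hcoe _ qf_coe.symm omega_simple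
  haveI := hs
  haveI hn : (Q.map c.μ.rangeRestrict).Normal :=
    Subgroup.Normal.map inferInstance _ c.μ.rangeRestrict_surjective
  have hbot : Q.map c.μ.rangeRestrict = ⊥ := by
    refine (IsSimpleGroup.eq_bot_or_eq_top_of_normal _ hn).resolve_right fun h => ?_
    have hp := (hP.map c.μ.rangeRestrict)
    rw [h] at hp
    haveI : Fact (Nat.Prime 2) := ⟨Nat.prime_two⟩
    obtain ⟨n, hn'⟩ := hp.exists_card_eq
    rw [Subgroup.card_top, c.rng] at hn'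
    have hcoe : ∀ (q' : (Fin 4 ⊕ Fin 4 → ZMod 2) → ZMod 2), q' = ⇑qf →
        Nat.card ↥(Cfsg.Omega (ZMod 2) q') = Nat.card ↥Om := fun q' e => by subst e; rfl
    rw [← hcoe _ qf_coe.symm, card_omega] at hn'
    have h3 : 3 ∣ 2 ^ n := hn' ▸ (by norm_num)
    exact absurd (Nat.prime_three.dvd_of_dvd_pow h3) (by norm_num)
  refine (Subgroup.eq_of_le_of_card_ge ?_ ?_).symm
  · rintro _ ⟨q, hq, rfl⟩
    refine (c.ker q).mp (Subgroup.mem_bot.mp ?_)
    have := mem_map_of_mem c.μ.rangeRestrict hq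
    rw [hbot, Subgroup.mem_bot] at this
    rw [Subgroup.mem_bot]
    exact congrArg Subtype.val this
  · rw [card_map_of_injective (centralizer ({z} : Set G)).subtype_injective, hcard, c.card]

/-- The conclusion for a subgroup. -/
def Good (H : Subgroup G) : Prop :=
  Cfsg.Spor.IsoJ2 ↥(Cfsg.layer ↥(centralizer (H : Set G))) ∧
    Nonempty (↥(centralizer (((Cfsg.layer ↥(centralizer (H : Set G))).map (centralizer (H : Set G)).subtype) : Set G))
      ≃* alternatingGroup (Fin 5))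

theorem good_of_eq {H : Subgroup G} (e : G ≃* G) {Y : Subgroup G}
    (hY : (centralizer (H : Set G)).map e.toMonoidHom = Y)
    (h : Cfsg.Spor.IsoJ2 ↥(Cfsg.layer ↥Y) ∧
      Nonempty (↥(centralizer (((Cfsg.layer ↥Y).map Y.subtype) : Set G)) ≃* alternatingGroup (Fin 5))) : Good H := by
  subst hY
  obtain ⟨⟨h1⟩, ⟨h2⟩⟩ := h
  set X := centralizer (H : Set G)
  let eX' : ↥X ≃* ↥(X.map e.toMonoidHom) := X.equivMapOfInjective e.toMonoidHom e.injective
  have hlay := Cfsg.Lib.Components.layer_map_equiv eX'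
  refine ⟨⟨((Cfsg.layer ↥X).equivMapOfInjective eX'.toMonoidHom eX'.injective).trans
    ((MulEquiv.subgroupCongr hlay).trans h1)⟩, ⟨?_⟩⟩
  have hmap : ((Cfsg.layer ↥X).map X.subtype).map e.toMonoidHom =
      (Cfsg.layer ↥(X.map e.toMonoidHom)).map (X.map e.toMonoidHom).subtype := by
    rw [← hlay, Subgroup.map_map, Subgroup.map_map]
    rfl
  set L := (Cfsg.layer ↥X).map X.subtype
  have hc : (centralizer (L : Set G)).map e.toMonoidHom = centralizer ((L.map e.toMonoidHom : Subgroup G) : Set G) := by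
    ext x
    rw [mem_map_equiv, mem_centralizer_iff, mem_centralizer_iff]
    constructor
    · rintro h _ ⟨y, hy, rfl⟩
      exact e.symm.injective (by
        rw [map_mul, map_mul, show e.symm (e.toMonoidHom y) = y from e.symm_apply_apply y]; exact h y hy)
    · intro h y hy
      exact e.injective (by
        rw [map_mul, map_mul, e.apply_symm_apply]; exact h (e y) ⟨y, hy, rfl⟩)
  exact ((centralizer (L : Set G)).equivMapOfInjective e.toMonoidHom e.injective).trans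
    ((MulEquiv.subgroupCongr (hc.trans (by rw [hmap]))).trans h2)

theorem five_centralizer (c : Pt z) (b0 : G) (hb0 : Commute b0 z) (ob : orderOf b0 = 5)
    (hX : Cfsg.IsExtraspecial 2 ↥(c.Q ⊓ centralizer ({b0} : Set G)))
    (hcard : Nat.card ↥(c.Q ⊓ centralizer ({b0} : Set G)) = 32) : Good (zpowers b0) := by
  classical
  have b05 : b0 ^ 5 = 1 := ob ▸ pow_orderOf_eq_one b0
  let μz : ↥(centralizer ({z} : Set G)) →* O8 := c.μ
  have hmpow : ∀ x : G, Commute x z → ∀ n : ℕ, c.toCtx.m (x ^ n) = c.toCtx.m x ^ n := fun x hx n => by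
    induction n with
    | zero => rw [pow_zero, pow_zero, c.toCtx.m_one]
    | succ n ih => rw [pow_succ, pow_succ, c.toCtx.m_mul (hx.pow_left n) hx, ih]
  have hg5 : c.toCtx.m b0 ^ 5 = 1 := by rw [← hmpow b0 hb0, b05, c.toCtx.m_one]
  have hg1 : c.toCtx.m b0 ≠ 1 := fun e => by
    have h2 : orderOf b0 ∣ 512 := c.card ▸ Subgroup.orderOf_dvd_natCard c.Q ((c.toCtx.m_one_iff hb0).mp e)
    rw [ob] at h2
    norm_num at h2
  obtain ⟨q, hq, hq0⟩ : ∃ q ∈ c.Q ⊓ centralizer ({b0} : Set G), c.π q ≠ 0 := by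
    by_contra hno
    push Not at hno
    have hle : c.Q ⊓ centralizer ({b0} : Set G) ≤ zpowers z := fun q hq => by
      rcases (c.π_zero q hq.1).mp (hno q hq) with e | e <;> rw [e]
      · exact one_mem _
      · exact mem_zpowers z
    have := Nat.le_of_dvd Nat.card_pos (Subgroup.card_dvd_of_le hle)
    rw [hcard, Nat.card_zpowers, c.hz] at this
    norm_num at this
  have hfix := c.toCtx.m_fix hb0 hq.1 (mem_centralizer_singleton_iff.mp hq.2).symm
  obtain ⟨h, hh, l, hl, hl5⟩ := normal_form (c.toCtx.m_mem hb0) hg5 hg1 (c.π_lt q) hq0 hfix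
  obtain ⟨d, hd, rfl⟩ := c.toCtx.m_surj hh
  obtain ⟨b, hbdef⟩ : ∃ b, b = d * b0 ^ l * d⁻¹ := ⟨_, rfl⟩
  have hbz : Commute b z := hbdef ▸ (hd.mul_left (hb0.pow_left l)).mul_left hd.inv_left
  let p : Fv z :=
    { toPt := c
      b := b
      bz := hbz
      b5 := by rw [hbdef, conj_pow, ← pow_mul, mul_comm, pow_mul, b05, one_pow, mul_one, mul_inv_cancel]
      mb := by
        rw [hbdef, c.toCtx.m_mul (hd.mul_left (hb0.pow_left l)) hd.inv_left, c.toCtx.m_mul hd (hb0.pow_left l),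
          c.toCtx.m_inv hd, hmpow b0 hb0, hl] }
  have hcb : ∀ x : G, Commute x b0 ↔ Commute (d * x * d⁻¹) b := fun x => by
    rw [hbdef, Commute.conj_iff]
    refine ⟨fun h => h.pow_right l, fun h => ?_⟩
    obtain ⟨n, hn⟩ : ∃ n, (b0 ^ l) ^ n = b0 := by
      obtain ⟨n, -, h1⟩ := (by decide : ∀ r < 5, r ≠ 0 → ∃ n < 5, r * n % 5 = 1) (l % 5) (Nat.mod_lt _ (by norm_num))
        (fun h => hl5 (Nat.dvd_of_mod_eq_zero h))
      refine ⟨n, ?_⟩
      rw [← pow_mul, ← pow_mod_orderOf, ob, Nat.mul_mod, ← Nat.mod_mod l 5, ← Nat.mul_mod]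
      rw [h1, pow_one]
    exact hn ▸ h.pow_right n
  have hmapX : (centralizer ({b0} : Set G)).map (MulAut.conj d).toMonoidHom = p.XX := by
    ext x
    rw [mem_map_equiv, mem_centralizer_singleton_iff, p.mem_XX]
    rw [MulAut.conj_symm_apply]
    show Commute (d⁻¹ * x * d) b0 ↔ _
    rw [hcb, show d * (d⁻¹ * x * d) * d⁻¹ = x by group]
  have hQ0 : (c.Q ⊓ centralizer ({b0} : Set G)).map (MulAut.conj d).toMonoidHom = p.Q0 := by
    rw [Subgroup.map_inf _ _ _ (MulAut.conj d).injective, hmapX]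
    ext x
    constructor
    · rintro ⟨⟨w, hw, rfl⟩, hx⟩
      have hwQ : d * w * d⁻¹ ∈ c.Q := c.toCtx.norm hd hw
      exact ⟨hwQ, (c.toCtx.Q_K hwQ).mpr ((p.cent_Q hwQ).mp (p.mem_XX.mp hx).symm)⟩
    · rintro ⟨hxQ, hxK⟩
      refine ⟨⟨d⁻¹ * x * d⁻¹⁻¹, c.toCtx.norm hd.inv_left hxQ, ?_⟩, p.mem_XX.mpr (p.b_K hxK)⟩
      show d * (d⁻¹ * x * d⁻¹⁻¹) * d⁻¹ = x
      group
  let e0 : ↥(c.Q ⊓ centralizer ({b0} : Set G)) ≃* ↥p.Q0 :=
    ((c.Q ⊓ centralizer ({b0} : Set G)).equivMapOfInjective _ (MulAut.conj d).injective).trans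
      (MulEquiv.subgroupCongr hQ0)
  refine good_of_eq (MulAut.conj d) (Y := p.XX) ?_ (p.core (Cfsg.Lib.LargeFischer.isExtraspecial_congr e0 hX)
    (by rw [← Nat.card_congr e0.toEquiv, hcard]))
  rw [← hmapX, zpowers_eq_closure, centralizer_closure]

end Cfsg.Lib.ConwayType
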