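import Cfsg.Agent.ConwayType.FiveAgree
import Cfsg.Agent.LocalThree.HallJankoType.Glue
import Cfsg.Agent.LocalThree.HallJankoType.Iso.Main

/-!
Modulo the element of order five its centralizer meets the hypothesis of Hall–Janko type.
-/

set_option autoImplicit false
set_option maxRecDepth 100000
set_option maxHeartbeats 1000000
set_option linter.unusedSectionVars false
set_option linter.style.haveILetI false

namespace Cfsg.Lib.ConwayType

open Subgroup Cfsg.Lib.ConwayType.Code Cfsg.Lib.ConwayType.Five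
open scoped commutatorElement

universe u

variable {G : Type u} [Group G] [Finite G] {z : G}

namespace Fv

variable (p : Fv z)

theorem inv_eq_pow {u v : G} (hu : u * u = 1) (hv : v * v = 1) (hvb : Commute v p.b) {i : ℕ}
    (e : u = p.b ^ i * v) : u = v := by
  have h2 : p.b ^ (i * 2) = 1 := by
    rw [e, (hvb.symm.pow_left i).symm.mul_mul_mul_comm, hv, mul_one] at hu
    rw [pow_mul, pow_two]; exact hu
  have hd : 5 ∣ i * 2 := p.b_order ▸ orderOf_dvd_of_pow_eq_one h2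
  have hi : 5 ∣ i := ((Nat.Prime.dvd_mul (by norm_num)).mp hd).resolve_right (by norm_num)
  rw [e, orderOf_dvd_iff_pow_eq_one.mp (p.b_order.symm ▸ hi), one_mul]

theorem K_cap {i : ℕ} (h : p.b ^ i ∈ p.toCtx.K) : p.b ^ i = 1 := by
  have h1 := p.toCtx.K_fix h
  rw [p.m_b_pow] at h1
  have h2 := fix_both (pow_mem e5_O1 i).2 h1
  rw [← pow_zero p.b]
  exact p.pow_inj (by rw [h2, pow_zero])

theorem mem_zpowers_b {x : G} : x ∈ zpowers p.b ↔ ∃ i : ℕ, p.b ^ i = x := by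
  rw [← mem_powers_iff_mem_zpowers, Submonoid.mem_powers_iff]

theorem z_ne_pow {i : ℕ} : p.b ^ i ≠ z := fun e => by
  exact p.X.ne (e.symm.trans (p.K_cap (by rw [e]; exact (p.toCtx.Q_K p.X.mem).mpr (by rw [p.toCtx.pi_z]; decide))))

/-- The part over the first four-space. -/
def Q0 : Subgroup G := p.Q ⊓ p.toCtx.K

theorem y1_ne : p.y1 ≠ 1 := fun e => by
  have h := p.m_y1
  rw [e, p.toCtx.m_one] at h
  obtain ⟨y, hy, hne⟩ := rho_ne 100 (by decide) (by decide)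
  exact hne (by rw [← cd_rhoE (show 100 ∈ W by decide) hy, ← h, cd_one hy])

/-- The hom of the first factor to the alternating group. -/
noncomputable def theta : ↥p.toCtx.K →* alternatingGroup (Fin 5) :=
  (Five.O1_equiv.some.toMonoidHom.comp p.toCtx.mM).comp
    { toFun := fun k => ⟨p.wEl * k * p.wEl⁻¹, p.toCtx.K_to_M.mp k.2⟩
      map_one' := Subtype.ext (by simp)
      map_mul' := fun a b => Subtype.ext (by
        show p.wEl * ((a : G) * b) * p.wEl⁻¹ = p.wEl * a * p.wEl⁻¹ * (p.wEl * b * p.wEl⁻¹)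
        group) }

theorem theta_surj : Function.Surjective p.theta := fun σ => by
  obtain ⟨⟨y, hy⟩, e⟩ := p.toCtx.mM_surj (Five.O1_equiv.some.symm σ)
  refine ⟨⟨p.wEl⁻¹ * y * p.wEl, p.toCtx.K_to_M.mpr (by
    rwa [show p.wEl * (p.wEl⁻¹ * y * p.wEl) * p.wEl⁻¹ = y by group])⟩, ?_⟩
  show Five.O1_equiv.some (p.toCtx.mM ⟨p.wEl * (p.wEl⁻¹ * y * p.wEl) * p.wEl⁻¹, _⟩) = σ
  rw [show (⟨p.wEl * (p.wEl⁻¹ * y * p.wEl) * p.wEl⁻¹, _⟩ : ↥p.toCtx.M) = ⟨y, hy⟩ from Subtype.ext (by group), e,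
    MulEquiv.apply_symm_apply]

theorem theta_ker (k : ↥p.toCtx.K) : p.theta k = 1 ↔ (k : G) ∈ p.Q := by
  show Five.O1_equiv.some (p.toCtx.mM ⟨p.wEl * k * p.wEl⁻¹, _⟩) = 1 ↔ _
  rw [MulEquiv.map_eq_one_iff, p.toCtx.mM_ker]
  constructor
  · intro h
    have := p.toCtx.norm p.wEl_z.inv_left h
    rwa [show p.wEl⁻¹ * (p.wEl * k * p.wEl⁻¹) * p.wEl⁻¹⁻¹ = k by group] at this
  · exact fun h => p.toCtx.norm p.wEl_z h

theorem quot_iso (hX : Cfsg.IsExtraspecial 2 ↥p.Q0) (hc : Nat.card ↥p.Q0 = 32) (Y : Subgroup G)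
    (hY : Y ≤ centralizer ({p.b} : Set G)) (hb : p.b ∈ Y) (hK : p.toCtx.K ≤ Y) (hx : p.x ∈ Y)
    [((zpowers p.b).subgroupOf Y).Normal] :
    Cfsg.Spor.IsoJ2 (↥Y ⧸ (zpowers p.b).subgroupOf Y) := by
  classical
  haveI : Fact (Nat.Prime 2) := ⟨Nat.prime_two⟩
  have hYb : ∀ y ∈ Y, Commute y p.b := fun y hy => mem_centralizer_singleton_iff.mp (hY hy)
  have hzK : z ∈ p.toCtx.K := (p.toCtx.Q_K p.X.mem).mpr (by rw [p.toCtx.pi_z]; decide)
  set N := (zpowers p.b).subgroupOf Y with hN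
  set mk := QuotientGroup.mk' N with hmk
  have hker : ∀ u v : ↥Y, mk u = mk v ↔ ∃ i : ℕ, (u : G) = p.b ^ i * v := fun u v => by
    rw [hmk, QuotientGroup.mk'_apply, QuotientGroup.mk'_apply, QuotientGroup.eq_iff_div_mem, hN, mem_subgroupOf,
      p.mem_zpowers_b, Subgroup.coe_div]
    exact exists_congr fun i => by rw [eq_div_iff_mul_eq', eq_comm]
  set zb := mk ⟨z, hK hzK⟩ with hzb
  have hsq : ∀ u : G, ∀ hu : u ∈ Y, u * u = 1 → u ≠ 1 → orderOf (mk ⟨u, hu⟩) = 2 := fun u hu huu hu1 => by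
    refine orderOf_eq_prime ?_ fun e => hu1 ?_
    · rw [← map_pow, show (⟨u, hu⟩ : ↥Y) ^ 2 = 1 from Subtype.ext (by rw [SubmonoidClass.coe_pow, pow_two]; exact huu),
        map_one]
    · rw [← map_one mk] at e
      obtain ⟨i, hi⟩ := (hker _ _).mp e
      exact p.inv_eq_pow huu (one_mul 1) (Commute.one_left _) hi
  have hzo : orderOf zb = 2 := hsq z (hK hzK) p.X.zz p.X.ne
  have hιmem : ∀ k : ↥p.toCtx.K, mk ⟨k, hK k.2⟩ ∈ HallJankoType.Cz zb := fun k => HallJankoType.mem_Cz.2 (by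
    rw [hzb]
    exact Commute.map (show Commute (⟨k, hK k.2⟩ : ↥Y) ⟨z, hK hzK⟩ from Subtype.ext (p.toCtx.K_z k.2)) mk)
  let ι : ↥p.toCtx.K →* ↥(HallJankoType.Cz zb) :=
    { toFun := fun k => ⟨mk ⟨k, hK k.2⟩, hιmem k⟩
      map_one' := Subtype.ext (map_one mk)
      map_mul' := fun a b => Subtype.ext (map_mul mk ⟨a, hK a.2⟩ ⟨b, hK b.2⟩) }
  have hι : ∀ k : ↥p.toCtx.K, (ι k : ↥Y ⧸ N) = mk ⟨k, hK k.2⟩ := fun _ => rfl
  have hinj : Function.Injective ι := (injective_iff_map_eq_one ι).mpr fun k hk => by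
    have := congrArg Subtype.val hk
    rw [hι, OneMemClass.coe_one, ← map_one mk] at this
    obtain ⟨i, hi⟩ := (hker _ _).mp this
    simp only [OneMemClass.coe_one, mul_one] at hi
    exact Subtype.ext (hi.trans (p.K_cap (hi ▸ k.2)))
  have hsurj : Function.Surjective ι := fun c => by
    obtain ⟨⟨y, hy⟩, e⟩ := QuotientGroup.mk'_surjective N (c : ↥Y ⧸ N)
    have hc := HallJankoType.mem_Cz.1 c.2
    rw [← e, hzb] at hc
    have hyz := hK hzK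
    have h' : mk (⟨y, hy⟩ * ⟨z, hyz⟩ * ⟨y, hy⟩⁻¹) = mk ⟨z, hyz⟩ := by
      rw [map_mul, map_mul, map_inv, hc.eq, mul_inv_cancel_right]
    obtain ⟨i, hi⟩ := (hker _ _).mp h'
    simp only [Subgroup.coe_mul, Subgroup.coe_inv] at hi
    have := p.inv_eq_pow (by
      rw [show y * z * y⁻¹ * (y * z * y⁻¹) = y * (z * z) * y⁻¹ by group, p.X.zz, mul_one, mul_inv_cancel]) p.X.zz
      p.bz.symm hi
    obtain ⟨j, k, hk, hjk⟩ := p.cent_b (mul_inv_eq_iff_eq_mul.mp this) (hYb y hy)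
    refine ⟨⟨k, hk⟩, Subtype.ext ?_⟩
    rw [hι, ← e]
    exact ((hker _ _).mpr ⟨j, hjk⟩).symm
  let eK : ↥p.toCtx.K ≃* ↥(HallJankoType.Cz zb) := MulEquiv.ofBijective ι ⟨hinj, hsurj⟩
  haveI hQn : (p.Q0.subgroupOf p.toCtx.K).Normal := ⟨fun n hn g => by
    rw [mem_subgroupOf] at hn ⊢
    exact ⟨p.toCtx.norm (p.toCtx.K_z g.2) hn.1, p.toCtx.K.mul_mem (p.toCtx.K.mul_mem g.2 n.2) (p.toCtx.K.inv_mem g.2)⟩⟩
  let Qb : Subgroup ↥(HallJankoType.Cz zb) := (p.Q0.subgroupOf p.toCtx.K).map eK.toMonoidHom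
  haveI : Qb.Normal := Subgroup.Normal.map hQn _ eK.surjective
  have hmemQ : ∀ k : ↥p.toCtx.K, eK k ∈ Qb ↔ (k : G) ∈ p.Q := fun k => by
    show eK.toMonoidHom k ∈ Qb ↔ _
    rw [Subgroup.mem_map_iff_mem eK.injective, mem_subgroupOf]
    exact ⟨fun h => h.1, fun h => ⟨h, k.2⟩⟩
  let f : ↥p.Q0 ≃* ↥Qb := (subgroupOfEquivOfLe (inf_le_right : p.Q0 ≤ p.toCtx.K)).symm.trans
    (equivMapOfInjective _ eK.toMonoidHom eK.injective)
  have hQb : Cfsg.IsExtraspecial 2 ↥Qb := Cfsg.Lib.LargeFischer.isExtraspecial_congr f hX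
  have hQc : Nat.card ↥Qb = 2 ^ 5 := by rw [← Nat.card_congr f.toEquiv, hc]; norm_num
  have hcen : centralizer (Qb : Set ↥(HallJankoType.Cz zb)) ≤ Qb := fun c hc' => by
    obtain ⟨k, rfl⟩ := eK.surjective c
    rw [hmemQ]
    have hcm : ∀ q ∈ p.Q, p.π q ∈ V0 → Commute (k : G) q := fun q hq hv => by
      have hqK : q ∈ p.toCtx.K := (p.toCtx.Q_K hq).mpr hv
      have := mem_centralizer_iff.mp hc' _ ((hmemQ ⟨q, hqK⟩).mpr hq)
      rw [← map_mul, ← map_mul] at this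
      exact (congrArg Subtype.val (eK.injective this)).symm
    rw [← p.toCtx.m_one_iff (p.toCtx.K_z k.2)]
    exact fix_both (p.toCtx.M_fix (p.toCtx.mem_M.mpr hcm)) (p.toCtx.K_fix k.2)
  let φ : ↥(HallJankoType.Cz zb) →* alternatingGroup (Fin 5) := p.theta.comp eK.symm.toMonoidHom
  have hφ : Function.Surjective φ := p.theta_surj.comp eK.symm.surjective
  have hφk : φ.ker = Qb := by
    ext c
    obtain ⟨k, rfl⟩ := eK.surjective c
    rw [MonoidHom.mem_ker, hmemQ, ← p.theta_ker]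
    show p.theta (eK.symm (eK k)) = 1 ↔ _
    rw [MulEquiv.symm_apply_apply]
  obtain ⟨a, σ, D⟩ := HallJankoType.exists_data_of_cen hzo Qb hcen hQb hQc φ hφ hφk
  have hsK : p.s ∈ p.toCtx.K := (p.toCtx.Q_K p.hs).mpr (by rw [p.πs]; decide)
  have hmove : mk ⟨p.x, hx⟩ * zb * (mk ⟨p.x, hx⟩)⁻¹ = mk ⟨p.s, hK hsK⟩ := by
    rw [hzb, ← map_inv, ← map_mul, ← map_mul]
    exact congrArg mk (Subtype.ext p.x_spec.1)
  refine HallJankoType.Hyp.iso (z := zb) (Q := Qb.map (HallJankoType.Cz zb).subtype) (a := a) (σ := σ)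
    ⟨D, ⟨mk ⟨p.x, hx⟩, ?_, ?_⟩, zb, mk ⟨p.y1, hK p.y1_K⟩, hzo, hsq _ _ p.y1_sq p.y1_ne, ?_⟩
  · rw [hmove]
    exact ⟨eK ⟨p.s, hsK⟩, (hmemQ _).mpr p.hs, rfl⟩
  · rw [hmove, hzb]
    intro e
    obtain ⟨i, hi⟩ := (hker _ _).mp e
    exact p.s_ne.2 (p.inv_eq_pow p.ss p.X.zz p.bz.symm hi)
  · intro hcj
    obtain ⟨g, hg⟩ := isConj_iff.mp hcj
    obtain ⟨⟨g, hgY⟩, rfl⟩ := QuotientGroup.mk'_surjective N g
    rw [hzb, ← map_inv, ← map_mul, ← map_mul] at hg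
    obtain ⟨i, hi⟩ := (hker _ _).mp hg
    simp only [Subgroup.coe_mul, Subgroup.coe_inv] at hi
    refine p.y1_not_z (isConj_iff.mpr ⟨g, p.inv_eq_pow (by
      rw [show g * z * g⁻¹ * (g * z * g⁻¹) = g * (z * z) * g⁻¹ by group, p.X.zz, mul_one, mul_inv_cancel]) p.y1_sq
      (p.b_K p.y1_K) hi⟩)

end Fv

end Cfsg.Lib.ConwayType
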