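import Cfsg.Agent.ConwayType.FiveCode
import Cfsg.Agent.ConwayType.Count
import Cfsg.Agent.LocalThree.HallJankoType.Exclude
import Mathlib.GroupTheory.SpecificGroups.Alternating

/-!
The pointwise fixer of a four-space of elliptic type and its action on the five singular points of the other.
-/

set_option autoImplicit false
set_option maxRecDepth 100000
set_option maxHeartbeats 1000000
set_option linter.style.haveILetI false

namespace Cfsg.Lib.ConwayType.Five

open Subgroup Equiv Cfsg.Lib.ConwayType.Code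

theorem word_mem {w : List ℕ} (h : w ∈ [w5, w2, wX, wN]) :
    ∃ g ∈ Om, ∀ x < 256, cd g x = wact gF w x := exists_word gF gF_ok w (words_ok w h)

/-- The element of order five. -/
noncomputable def e5 : O8 := (word_mem (w := w5) (by simp)).choose

/-- The involution. -/
noncomputable def e2 : O8 := (word_mem (w := w2) (by simp)).choose

/-- The exchange. -/
noncomputable def eX : O8 := (word_mem (w := wX) (by simp)).choose

/-- The normalising element. -/
noncomputable def eN : O8 := (word_mem (w := wN) (by simp)).choose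

theorem e5_mem : e5 ∈ Om := (word_mem (w := w5) (by simp)).choose_spec.1
theorem e2_mem : e2 ∈ Om := (word_mem (w := w2) (by simp)).choose_spec.1
theorem eX_mem : eX ∈ Om := (word_mem (w := wX) (by simp)).choose_spec.1
theorem eN_mem : eN ∈ Om := (word_mem (w := wN) (by simp)).choose_spec.1

theorem cd_e5 {x : ℕ} (hx : x < 256) : cd e5 x = c5 x := (word_mem (w := w5) (by simp)).choose_spec.2 x hx
theorem cd_e2 {x : ℕ} (hx : x < 256) : cd e2 x = c2 x := (word_mem (w := w2) (by simp)).choose_spec.2 x hx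
theorem cd_eX {x : ℕ} (hx : x < 256) : cd eX x = cX x := (word_mem (w := wX) (by simp)).choose_spec.2 x hx
theorem cd_eN {x : ℕ} (hx : x < 256) : cd eN x = cN x := (word_mem (w := wN) (by simp)).choose_spec.2 x hx

theorem cd_e5_pow (i : ℕ) {x : ℕ} (hx : x < 256) : cd (e5 ^ i) x = c5^[i] x := by
  induction i with
  | zero => rw [pow_zero, cd_one hx]; rfl
  | succ i ih =>
    rw [pow_succ', cd_mul, cd_e5 (cd_lt _ _), ih, Function.iterate_succ_apply']

theorem e5_five : e5 ^ 5 = 1 := cd_ext fun x hx => by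
  rw [cd_e5_pow 5 hx, cd_one hx]; exact c5_five x hx

theorem e5_ne : e5 ≠ 1 := fun e => by
  have h := cd_e5 (show 8 < 256 by norm_num)
  rw [e, cd_one (by norm_num)] at h
  exact absurd ((c5_fix 8 (by norm_num)).mp h.symm) (by decide)

theorem e5_order : orderOf e5 = 5 := by
  haveI : Fact (Nat.Prime 5) := ⟨by norm_num⟩
  exact orderOf_eq_prime e5_five e5_ne

theorem e5_fix {x : ℕ} (hx : x < 256) : cd e5 x = x ↔ x ∈ V0 := by rw [cd_e5 hx]; exact c5_fix x hx

theorem e2_two : e2 * e2 = 1 := cd_ext fun x hx => by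
  rw [cd_mul, cd_e2 hx, cd_e2 (c_lt x hx).2.1, c2_two x hx, cd_one hx]

theorem cd_e52 {x : ℕ} (hx : x < 256) : cd (e5 * e2) x = c5 (c2 x) := by
  rw [cd_mul, cd_e2 hx, cd_e5 (c_lt x hx).2.1]

theorem e52_three : (e5 * e2) ^ 3 = 1 := cd_ext fun x hx => by
  have h1 : c5 (c2 x) < 256 := (c_lt _ (c_lt x hx).2.1).1
  have h2 : c5 (c2 (c5 (c2 x))) < 256 := (c_lt _ (c_lt _ h1).2.1).1
  rw [pow_succ, pow_two, cd_mul, cd_mul, cd_e52 hx, cd_e52 h1, cd_e52 h2, c52_three x hx, cd_one hx]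

theorem eX_two : eX * eX = 1 := cd_ext fun x hx => by
  rw [cd_mul, cd_eX hx, cd_eX (c_lt x hx).2.2.1, cX_two x hx, cd_one hx]

theorem eX_inv : eX⁻¹ = eX := inv_eq_of_mul_eq_one_right eX_two

theorem eX_V0 {x : ℕ} (hx : x ∈ V0) : cd eX x ∈ V1 := by rw [cd_eX (V0_lt x hx)]; exact cX_V0 x hx

theorem eX_V1 {x : ℕ} (hx : x ∈ V1) : cd eX x ∈ V0 := by rw [cd_eX (V1_lt x hx)]; exact cX_V1 x hx

theorem eX_one : cd eX 1 = 8 := by rw [cd_eX (by norm_num), cX_one]

theorem e2_conj : e2 = eX * rhoE 100 (by decide) * eX⁻¹ := cd_ext fun x hx => by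
  have h1 : rho 100 (cX x) < 256 := by
    rw [← cd_rhoE (show 100 ∈ W by decide) (c_lt x hx).2.2.1]; exact cd_lt _ _
  rw [eX_inv, cd_mul, cd_mul, cd_eX hx, cd_rhoE _ (c_lt x hx).2.2.1, cd_eX h1, cd_e2 hx]
  exact c2_conj x hx

theorem eN_one : cd eN 1 = 1 := by rw [cd_eN (by norm_num), cN_one]

theorem eN_conj : eN * e5 * eN⁻¹ = e5 ^ 2 := by
  rw [mul_inv_eq_iff_eq_mul]
  refine cd_ext fun x hx => ?_
  rw [cd_mul, cd_e5 hx, cd_eN (c_lt x hx).1, cd_mul, cd_eN hx, pow_two, cd_mul, cd_e5 (c_lt x hx).2.2.2,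
    cd_e5 (c_lt _ (c_lt x hx).2.2.2).1]
  exact cN_conj x hx

/-- The pointwise fixer of the first four-space. -/
def O1 : Subgroup O8 where
  carrier := {g | g ∈ Om ∧ ∀ v ∈ V0, cd g v = v}
  one_mem' := ⟨one_mem _, fun v hv => cd_one (V0_lt v hv)⟩
  mul_mem' := fun {a b} ha hb => ⟨mul_mem ha.1 hb.1, fun v hv => by rw [cd_mul, hb.2 v hv, ha.2 v hv]⟩
  inv_mem' := fun {a} ha => ⟨inv_mem ha.1, fun v hv => by
    conv_lhs => rw [← ha.2 v hv, cd_inv a (V0_lt v hv)]⟩

theorem mem_O1 {g : O8} : g ∈ O1 ↔ g ∈ Om ∧ ∀ v ∈ V0, cd g v = v := Iff.rfl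

theorem e5_O1 : e5 ∈ O1 := ⟨e5_mem, fun v hv => (e5_fix (V0_lt v hv)).mpr hv⟩

theorem e2_O1 : e2 ∈ O1 := ⟨e2_mem, fun v hv => by rw [cd_e2 (V0_lt v hv)]; exact c2_fix v hv⟩

/-- Preservation of the second four-space. -/
theorem keep_V1 {g : O8} (h : ∀ v ∈ V0, cd g v = v) {v : ℕ} (hv : v ∈ V1) : cd g v ∈ V1 := by
  refine (V1_perp _ (cd_lt g v)).mpr fun u hu => ?_
  have := cd_p g (V1_lt v hv) (V0_lt u hu)
  rw [h u hu] at this
  exact this.trans ((V1_perp v (V1_lt v hv)).mp hv u hu)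

theorem keep_V0 {g : O8} (h : ∀ v ∈ V1, cd g v = v) {v : ℕ} (hv : v ∈ V0) : cd g v ∈ V0 := by
  refine (V0_perp _ (cd_lt g v)).mpr fun u hu => ?_
  have := cd_p g (V0_lt v hv) (V1_lt u hu)
  rw [h u hu] at this
  exact this.trans ((V0_perp v (V0_lt v hv)).mp hv u hu)

/-- The stabiliser of the three vectors. -/
def St : Subgroup O8 where
  carrier := {g | g ∈ Om ∧ cd g 1 = 1 ∧ cd g 34 = 34 ∧ cd g 100 = 100}
  one_mem' := ⟨one_mem _, cd_one (by norm_num), cd_one (by norm_num), cd_one (by norm_num)⟩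
  mul_mem' := fun {a b} ha hb => ⟨mul_mem ha.1 hb.1, by rw [cd_mul, hb.2.1, ha.2.1],
    by rw [cd_mul, hb.2.2.1, ha.2.2.1], by rw [cd_mul, hb.2.2.2, ha.2.2.2]⟩
  inv_mem' := fun {a} ha => ⟨inv_mem ha.1, inv_one' ha.2.1,
    by conv_lhs => rw [← ha.2.2.1, cd_inv a (by norm_num)],
    by conv_lhs => rw [← ha.2.2.2, cd_inv a (by norm_num)]⟩

theorem mem_St {g : O8} : g ∈ St ↔ g ∈ Om ∧ cd g 1 = 1 ∧ cd g 34 = 34 ∧ cd g 100 = 100 := Iff.rfl

theorem O1_le_St : O1 ≤ St := fun g hg =>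
  ⟨hg.1, hg.2 1 (by decide), hg.2 34 (by decide), hg.2 100 (by decide)⟩

theorem sa_V1 {g : O8} (hg : g ∈ St) {v : ℕ} (hv : v ∈ V1) : sa g v ∈ V1 := by
  obtain ⟨hW, -⟩ := V1_W v hv
  refine W_V1 _ (sa_mem g v) ?_ ?_
  · have := sa_p hg.2.1 hW (show 34 ∈ W by decide)
    rw [sa, sa, hg.2.2.1, show nr 34 = 34 from rfl] at this
    exact this.trans ((V1_perp v (V1_lt v hv)).mp hv 34 (by decide))
  · have := sa_p hg.2.1 hW (show 100 ∈ W by decide)
    rw [sa, sa, hg.2.2.2, show nr 100 = 100 from rfl] at this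
    exact this.trans ((V1_perp v (V1_lt v hv)).mp hv 100 (by decide))

theorem sa_P1 {g : O8} (hg : g ∈ St) {v : ℕ} (hv : v ∈ P1) : sa g v ∈ P1 := by
  have hV := P1_mem v hv
  obtain ⟨h0, hq'⟩ := (P1_iff v hV).mp hv
  obtain ⟨hW, -⟩ := V1_W v hV
  refine (P1_iff _ (sa_V1 hg hV)).mpr ⟨fun e => h0 ?_, by rw [sa_q hg.2.1 hW, hq']⟩
  rw [← (sa_inv hg.2.1 hW).2, e, sa_zero]

/-- The points by number. -/
def pt (i : Fin 5) : ℕ := P1.getD i.val 0

/-- The number of a point. -/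
def ix (x : ℕ) : Fin 5 := Fin.ofNat 5 (P1.idxOf x)

theorem pt_mem : ∀ i : Fin 5, pt i ∈ P1 := by decide

theorem ix_pt : ∀ i : Fin 5, ix (pt i) = i := by decide

theorem pt_ix : ∀ x ∈ P1, pt (ix x) = x := by decide

/-- The action on the points. -/
noncomputable def tauFun (g : ↥St) (i : Fin 5) : Fin 5 := ix (sa (g : O8) (pt i))

theorem tau_mul (g h : ↥St) (i : Fin 5) : tauFun (g * h) i = tauFun g (tauFun h i) := by
  have hp := P1_mem _ (pt_mem i)
  obtain ⟨hW, -⟩ := V1_W _ hp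
  obtain ⟨hl, hp1, -⟩ := W_lt _ hW
  rw [tauFun, tauFun, tauFun, pt_ix _ (sa_P1 h.2 (pt_mem i)), Subgroup.coe_mul, sa_mul g.2.2.1 h.2.2.1 hl hp1]

theorem tau_one (i : Fin 5) : tauFun 1 i = i := by
  rw [tauFun, OneMemClass.coe_one, sa_one (V1_W _ (P1_mem _ (pt_mem i))).1, ix_pt]

/-- The permutation representation on the five points. -/
noncomputable def tau : ↥St →* Perm (Fin 5) where
  toFun g := ⟨tauFun g, tauFun g⁻¹, fun i => by rw [← tau_mul, inv_mul_cancel, tau_one],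
    fun i => by rw [← tau_mul, mul_inv_cancel, tau_one]⟩
  map_one' := Equiv.ext tau_one
  map_mul' g h := Equiv.ext fun i => tau_mul g h i

theorem tau_apply (g : ↥St) (i : Fin 5) : tau g i = ix (sa (g : O8) (pt i)) := rfl

theorem tau_fix {g : ↥St} (h : tau g = 1) {v : ℕ} (hv : v ∈ V1) : sa (g : O8) v = v := by
  have hP : ∀ x ∈ P1, sa (g : O8) x = x := fun x hx => by
    have := congrArg pt (DFunLike.congr_fun h (ix x))
    rw [tau_apply, pt_ix _ hx, pt_ix _ (sa_P1 g.2 hx), Perm.one_apply, pt_ix _ hx] at this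
    exact this
  obtain ⟨a, ha, b, hb, rfl⟩ := P1_pairs v hv
  have h0 : ∀ x ∈ 0 :: P1, sa (g : O8) x = x := fun x hx => by
    rcases List.mem_cons.mp hx with rfl | hx
    · exact sa_zero _
    · exact hP x hx
  rw [sa_xor, h0 a ha, h0 b hb]

/-- The kernel acts as radical elements. -/
theorem tau_kernel {g : ↥St} (h : tau g = 1) : ∃ v ∈ V1, ∀ x < 256, cd (g : O8) x = rho v x := by
  have hW : ∀ w ∈ W, sa (g : O8) w = w := fun w hw => by
    obtain ⟨a, ha, hv⟩ := W_split w hw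
    have e : w = a ^^^ (a ^^^ w) := by rw [← Nat.xor_assoc, Nat.xor_self, Nat.zero_xor]
    have h34 : sa (g : O8) 34 = 34 := by rw [sa, g.2.2.2.1]; rfl
    have h100 : sa (g : O8) 100 = 100 := by rw [sa, g.2.2.2.2]; rfl
    have ha' : sa (g : O8) a = a := by
      simp only [List.mem_cons, List.not_mem_nil, or_false] at ha
      rcases ha with rfl | rfl | rfl | rfl
      · exact sa_zero _
      · exact h34
      · exact h100
      · rw [sa_xor, h34, h100]
    conv_lhs => rw [e, sa_xor, ha', tau_fix h hv, ← e]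
  obtain ⟨v, hv, he⟩ := rad_rho g.2.2.1 (rad_of_trivial g.2.2.1 hW)
  refine ⟨v, W_V1 v hv ?_ ?_, he⟩
  · have h1 := rho_shift v hv 34 (by norm_num) (by decide)
    rw [← he 34 (by norm_num), g.2.2.2.1, Nat.xor_self, show nr 34 = 34 from rfl, pB_comm] at h1
    cases hc : pB v 34
    · rfl
    · rw [hc] at h1; simp at h1
  · have h1 := rho_shift v hv 100 (by norm_num) (by decide)
    rw [← he 100 (by norm_num), g.2.2.2.2, Nat.xor_self, show nr 100 = 100 from rfl, pB_comm] at h1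
    cases hc : pB v 100
    · rfl
    · rw [hc] at h1; simp at h1

theorem fix_both {g : O8} (h0 : ∀ v ∈ V0, cd g v = v) (h1 : ∀ v ∈ V1, cd g v = v) : g = 1 := cd_ext fun x hx => by
  obtain ⟨a, ha, hb⟩ := V_split x hx
  rw [cd_one hx, show x = a ^^^ (a ^^^ x) by rw [← Nat.xor_assoc, Nat.xor_self, Nat.zero_xor], cd_xor, h0 a ha,
    h1 _ hb]

theorem sa_O1 {g : O8} (hg : g ∈ O1) {v : ℕ} (hv : v ∈ V1) : sa g v = cd g v :=
  (V1_W _ (keep_V1 hg.2 hv)).2

/-- The action of the fixer on the points. -/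
noncomputable def perm : ↥O1 →* Perm (Fin 5) := tau.comp (Subgroup.inclusion O1_le_St)

theorem perm_inj : Function.Injective perm := by
  refine (injective_iff_map_eq_one perm).mpr fun g hg => Subtype.ext (fix_both g.2.2 fun v hv => ?_)
  rw [← sa_O1 g.2 hv]
  exact tau_fix hg hv

/-- The images of the two generators. -/
theorem perm_e5 : ∀ i, perm ⟨e5, e5_O1⟩ i = ix (c5 (pt i)) := fun i => by
  show ix (sa e5 (pt i)) = _
  rw [sa_O1 e5_O1 (P1_mem _ (pt_mem i)), cd_e5 (V1_lt _ (P1_mem _ (pt_mem i)))]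

theorem perm_e2 : ∀ i, perm ⟨e2, e2_O1⟩ i = ix (c2 (pt i)) := fun i => by
  show ix (sa e2 (pt i)) = _
  rw [sa_O1 e2_O1 (P1_mem _ (pt_mem i)), cd_e2 (V1_lt _ (P1_mem _ (pt_mem i)))]

theorem perm_tables : ∀ s t : Perm (Fin 5), (∀ i, s i = ix (c5 (pt i))) → (∀ i, t i = ix (c2 (pt i))) →
    s ^ 5 = 1 ∧ s ≠ 1 ∧ t * t = 1 ∧ t ≠ 1 ∧ (s * t) ^ 3 = 1 ∧ s * t ≠ 1 ∧ Perm.sign s = 1 ∧ Perm.sign t = 1 := by
  decide +kernel

theorem sixty : Nat.card (alternatingGroup (Fin 5)) = 60 := Cfsg.Lib.HallJankoType.sixty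

/-- A subgroup with the generators contains the alternating group. -/
theorem alt_le {H : Subgroup (Perm (Fin 5))} (h5 : perm ⟨e5, e5_O1⟩ ∈ H) (h2 : perm ⟨e2, e2_O1⟩ ∈ H) :
    alternatingGroup (Fin 5) ≤ H := by
  classical
  obtain ⟨s5, sne, tt, tne, st3, stne, ss, ts⟩ := perm_tables _ _ perm_e5 perm_e2
  set s := perm ⟨e5, e5_O1⟩
  set t := perm ⟨e2, e2_O1⟩
  set K := H.subgroupOf (alternatingGroup (Fin 5)) with hK
  haveI : Fact (Nat.Prime 5) := ⟨by norm_num⟩
  haveI : Fact (Nat.Prime 3) := ⟨by norm_num⟩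
  haveI : Fact (Nat.Prime 2) := ⟨by norm_num⟩
  have hs : (⟨s, Perm.mem_alternatingGroup.mpr ss⟩ : alternatingGroup (Fin 5)) ∈ K := h5
  have ht : (⟨t, Perm.mem_alternatingGroup.mpr ts⟩ : alternatingGroup (Fin 5)) ∈ K := h2
  have d5 : 5 ∣ Nat.card K := by
    have := Subgroup.orderOf_dvd_natCard K hs
    rwa [← Subgroup.orderOf_coe, orderOf_eq_prime s5 sne] at this
  have d2 : 2 ∣ Nat.card K := by
    have := Subgroup.orderOf_dvd_natCard K ht
    rwa [← Subgroup.orderOf_coe, orderOf_eq_prime (by rw [pow_two]; exact tt) tne] at this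
  have d3 : 3 ∣ Nat.card K := by
    have := Subgroup.orderOf_dvd_natCard K (mul_mem hs ht)
    rwa [← Subgroup.orderOf_coe, show ((⟨s, _⟩ * ⟨t, _⟩ : alternatingGroup (Fin 5)) : Perm (Fin 5)) = s * t from rfl,
      orderOf_eq_prime st3 stne] at this
  have h30 : 30 ∣ Nat.card K := by
    have := Nat.Coprime.mul_dvd_of_dvd_of_dvd (by norm_num) (Nat.Coprime.mul_dvd_of_dvd_of_dvd (by norm_num) d2 d3) d5
    simpa using this
  have hmul := K.card_mul_index
  rw [sixty] at hmul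
  haveI hs5 : IsSimpleGroup (alternatingGroup (Fin 5)) := alternatingGroup.isSimpleGroup_five
  obtain ⟨c, hc⟩ := h30
  rw [hc] at hmul
  have : c * K.index = 2 := by nlinarith
  have hidx : K.index = 1 ∨ K.index = 2 := by
    have hd : K.index ∣ 2 := ⟨c, by rw [mul_comm]; exact this.symm⟩
    exact (Nat.dvd_prime Nat.prime_two).mp hd
  have htop : K = ⊤ := by
    rcases hidx with h | h
    · exact Subgroup.index_eq_one.mp h
    · haveI := Subgroup.normal_of_index_eq_two h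
      refine (IsSimpleGroup.eq_bot_or_eq_top_of_normal K inferInstance).resolve_left fun e => ?_
      rw [e, Subgroup.card_bot] at d2
      exact absurd d2 (by decide)
  exact Subgroup.subgroupOf_eq_top.mp htop

theorem perm_swap {g : O8} (hg : g ∈ O1) (h : perm ⟨g, hg⟩ = swap 0 1) : False := by
  have hv : ∀ i, cd g (pt i) = pt (swap (0 : Fin 5) 1 i) := fun i => by
    have hm := sa_P1 (O1_le_St hg) (pt_mem i)
    have e := congrArg pt (DFunLike.congr_fun h i)
    rw [show perm ⟨g, hg⟩ i = ix (sa g (pt i)) from rfl, pt_ix _ hm, sa_O1 hg (P1_mem _ (pt_mem i))] at e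
    exact e
  have a := hv 0; have b := hv 1; have c := hv 2; have d := hv 3; have f := hv 4
  have h0 := hg.2
  change cd g 8 = 128 at a
  change cd g 128 = 8 at b
  change cd g 174 = 174 at c
  change cd g 204 = 204 at d
  change cd g 234 = 234 at f
  have e1 : cd g 1 = 1 := h0 1 (by decide)
  have e16 : cd g 16 = 16 := h0 16 (by decide)
  have e34 : cd g 34 = 34 := h0 34 (by decide)
  have e100 : cd g 100 = 100 := h0 100 (by decide)
  have e68 : cd g 68 = 68 := by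
    rw [show (68 : ℕ) = 8 ^^^ 128 ^^^ 204 from rfl, cd_xor, cd_xor, a, b, d]; rfl
  have e98 : cd g 98 = 98 := by
    rw [show (98 : ℕ) = 8 ^^^ 128 ^^^ 234 from rfl, cd_xor, cd_xor, a, b, f]; rfl
  have e64 : cd g 64 = 64 := by
    rw [show (64 : ℕ) = 100 ^^^ 98 ^^^ 34 ^^^ 100 ^^^ 0 from rfl, cd_xor, cd_xor, cd_xor, cd_xor, e100, e98, e34, cd_zero]
  have e4 : cd g 4 = 4 := by rw [show (4 : ℕ) = 68 ^^^ 64 from rfl, cd_xor, e68, e64]
  have e32 : cd g 32 = 32 := by rw [show (32 : ℕ) = 100 ^^^ 64 ^^^ 4 from rfl, cd_xor, cd_xor, e100, e64, e4]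
  have e2' : cd g 2 = 2 := by rw [show (2 : ℕ) = 34 ^^^ 32 from rfl, cd_xor, e34, e32]
  have him : [1, 2, 4, 128, 16, 32, 64, 8] = [1, 2, 4, 8, 16, 32, 64, 128].map (cd g) := by
    simp [e1, e2', e4, a, e16, e32, e64, b]
  have hc := fix_count hg.1
  have hfs : fixSet g = ((List.range 256).filter fun x =>
      Cfsg.Lib.Classical.OrthH1.lN 8 [1, 2, 4, 128, 16, 32, 64, 8] x == x).toFinset := by
    ext x
    rw [mem_fixSet, List.mem_toFinset, List.mem_filter, List.mem_range]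
    refine and_congr_right fun hx => ?_
    rw [lin_basis him hx, beq_iff_eq]
    rfl
  rw [hfs, List.toFinset_card_of_nodup (List.nodup_range.filter _), swap_count] at hc
  simp at hc

theorem perm_range : perm.range = alternatingGroup (Fin 5) := by
  classical
  have hle : alternatingGroup (Fin 5) ≤ perm.range := alt_le ⟨_, rfl⟩ ⟨_, rfl⟩
  refine le_antisymm (fun σ hσ => ?_) hle
  by_contra hn
  rw [Perm.mem_alternatingGroup] at hn
  have hodd : Perm.sign σ = -1 := (Int.units_eq_one_or _).resolve_left hn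
  have hm : σ⁻¹ * swap 0 1 ∈ alternatingGroup (Fin 5) := by
    rw [Perm.mem_alternatingGroup, map_mul, map_inv, hodd, Perm.sign_swap (by decide)]; rfl
  have hsw : swap 0 1 ∈ perm.range := by
    have := mul_mem hσ (hle hm)
    rwa [mul_inv_cancel_left] at this
  obtain ⟨g, hg⟩ := hsw
  exact perm_swap g.2 hg

theorem card_O1 : Nat.card ↥O1 = 60 := by
  rw [← sixty, ← perm_range]
  exact Nat.card_congr (MonoidHom.ofInjective perm_inj).toEquiv

theorem O1_equiv : Nonempty (↥O1 ≃* alternatingGroup (Fin 5)) :=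
  ⟨(MonoidHom.ofInjective perm_inj).trans (MulEquiv.subgroupCongr perm_range)⟩

/-- An element of order five of the fixer fixes no point. -/
theorem five_moves {g : O8} (hg : g ∈ O1) (h5 : g ^ 5 = 1) (hne : g ≠ 1) {x : ℕ} (hx : x ∈ P1) : cd g x ≠ x := by
  intro e
  have hp5 : perm ⟨g, hg⟩ ^ 5 = 1 := by
    rw [← map_pow, show (⟨g, hg⟩ : ↥O1) ^ 5 = 1 from Subtype.ext h5, map_one]
  have hp1 : perm ⟨g, hg⟩ ≠ 1 := fun h =>
    hne (congrArg Subtype.val (perm_inj (h.trans (map_one perm).symm)))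
  refine (Cfsg.Lib.HallJankoType.perm_five_fix _ hp5 hp1 (ix x) (ix x)).1 ?_
  show ix (sa g (pt (ix x))) = ix x
  rw [pt_ix _ hx, sa_O1 hg (P1_mem _ hx), e]

/-- The centralizer of the element of order five. -/
theorem cent_e5 {g : O8} (hg : g ∈ Om) (hc : Commute g e5) :
    ∃ i, ∀ v ∈ V1, cd (g * (e5 ^ i)⁻¹) v = v := by
  have h0 : ∀ v ∈ V0, cd g v ∈ V0 := fun v hv => (e5_fix (cd_lt g v)).mp (by
    rw [← cd_mul, ← hc.eq, cd_mul, (e5_fix (V0_lt v hv)).mpr hv])
  have h1 : ∀ v ∈ V1, cd g v ∈ V1 := fun v hv => (V1_perp _ (cd_lt g v)).mpr fun u hu => by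
    have hb : ∀ u ∈ V0, cd g⁻¹ u ∈ V0 := fun u hu => (e5_fix (cd_lt _ _)).mp (by
      rw [← cd_mul, ← hc.inv_left.eq, cd_mul, (e5_fix (V0_lt u hu)).mpr hu])
    have := cd_p g (V1_lt v hv) (cd_lt g⁻¹ u)
    rw [cd_inv' g (V0_lt u hu)] at this
    exact this.trans ((V1_perp v (V1_lt v hv)).mp hv _ (hb u hu))
  have h8 : cd g 8 ∈ P1 := by
    refine (P1_iff _ (h1 8 (by decide))).mpr ⟨fun e => ?_, by rw [cd_q g (by norm_num)]; decide⟩
    exact absurd (cd_inj g (by norm_num) (by norm_num) (e.trans (cd_zero g).symm)) (by decide : (8 : ℕ) ≠ 0)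
  obtain ⟨i, -, hi⟩ := c5_orbit _ h8
  refine ⟨i, fun v hv => ?_⟩
  set d := g * (e5 ^ i)⁻¹ with hd
  have hde : Commute d e5 := hc.mul_left ((Commute.refl e5).pow_left i).inv_left
  have hall : ∀ j, cd d (c5^[j] 8) = c5^[j] 8 := fun j => by
    have base : cd d 8 = 8 := by
      rw [hd, ((hc.pow_right i).inv_right).eq, cd_mul, ← hi, ← cd_e5_pow i (by norm_num), cd_inv _ (by norm_num)]
    rw [← cd_e5_pow j (by norm_num), ← cd_mul, (hde.pow_right j).eq, cd_mul, base]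
  obtain ⟨a, ha, b, hb, rfl⟩ := P1_pairs v hv
  have h00 : ∀ x ∈ 0 :: P1, cd d x = x := fun x hx => by
    rcases List.mem_cons.mp hx with rfl | hx
    · exact cd_zero _
    · obtain ⟨j, -, rfl⟩ := c5_orbit x hx
      exact hall j
  rw [cd_xor, h00 a ha, h00 b hb]

end Cfsg.Lib.ConwayType.Five
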