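import Cfsg.Agent.ConwayType.Classes
import Cfsg.Agent.ConwayType.Count

/-!
The two products are not conjugate to the distinguished involution.
-/

set_option autoImplicit false
set_option maxRecDepth 100000
set_option maxHeartbeats 1000000
set_option linter.unusedSectionVars false
set_option linter.style.haveILetI false

namespace Cfsg.Lib.ConwayType

open Subgroup Cfsg.Lib.ConwayType.Code
open Cfsg.Lib.LargeExtra (X2 mem_map_conj mem_conj_of_mem mem_zpowers_two)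
open scoped commutatorElement

universe u

variable {G : Type u} [Group G] [Finite G] {z : G}

theorem rho_fix_iff {b : ℕ} (hb : b ∈ W) (hb0 : b ≠ 0) {n : ℕ} (hn : n < 256) :
    rho b n = n ↔ pB 1 n = false ∧ pB (nr n) b = false := by
  constructor
  · intro h
    have hp := rho_fix b hb n hn hb0 (by rw [h, Nat.xor_self]; norm_num)
    have e := rho_shift b hb n hn hp
    rw [h, Nat.xor_self] at e
    refine ⟨hp, ?_⟩
    cases hc : pB (nr n) b
    · rfl
    · rw [hc] at e; exact absurd e (by decide)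
  · rintro ⟨hp, he⟩
    have e := rho_shift b hb n hn hp
    rw [he] at e
    exact xor_eq_zero'.mp e

namespace Pt

variable (p : Pt z)

theorem m_prod {q r : G} (hq : p.A q) (hr : p.R r) : p.toCtx.m (q * r) = rhoE (p.β r) (p.β_mem r) := by
  rw [p.toCtx.m_mul (p.A_T hq).1 hr.2, (p.toCtx.m_one_iff (p.A_T hq).1).mpr hq.1, one_mul,
    p.m_eq_rhoE hr (p.β_mem r) rfl]

/-- Elements of `Q` commuting with a product. -/
theorem comm_prod {q r v : G} (hq : p.A q) (hr : p.R r) (hb : p.β r ≠ 0) (hv : v ∈ p.Q) :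
    Commute v (q * r) ↔ p.A v ∧ pB (p.α v) (p.α q) = false ∧ pB (p.α v) (p.β r) = false := by
  constructor
  · intro hc
    have hT : p.T (q * r) := p.T_mul (p.A_T hq) (p.R_T hr)
    have e := p.toCtx.act hT.1 hv
    rw [← hc.eq, mul_inv_cancel_right, p.m_prod hq hr, cd_rhoE _ (p.π_lt v)] at e
    obtain ⟨hp, hpb⟩ := (rho_fix_iff (p.β_mem r) hb (p.π_lt v)).mp e.symm
    have hA := p.A_of_perp hv hp
    refine ⟨hA, ?_, hpb⟩
    have hr' := p.cab_one hA hr hpb
    refine (p.α_comm hA hq).mp ?_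
    have := hc.mul_right hr'.inv_right
    rwa [mul_inv_cancel_right] at this
  · rintro ⟨hA, h1, h2⟩
    exact ((p.α_comm hA hq).mpr h1).mul_right (p.cab_one hA hr h2)

theorem m_ne {y : G} (hy : Commute y z) (h : y ∉ p.Q) : p.toCtx.m y ≠ 1 := fun e => h ((p.toCtx.m_one_iff hy).mp e)

/-- An involution centralizes at least sixteen elements of `Q`. -/
theorem many_fixed {y : G} (hy : Commute y z) (hyy : y * y = 1) :
    ∃ F : Finset G, 16 ≤ F.card ∧ ∀ v ∈ F, v ∈ p.Q ∧ Commute v y := by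
  classical
  have hgg : p.toCtx.m y * p.toCtx.m y = 1 := by rw [← p.toCtx.m_mul hy hy, hyy, p.toCtx.m_one]
  have h16 : 16 ≤ (fixSet (p.toCtx.m y)).card := by
    rcases fix_cases (p.toCtx.m_mem hy) hgg with e | e | e <;> omega
  obtain ⟨l, hl⟩ : ∃ l : ℕ → G, ∀ x < 256, l x ∈ p.Q ∧ p.π (l x) = x := by
    refine ⟨fun x => if h : x < 256 then (p.π_surj x h).choose else 1, fun x hx => ?_⟩
    simp only [dif_pos hx]
    exact (p.π_surj x hx).choose_spec
  have hfix : ∀ x ∈ fixSet (p.toCtx.m y), y * l x * y⁻¹ = l x ∨ y * l x * y⁻¹ = z * l x := fun x hx => by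
    obtain ⟨hxl, hxf⟩ := mem_fixSet.mp hx
    exact p.toCtx.pi_eq (p.toCtx.norm hy (hl x hxl).1) (hl x hxl).1
      (by rw [p.toCtx.act hy (hl x hxl).1, (hl x hxl).2, hxf])
  set D := (fixSet (p.toCtx.m y)).filter fun x => Commute y (l x) with hD
  set N := (fixSet (p.toCtx.m y)).filter fun x => ¬ Commute y (l x) with hN
  have hDN : 8 ≤ D.card := by
    have hsum : D.card + N.card = (fixSet (p.toCtx.m y)).card := Finset.card_filter_add_card_filter_not _
    rcases N.eq_empty_or_nonempty with e | ⟨x0, hx0⟩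
    · rw [e, Finset.card_empty] at hsum; omega
    have : N.card ≤ D.card := by
      refine Finset.card_le_card_of_injOn (fun x => x0 ^^^ x) (fun x hx => ?_) (fun a _ b _ e => Nat.xor_right_inj.mp e)
      obtain ⟨h0, n0⟩ := Finset.mem_filter.mp hx0
      obtain ⟨h1, n1⟩ := Finset.mem_filter.mp (Finset.mem_coe.mp hx)
      obtain ⟨l0, f0⟩ := mem_fixSet.mp h0
      obtain ⟨l1, f1⟩ := mem_fixSet.mp h1
      have l2 := xor_lt l0 l1
      refine Finset.mem_coe.mpr (Finset.mem_filter.mpr ⟨mem_fixSet.mpr ⟨l2, by rw [cd_xor, f0, f1]⟩, ?_⟩)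
      have c0 : y * l x0 * y⁻¹ = z * l x0 := (hfix x0 h0).resolve_left fun e => n0 (mul_inv_eq_iff_eq_mul.mp e)
      have c1 : y * l x * y⁻¹ = z * l x := (hfix x h1).resolve_left fun e => n1 (mul_inv_eq_iff_eq_mul.mp e)
      have hprod : Commute y (l x0 * l x) := mul_inv_eq_iff_eq_mul.mp (by
        rw [show y * (l x0 * l x) * y⁻¹ = y * l x0 * y⁻¹ * (y * l x * y⁻¹) by group, c0, c1]
        calc z * l x0 * (z * l x) = z * (l x0 * z) * l x := by group
          _ = z * z * (l x0 * l x) := by rw [(p.X.central _ (hl x0 l0).1).eq]; group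
          _ = _ := by rw [p.X.zz, one_mul])
      rcases p.toCtx.pi_eq (hl _ l2).1 (mul_mem (hl x0 l0).1 (hl x l1).1)
          (by rw [(hl _ l2).2, p.π_mul _ (hl x0 l0).1 _ (hl x l1).1, (hl x0 l0).2, (hl x l1).2]) with e | e <;> rw [e]
      · exact hprod
      · exact hy.mul_right hprod
    omega
  refine ⟨(D ×ˢ (Finset.univ : Finset Bool)).image fun u => (bif u.2 then z else 1) * l u.1, ?_, ?_⟩
  · rw [Finset.card_image_of_injOn, Finset.card_product, Finset.card_univ, Fintype.card_bool]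
    · omega
    intro a ha b hb e
    simp only [Finset.coe_product, Set.mem_prod, Finset.mem_coe] at ha hb
    have la := (mem_fixSet.mp (Finset.mem_filter.mp ha.1).1).1
    have lb := (mem_fixSet.mp (Finset.mem_filter.mp hb.1).1).1
    have hpi : ∀ (c : Bool) {x : ℕ}, x < 256 → p.π ((bif c then z else 1) * l x) = x := fun c {x} hx => by
      cases c
      · rw [cond_false, one_mul, (hl x hx).2]
      · rw [cond_true, p.π_mul _ p.X.mem _ (hl x hx).1, p.toCtx.pi_z, (hl x hx).2, Nat.zero_xor]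
    have e1 : a.1 = b.1 := by
      have h := congrArg p.π e
      simp only [hpi _ la, hpi _ lb] at h
      exact h
    refine Prod.ext e1 ?_
    simp only [e1, mul_left_inj] at e
    revert e
    cases a.2 <;> cases b.2 <;> simp [p.X.ne, Ne.symm p.X.ne]
  · intro v hv
    obtain ⟨⟨x, c⟩, hx, rfl⟩ := Finset.mem_image.mp hv
    obtain ⟨hxf, hxc⟩ := Finset.mem_filter.mp (Finset.mem_product.mp hx).1
    cases c
    · simp only [cond_false, one_mul]
      exact ⟨(hl x (mem_fixSet.mp hxf).1).1, hxc.symm⟩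
    · simp only [cond_true]
      exact ⟨mul_mem p.X.mem (hl x (mem_fixSet.mp hxf).1).1, hy.symm.mul_left hxc.symm⟩

/-- A product with independent vectors and a small pointwise stabiliser is not conjugate to the distinguished
involution. -/
theorem not_conj_z {q r : G} (hq : p.A q) (hr : p.R r) (ha : p.α q ≠ 0) (hb : p.β r ≠ 0) (hab : p.α q ≠ p.β r)
    (hsmall : ∀ S : Finset O8, (∀ g ∈ S, (∀ n < 256, pB 1 n = false → pB (nr n) (p.α q) = false →
      pB (nr n) (p.β r) = false → cd g n = n) ∧ Commute g (rhoE (p.β r) (p.β_mem r))) → S.card ≤ 8) :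
    ¬ IsConj z (q * r) := by
  classical
  intro hconj
  obtain ⟨h, hh⟩ := isConj_iff.mp hconj
  obtain ⟨t, htdef⟩ : ∃ t, t = q * r := ⟨_, rfl⟩
  rw [← htdef] at hh
  have hT : p.T t := htdef ▸ p.T_mul (p.A_T hq) (p.R_T hr)
  have htm : p.toCtx.m t = rhoE (p.β r) (p.β_mem r) := htdef ▸ p.m_prod hq hr
  have htQ : t ∉ p.Q := fun h' => by
    have := mul_mem (inv_mem hq.1) h'
    rw [htdef, inv_mul_cancel_left] at this
    exact hb ((p.β_zero hr).mpr this)
  obtain ⟨Qt, hQt⟩ : ∃ Qt : Subgroup G, Qt = p.Q.map (MulAut.conj h).toMonoidHom := ⟨_, rfl⟩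
  have memQt : ∀ {v}, v ∈ Qt ↔ h⁻¹ * v * h ∈ p.Q := fun {v} => by rw [hQt]; exact mem_map_conj
  have XQ : X2 Qt t := by rw [hQt, ← hh]; exact p.X.conj h
  have sym : ∀ g : G, g * z * g⁻¹ ∈ p.Q → g * z * g⁻¹ ≠ z → g⁻¹ * z * g ∈ p.Q := fun g a b =>
    mem_conj_of_mem p.X p.cQ p.nQ p.toCtx.card_Q a b
  have nQt : ∀ {v m}, Commute v t → m ∈ Qt → v * m * v⁻¹ ∈ Qt := fun {v m} hv hm => by
    rw [memQt] at hm ⊢
    have h1 : Commute (h⁻¹ * v * h) z := by
      have := (Commute.conj_iff h⁻¹).mpr hv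
      rwa [inv_inv, ← hh, show h⁻¹ * (h * z * h⁻¹) * h = z by group] at this
    rw [show h⁻¹ * (v * m * v⁻¹) * h = h⁻¹ * v * h * (h⁻¹ * m * h) * (h⁻¹ * v * h)⁻¹ by group]
    exact p.toCtx.norm h1 hm
  have hz1 : t ≠ z := fun e => htQ (by rw [e]; exact p.X.mem)
  have zQt : z ∉ Qt := fun hz => by
    rw [memQt] at hz
    refine htQ ?_
    have := sym h⁻¹ (by rwa [inv_inv]) (fun e => hz1 (by
      rw [← hh]
      rw [inv_inv] at e
      calc h * z * h⁻¹ = h * (h⁻¹ * z * h) * h⁻¹ := by rw [e]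
        _ = z := by group))
    rwa [inv_inv, hh] at this
  have J : ∀ {v}, v ∈ p.Q → v ∈ Qt → v = 1 := fun {v} hv hv' => by
    by_contra hne
    have hvv : v * v = 1 := by
      rcases p.X.sq v hv with e | e
      · exact e
      · rcases XQ.sq v hv' with e' | e'
        · exact e'
        · exact absurd (e'.symm.trans e) hz1
    have h0 : p.π v ≠ 0 := fun e => by
      rcases (p.π_zero v hv).mp e with r' | r'
      · exact hne r'
      · exact zQt (r' ▸ hv')
    obtain ⟨g, hg, hge⟩ := trans_sing (p.π_lt v) h0 ((p.π_sq v hv).mp hvv)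
    obtain ⟨d0, hd0, hdm⟩ := p.toCtx.m_surj hg
    have e1 : p.π (d0 * p.s * d0⁻¹) = p.π v := by rw [p.toCtx.act hd0 p.hs, hdm, p.πs, hge]
    obtain ⟨q', hq', hqe⟩ := p.toCtx.conj_to_code hv (p.toCtx.norm hd0 p.hs) (by rw [e1]; exact h0) e1.symm
    obtain ⟨d, hd⟩ : ∃ d, d = q' * d0 := ⟨_, rfl⟩
    have hdz : Commute d z := hd ▸ (p.X.central q' hq').mul_left hd0
    have hds : d * p.s * d⁻¹ = v := by
      rw [hd, show q' * d0 * p.s * (q' * d0)⁻¹ = q' * (d0 * p.s * d0⁻¹) * q'⁻¹ by group, hqe]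
    have hs' : h⁻¹ * d * p.k * z * (h⁻¹ * d * p.k)⁻¹ = h⁻¹ * v * h := by
      rw [← hds, ← p.kz]; group
    have htR : p.k⁻¹ * (d⁻¹ * t * d) * p.k ∈ p.Q := by
      have hvz : h⁻¹ * v * h ≠ z := fun e => htQ (by
        have : t = v := by rw [← hh, ← e]; group
        rw [this]; exact hv)
      have := sym (h⁻¹ * d * p.k) (by rw [hs']; exact memQt.mp hv') (by rw [hs']; exact hvz)
      rwa [show (h⁻¹ * d * p.k)⁻¹ * z * (h⁻¹ * d * p.k) = p.k⁻¹ * (d⁻¹ * (h * z * h⁻¹) * d) * p.k by group, hh] at this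
    obtain ⟨t', ht'⟩ : ∃ t', t' = d⁻¹ * t * d := ⟨_, rfl⟩
    have hR : p.R t' := ⟨p.mem_Q'.mpr (ht' ▸ htR), ht' ▸ (hdz.inv_left.mul_left hT.1).mul_left hdz⟩
    have hβ : p.β t' ≠ 0 := fun e => htQ (by
      have := p.toCtx.norm hdz ((p.β_zero hR).mp e)
      rwa [ht', show d * (d⁻¹ * t * d) * d⁻¹ = t by group] at this)
    have key : ∀ x ∈ p.Q, cd (p.toCtx.m t) (p.π x) = p.π x → Commute x t := fun x hx hxf => by
      obtain ⟨x', hx'⟩ : ∃ x', x' = d⁻¹ * x * d⁻¹⁻¹ := ⟨_, rfl⟩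
      have hx'Q : x' ∈ p.Q := hx' ▸ p.toCtx.norm hdz.inv_left hx
      have hf : rho (p.β t') (p.π x') = p.π x' := by
        rw [← p.m_rho hR _ (p.π_lt _), ← p.toCtx.act hR.2 hx'Q, hx', ht',
          show d⁻¹ * t * d * (d⁻¹ * x * d⁻¹⁻¹) * (d⁻¹ * t * d)⁻¹ = d⁻¹ * (t * x * t⁻¹) * d⁻¹⁻¹ by group,
          p.toCtx.act hdz.inv_left (p.toCtx.norm hT.1 hx), p.toCtx.act hdz.inv_left hx, p.toCtx.act hT.1 hx, hxf]
      obtain ⟨hp, hpb⟩ := (rho_fix_iff (p.β_mem t') hβ (p.π_lt x')).mp hf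
      have hc := (Commute.conj_iff d).mpr (p.cab_one (p.A_of_perp hx'Q hp) hR hpb)
      rwa [hx', ht', show d * (d⁻¹ * x * d⁻¹⁻¹) * d⁻¹ = x by group, show d * (d⁻¹ * t * d) * d⁻¹ = t by group] at hc
    obtain ⟨e, he, ea, eb⟩ := pair_partner _ (p.α_mem q) _ (p.β_mem r) ha hb hab true false
    obtain ⟨x, hx, hxa⟩ := p.α_surj he
    have hf : cd (p.toCtx.m t) (p.π x) = p.π x := by
      rw [htm, cd_rhoE _ (p.π_lt x)]
      refine (rho_fix_iff (p.β_mem r) hb (p.π_lt x)).mpr ⟨p.A_perp hx, ?_⟩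
      show pB (p.α x) (p.β r) = false
      rw [hxa]; exact eb
    have hc := key x hx.1 hf
    rw [htdef] at hc
    have := ((p.comm_prod hq hr hb hx.1).mp hc).2.1
    rw [hxa, ea] at this
    exact Bool.noConfusion this
  have comU : ∀ {x u}, x ∈ p.Q → Commute x t → u ∈ Qt → Commute u z → Commute x u := fun {x u} hx hxt hu huz => by
    have h1 : x * u * x⁻¹ * u⁻¹ = 1 := by
      refine J ?_ (mul_mem (nQt hxt hu) (inv_mem hu))
      rw [show x * u * x⁻¹ * u⁻¹ = x * (u * x⁻¹ * u⁻¹) by group]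
      exact mul_mem hx (p.toCtx.norm huz (inv_mem hx))
    rw [mul_inv_eq_one, mul_inv_eq_iff_eq_mul] at h1
    exact h1
  obtain ⟨y, hydef⟩ : ∃ y, y = h⁻¹ * z * h := ⟨_, rfl⟩
  have hhz : h⁻¹ * t * h = z := by rw [← hh]; group
  have hy : Commute y z := by
    have := (Commute.conj_iff h⁻¹).mpr hT.1.symm
    rwa [inv_inv, hhz, ← hydef] at this
  have hyy : y * y = 1 := by
    rw [hydef, show h⁻¹ * z * h * (h⁻¹ * z * h) = h⁻¹ * (z * z) * h by group, p.X.zz]; group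
  obtain ⟨F, hF, hFc⟩ := p.many_fixed hy hyy
  have hU : ∀ v ∈ F, h * v * h⁻¹ ∈ Qt ∧ Commute (h * v * h⁻¹) z := fun v hv => by
    refine ⟨memQt.mpr (by rw [show h⁻¹ * (h * v * h⁻¹) * h = v by group]; exact (hFc v hv).1), ?_⟩
    have := (Commute.conj_iff h).mpr (hFc v hv).2
    rwa [hydef, show h * (h⁻¹ * z * h) * h⁻¹ = z by group] at this
  have hS := hsmall (F.image fun v => p.toCtx.m (h * v * h⁻¹)) (fun g hg => by
    obtain ⟨v, hv, rfl⟩ := Finset.mem_image.mp hg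
    obtain ⟨hu, huz⟩ := hU v hv
    refine ⟨fun n hn n1 na nb => ?_, ?_⟩
    · obtain ⟨x, hx, hxn⟩ := p.π_surj n hn
      have hxA : p.A x := p.A_of_perp hx (by rw [hxn]; exact n1)
      have hxt : Commute x t := by
        rw [htdef]; exact (p.comm_prod hq hr hb hx).mpr ⟨hxA, by rw [α, hxn]; exact na, by rw [α, hxn]; exact nb⟩
      have := p.toCtx.act huz hx
      rwa [(comU hx hxt hu huz).symm.eq, mul_inv_cancel_right, hxn, eq_comm] at this
    · rw [← htm]
      show _ * _ = _ * _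
      rw [← p.toCtx.m_mul huz hT.1, ← p.toCtx.m_mul hT.1 huz, (XQ.central _ hu).eq])
  rw [Finset.card_image_of_injOn] at hS
  · omega
  intro v hv v' hv' e
  obtain ⟨hu, huz⟩ := hU v (Finset.mem_coe.mp hv)
  obtain ⟨hu', huz'⟩ := hU v' (Finset.mem_coe.mp hv')
  have hQ : h * v * h⁻¹ * (h * v' * h⁻¹)⁻¹ ∈ p.Q := (p.toCtx.m_one_iff (huz.mul_left huz'.inv_left)).mp (by
    rw [p.toCtx.m_mul huz huz'.inv_left, p.toCtx.m_inv huz', show p.toCtx.m (h * v * h⁻¹) = p.toCtx.m (h * v' * h⁻¹) from e,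
      mul_inv_cancel])
  exact mul_left_cancel (mul_right_cancel (mul_inv_eq_one.mp (J hQ (mul_mem hu (inv_mem hu')))))

theorem tt_not_z {q r : G} (hq : p.A q) (hr : p.R r) (a0 : p.α q = 34) (b0 : p.β r = 100) : ¬ IsConj z (q * r) := by
  refine p.not_conj_z hq hr (by rw [a0]; decide) (by rw [b0]; decide) (by rw [a0, b0]; decide) fun S hS => ?_
  have hb : (100 : ℕ) ∈ W := by decide
  refine small_set (im := imTT) ⟨by norm_num, by norm_num, by norm_num⟩ hb countTT S fun g hg => ?_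
  obtain ⟨h1, h2⟩ := hS g hg
  rw [a0, b0] at h1
  have hf : ∀ n ∈ [1, 8, 128, 68, 98], n < 256 ∧ cd g n = n := fun n hn => by
    obtain ⟨a, b, c, d⟩ := (by decide : ∀ n ∈ [1, 8, 128, 68, 98], n < 256 ∧ pB 1 n = false ∧
      pB (nr n) 34 = false ∧ pB (nr n) 100 = false) n hn
    exact ⟨a, h1 n a b c d⟩
  refine ⟨hf, ?_, map_tt (hf 1 (by simp)).2 (hf 8 (by simp)).2 (hf 128 (by simp)).2 (hf 68 (by simp)).2
    (hf 98 (by simp)).2⟩
  convert h2 using 2
  exact b0.symm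

theorem ti_not_z {q r : G} (hq : p.A q) (hr : p.R r) (a0 : p.α q = 2) (b0 : p.β r = 4) : ¬ IsConj z (q * r) := by
  refine p.not_conj_z hq hr (by rw [a0]; decide) (by rw [b0]; decide) (by rw [a0, b0]; decide) fun S hS => ?_
  have hb : (4 : ℕ) ∈ W := by decide
  refine small_set (im := imTI) ⟨by norm_num, by norm_num, by norm_num⟩ hb countTI S fun g hg => ?_
  obtain ⟨h1, h2⟩ := hS g hg
  rw [a0, b0] at h1
  have hf : ∀ n ∈ [1, 2, 4, 8, 128], n < 256 ∧ cd g n = n := fun n hn => by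
    obtain ⟨a, b, c, d⟩ := (by decide : ∀ n ∈ [1, 2, 4, 8, 128], n < 256 ∧ pB 1 n = false ∧
      pB (nr n) 2 = false ∧ pB (nr n) 4 = false) n hn
    exact ⟨a, h1 n a b c d⟩
  refine ⟨hf, ?_, map_ti (hf 1 (by simp)).2 (hf 2 (by simp)).2 (hf 4 (by simp)).2 (hf 8 (by simp)).2
    (hf 128 (by simp)).2⟩
  convert h2 using 2
  exact b0.symm

end Pt

end Cfsg.Lib.ConwayType
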