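import Cfsg.Agent.ConwayType.Space

/-!
The stabiliser of a singular point in the hyperbolic space of dimension eight: its radical and its action on the
section.
-/

set_option autoImplicit false
set_option maxRecDepth 100000
set_option maxHeartbeats 1000000
set_option linter.style.haveILetI false

namespace Cfsg.Lib.ConwayType

open Matrix Cfsg.Lib.ConwayType.Code

/-- The action on the section at the point with code one. -/
noncomputable def sa (g : O8) (x : ℕ) : ℕ := nr (cd g x)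

/-- Trivial on the hyperplane modulo the point. -/
def Rad (g : O8) (p : ℕ) : Prop := ∀ x < 256, pB p x = false → cd g x ^^^ x = 0 ∨ cd g x ^^^ x = p

theorem nr_xor (a b : ℕ) : nr (a ^^^ b) = nr a ^^^ nr b := Nat.and_xor_distrib_right

theorem W_add {a b : ℕ} (ha : a ∈ W) (hb : b ∈ W) : a ^^^ b ∈ W := W_xor a ha b hb

theorem pB_one_one : pB 1 1 = false := pB_self 1

theorem nr_split {x : ℕ} (hx : x < 256) (hp : pB 1 x = false) : x = nr x ∨ x = nr x ^^^ 1 := by
  rcases Nat.le_one_iff_eq_zero_or_eq_one.mp (nr_facts x hx hp).1 with e | e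
  · exact Or.inl (xor_eq_zero'.mp e)
  · refine Or.inr ?_
    rw [← e, Nat.xor_comm x, ← Nat.xor_assoc, Nat.xor_self, Nat.zero_xor]

theorem nr_p {a b : ℕ} (ha : a < 256) (hb : b < 256) (pa : pB 1 a = false) (pb : pB 1 b = false) :
    pB (nr a) (nr b) = pB a b := by
  obtain ⟨la, pa', -⟩ := W_lt _ (nr_mem a ha)
  obtain ⟨lb, pb', -⟩ := W_lt _ (nr_mem b hb)
  have h1 : (1 : ℕ) < 256 := by norm_num
  have e1 : ∀ v < 256, pB 1 v = false → pB a v = pB (nr a) v := fun v hv hp => by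
    rcases nr_split ha pa with e | e
    · rw [← e]
    · conv_lhs => rw [e]
      rw [pB_add_left la h1 hv, hp, Bool.xor_false]
  rcases nr_split hb pb with e | e
  · rw [← e, e1 b hb pb]
  · conv_rhs => rw [e]
    rw [pB_add_right lb h1 ha, pB_comm a 1, pa, Bool.xor_false, e1 _ lb pb']

variable {g : O8}

theorem perp_cd (h1 : cd g 1 = 1) {x : ℕ} (hx : x < 256) (hp : pB 1 x = false) : pB 1 (cd g x) = false := by
  rw [← hp]
  conv_lhs => rw [← h1]
  exact cd_p g (by norm_num) hx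

theorem inv_one' (h1 : cd g 1 = 1) : cd g⁻¹ 1 = 1 := by
  conv_lhs => rw [← h1, cd_inv g (by norm_num)]

/-- The action on the section is well defined on the hyperplane. -/
theorem sa_nr (h1 : cd g 1 = 1) {x : ℕ} (hx : x < 256) (hp : pB 1 x = false) : sa g (nr x) = sa g x := by
  rcases nr_split hx hp with e | e
  · rw [← e]
  · conv_rhs => rw [e]
    rw [sa, sa, cd_xor, h1, nr_xor, show nr 1 = 0 from rfl, Nat.xor_zero]

theorem sa_mem (g : O8) (x : ℕ) : sa g x ∈ W := nr_mem _ (cd_lt g x)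

theorem sa_q (h1 : cd g 1 = 1) {w : ℕ} (hw : w ∈ W) : qB (sa g w) = qB w := by
  obtain ⟨h, hp, -⟩ := W_lt w hw
  rw [sa, (nr_facts _ (cd_lt g w) (perp_cd h1 h hp)).2, cd_q g h]

theorem sa_p (h1 : cd g 1 = 1) {v w : ℕ} (hv : v ∈ W) (hw : w ∈ W) : pB (sa g v) (sa g w) = pB v w := by
  obtain ⟨h, hp, -⟩ := W_lt v hv
  obtain ⟨h', hp', -⟩ := W_lt w hw
  rw [sa, sa, nr_p (cd_lt g v) (cd_lt g w) (perp_cd h1 h hp) (perp_cd h1 h' hp'), cd_p g h h']

theorem sa_mul {h : O8} (g1' : cd g 1 = 1) (h1 : cd h 1 = 1) {x : ℕ} (hx : x < 256) (hp : pB 1 x = false) :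
    sa (g * h) x = sa g (sa h x) := by
  have e := sa_nr g1' (cd_lt h x) (perp_cd h1 hx hp)
  rw [sa, cd_mul]
  exact e.symm

theorem sa_xor (g : O8) (x y : ℕ) : sa g (x ^^^ y) = sa g x ^^^ sa g y := by rw [sa, cd_xor, nr_xor]; rfl

theorem sa_zero (g : O8) : sa g 0 = 0 := by rw [sa, cd_zero]; rfl

theorem sa_one {w : ℕ} (hw : w ∈ W) : sa 1 w = w := by
  rw [sa, cd_one (W_lt w hw).1, (W_lt w hw).2.2]

theorem sa_inv (h1 : cd g 1 = 1) {w : ℕ} (hw : w ∈ W) : sa g (sa g⁻¹ w) = w ∧ sa g⁻¹ (sa g w) = w := by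
  obtain ⟨hl, hp, -⟩ := W_lt w hw
  refine ⟨?_, ?_⟩
  · rw [← sa_mul h1 (inv_one' h1) hl hp, mul_inv_cancel, sa_one hw]
  · rw [← sa_mul (inv_one' h1) h1 hl hp, inv_mul_cancel, sa_one hw]

theorem rho_one : ∀ w ∈ W, rho w 1 = 1 := by decide +kernel

/-- An element fixing the point carries radical elements by its action on the section. -/
theorem sa_of_intertwine (h1 : cd g 1 = 1) {w v : ℕ} (hw : w ∈ W) (hv : v ∈ W)
    (h : ∀ x < 256, cd g (rho w x) = rho v (cd g x)) : sa g w = v := by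
  have h4 := congrArg nr (h 16 (by norm_num))
  have hp : pB 1 (cd g 16) = true := by
    conv_lhs => rw [← h1]
    rw [cd_p g (by norm_num) (by norm_num)]; decide
  rw [rho_facts v hv _ (cd_lt g 16) hp] at h4
  rcases rho_top w hw with e | e <;> rw [e] at h4 <;> simp only [cd_xor, nr_xor, h1, show nr 1 = 0 from rfl,
    Nat.xor_zero] at h4 <;> exact Nat.xor_right_inj.mp h4

/-- The radical consists of the radical elements. -/
theorem rad_rho (h1 : cd g 1 = 1) (hr : Rad g 1) : ∃ w ∈ W, ∀ x < 256, cd g x = rho w x := by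
  have hk : ∀ k ∈ [2, 4, 8, 32, 64, 128], k < 256 ∧ pB 1 k = false ∧ pB 16 k = false := by decide
  have hm : ∀ k ∈ [2, 4, 8, 32, 64, 128], (cd g k = k ∨ cd g k = k ^^^ 1) ∧ pB (cd g 16) (cd g k) = false := by
    intro k hk'
    obtain ⟨hl, hp, hp'⟩ := hk k hk'
    refine ⟨?_, by rw [cd_p g (by norm_num) hl]; exact hp'⟩
    rcases hr k hl hp with e | e
    · exact Or.inl (xor_eq_zero'.mp e)
    · refine Or.inr ?_
      rw [← e, Nat.xor_comm (cd g k) k, ← Nat.xor_assoc, Nat.xor_self, Nat.zero_xor]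
  simp only [List.forall_mem_cons, List.not_mem_nil, IsEmpty.forall_iff, implies_true, and_true] at hm
  obtain ⟨⟨a, a'⟩, ⟨b, b'⟩, ⟨c, c'⟩, ⟨d, d'⟩, ⟨e, e'⟩, ⟨f, f'⟩⟩ := hm
  have hy : qB (cd g 16) = false := by rw [cd_q g (by norm_num)]; decide
  have hy' : pB 1 (cd g 16) = true := by
    conv_lhs => rw [← h1]
    rw [cd_p g (by norm_num) (by norm_num)]; decide
  have H := List.all_eq_true.mp rad_check (cd g 16) (List.mem_range.mpr (cd_lt g 16))
  rw [hy, hy', Bool.not_true, Bool.false_or, Bool.false_or, List.all_eq_true] at H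
  have H1 := H (cd g 2) (by rcases a with a | a <;> rw [a] <;> decide)
  rw [a', Bool.false_or, List.all_eq_true] at H1
  have H2 := H1 (cd g 4) (by rcases b with b | b <;> rw [b] <;> decide)
  rw [b', Bool.false_or, List.all_eq_true] at H2
  have H3 := H2 (cd g 8) (by rcases c with c | c <;> rw [c] <;> decide)
  rw [c', Bool.false_or, List.all_eq_true] at H3
  have H4 := H3 (cd g 32) (by rcases d with d | d <;> rw [d] <;> decide)
  rw [d', Bool.false_or, List.all_eq_true] at H4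
  have H5 := H4 (cd g 64) (by rcases e with e | e <;> rw [e] <;> decide)
  rw [e', Bool.false_or, List.all_eq_true] at H5
  have H6 := H5 (cd g 128) (by rcases f with f | f <;> rw [f] <;> decide)
  simp only [f', Bool.false_or, Bool.and_eq_true, beq_iff_eq] at H6
  obtain ⟨⟨⟨⟨⟨⟨r16, r2⟩, r4⟩, r8⟩, r32⟩, r64⟩, r128⟩ := H6
  set w := nr (cd g 16)
  have hw : w ∈ W := nr_mem _ (cd_lt g 16)
  have hg : g = rhoE w hw := cd_basis fun k hk' => by
    simp only [List.mem_cons, List.not_mem_nil, or_false] at hk'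
    rcases hk' with rfl | rfl | rfl | rfl | rfl | rfl | rfl | rfl <;> rw [cd_rhoE hw (by norm_num)]
    · rw [h1, rho_one w hw]
    · exact r2.symm
    · exact r4.symm
    · exact r8.symm
    · exact r16.symm
    · exact r32.symm
    · exact r64.symm
    · exact r128.symm
  exact ⟨w, hw, fun x hx => by rw [hg, cd_rhoE hw hx]⟩

theorem rad_of_trivial (h1 : cd g 1 = 1) (h : ∀ w ∈ W, sa g w = w) : Rad g 1 := fun x hx hp => by
  have e := sa_nr h1 hx hp
  rw [h _ (nr_mem x hx), sa] at e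
  refine low_code _ (xor_lt (cd_lt g x) hx) ?_ ?_
  · rw [pB_add_right (cd_lt g x) hx (by norm_num), perp_cd h1 hx hp, hp]; rfl
  · rw [nr_xor, ← e, Nat.xor_self]

theorem sa_rho {w v : ℕ} (hw : w ∈ W) (hv : v ∈ W) : nr (rho w v) = v := by
  obtain ⟨hl, hp, hn⟩ := W_lt v hv
  have h := rho_shift w hw v hl hp
  have e : nr (rho w v ^^^ v) = 0 := by rw [h]; cases pB (nr v) w <;> rfl
  rw [nr_xor, hn] at e
  exact xor_eq_zero'.mp e

theorem wact_fix1 : ∀ w : List ℕ, (∀ i ∈ w, i < g2.length) → wact g2 w 1 = 1 := by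
  intro w hw
  induction w with
  | nil => rfl
  | cons i w ih =>
    have hi : i < g2.length := hw i (List.mem_cons_self ..)
    show Cfsg.Lib.Classical.OrthH1.sN qB _ _ (wact g2 w 1) = 1
    rw [ih fun j hj => hw j (List.mem_cons_of_mem _ hj), List.getD_eq_getElem _ _ hi]
    exact (g2_ok _ (List.getElem_mem hi)).2

/-- Words in the stabiliser. -/
theorem exists_stab (w : List ℕ) (hw : ∀ i ∈ w, i < g2.length) :
    ∃ h ∈ Om, cd h 1 = 1 ∧ ∀ x < 256, cd h x = wact g2 w x := by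
  obtain ⟨h, hh, he⟩ := exists_word g2 (fun t ht => (g2_ok t ht).1) w hw
  exact ⟨h, hh, by rw [he 1 (by norm_num), wact_fix1 w hw], he⟩

/-- `Ω` is transitive on singular vectors. -/
theorem trans_sing {x : ℕ} (hx : x < 256) (h0 : x ≠ 0) (hq : qB x = false) : ∃ g ∈ Om, cd g 1 = x := by
  have h := List.all_eq_true.mp trans135 x (List.mem_range.mpr hx)
  simp only [hq, h0, beq_iff_eq, Bool.false_or, Bool.or_eq_true, false_or, List.any_eq_true, Bool.and_eq_true,
    List.all_eq_true, decide_eq_true_eq] at h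
  obtain ⟨t, -, ⟨-, h2⟩, hl⟩ := h
  obtain ⟨g, hg, he⟩ := exists_word g1 g1_ok t.2 hl
  exact ⟨g, hg, by rw [he 1 (by norm_num), h2]⟩

/-- Transitivity on the singular vectors of the section. -/
theorem trans_w35 {v : ℕ} (hv : v ∈ W) (hq : qB v = false) (h0 : v ≠ 0) : ∃ h ∈ Om, cd h 1 = 1 ∧ sa h 2 = v := by
  have h := List.all_eq_true.mp trans35 v hv
  simp only [hq, h0, beq_iff_eq, Bool.false_or, Bool.or_eq_true, false_or, List.any_eq_true, Bool.and_eq_true,
    List.all_eq_true, decide_eq_true_eq] at h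
  obtain ⟨t, -, ⟨-, h2⟩, hl⟩ := h
  obtain ⟨g, hg, h1, he⟩ := exists_stab t.2 hl
  exact ⟨g, hg, h1, by rw [sa, he 2 (by norm_num), h2]⟩

/-- Transitivity on the nonsingular vectors of the section. -/
theorem trans_w28 {v : ℕ} (hv : v ∈ W) (hq : qB v = true) : ∃ h ∈ Om, cd h 1 = 1 ∧ sa h 34 = v := by
  have h := List.all_eq_true.mp trans28 v hv
  simp only [hq, Bool.not_true, Bool.false_or, List.any_eq_true, Bool.and_eq_true, beq_iff_eq,
    List.all_eq_true, decide_eq_true_eq] at h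
  obtain ⟨t, -, ⟨-, h2⟩, hl⟩ := h
  obtain ⟨g, hg, h1, he⟩ := exists_stab t.2 hl
  exact ⟨g, hg, h1, by rw [sa, he 34 (by norm_num), h2]⟩

/-- Transitivity on the totally singular pairs of the section. -/
theorem trans_ti {a b : ℕ} (ha : a ∈ W) (hb : b ∈ W) (hqa : qB a = false) (hqb : qB b = false) (ha0 : a ≠ 0)
    (hb0 : b ≠ 0) (hab : a ≠ b) (hp : pB a b = false) : ∃ h ∈ Om, cd h 1 = 1 ∧ sa h 2 = a ∧ sa h 4 = b := by
  obtain ⟨g, hg, g1', e1⟩ := trans_w35 ha hqa ha0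
  have hb' : sa g⁻¹ b ∈ W := sa_mem _ _
  obtain ⟨eb, -⟩ := sa_inv g1' hb
  have h2 : (2 : ℕ) ∈ W := by decide
  have c1 : qB (sa g⁻¹ b) = false := by rw [sa_q (inv_one' g1') hb, hqb]
  have c2 : sa g⁻¹ b ≠ 0 := fun e => hb0 (by rw [← eb, e, sa_zero])
  have c3 : sa g⁻¹ b ≠ 2 := fun e => hab (by rw [← e1, ← e, eb])
  have c4 : pB 2 (sa g⁻¹ b) = false := by rw [← sa_p g1' h2 hb', e1, eb, hp]
  have h := List.all_eq_true.mp trans18 _ hb'
  simp only [c1, c2, c3, c4, beq_iff_eq, Bool.false_eq_true, Bool.false_or, Bool.or_eq_true, false_or, List.any_eq_true, Bool.and_eq_true,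
    List.all_eq_true, decide_eq_true_eq] at h
  obtain ⟨t, _, hh', hl⟩ := h
  obtain ⟨⟨_, f2⟩, f4⟩ := hh'
  obtain ⟨k, hk, k1, he⟩ := exists_stab t.2 hl
  refine ⟨g * k, mul_mem hg hk, by rw [cd_mul, k1, g1'], ?_, ?_⟩
  · rw [sa_mul g1' k1 (by norm_num) (by decide), show sa k 2 = 2 by rw [sa, he 2 (by norm_num), f2]]; exact e1
  · rw [sa_mul g1' k1 (by norm_num) (by decide), show sa k 4 = sa g⁻¹ b by rw [sa, he 4 (by norm_num), f4], eb]

/-- Transitivity on the anisotropic pairs of the section. -/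
theorem trans_tt {a b : ℕ} (ha : a ∈ W) (hb : b ∈ W) (hqa : qB a = true) (hqb : qB b = true) (hp : pB a b = true) :
    ∃ h ∈ Om, cd h 1 = 1 ∧ sa h 34 = a ∧ sa h 100 = b := by
  obtain ⟨g, hg, g1', e1⟩ := trans_w28 ha hqa
  have hb' : sa g⁻¹ b ∈ W := sa_mem _ _
  obtain ⟨eb, -⟩ := sa_inv g1' hb
  have h2 : (34 : ℕ) ∈ W := by decide
  have c1 : qB (sa g⁻¹ b) = true := by rw [sa_q (inv_one' g1') hb, hqb]
  have c4 : pB 34 (sa g⁻¹ b) = true := by rw [← sa_p g1' h2 hb', e1, eb, hp]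
  have h := List.all_eq_true.mp trans12 _ hb'
  simp only [c1, c4, Bool.not_true, Bool.false_or, List.any_eq_true, Bool.and_eq_true, beq_iff_eq,
    List.all_eq_true, decide_eq_true_eq] at h
  obtain ⟨t, -, ⟨⟨-, f2⟩, f4⟩, hl⟩ := h
  obtain ⟨k, hk, k1, he⟩ := exists_stab t.2 hl
  refine ⟨g * k, mul_mem hg hk, by rw [cd_mul, k1, g1'], ?_, ?_⟩
  · rw [sa_mul g1' k1 (by norm_num) (by decide), show sa k 34 = 34 by rw [sa, he 34 (by norm_num), f2]]; exact e1
  · rw [sa_mul g1' k1 (by norm_num) (by decide), show sa k 100 = sa g⁻¹ b by rw [sa, he 100 (by norm_num), f4], eb]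

theorem orbit_singles {w0 v : ℕ} (hw0 : w0 ∈ W) (h0 : w0 ≠ 0) (hv : v ∈ W) (hv0 : v ≠ 0) (hq : qB v = qB w0) :
    ∃ h ∈ Om, cd h 1 = 1 ∧ sa h w0 = v := by
  have key : ∀ c ∈ W, (∃ h ∈ Om, cd h 1 = 1 ∧ sa h c = w0) → (∃ h ∈ Om, cd h 1 = 1 ∧ sa h c = v) →
      ∃ h ∈ Om, cd h 1 = 1 ∧ sa h w0 = v := by
    rintro c hc ⟨g, hg, g1', e⟩ ⟨k, hk, k1, e'⟩
    refine ⟨k * g⁻¹, mul_mem hk (inv_mem hg), by rw [cd_mul, inv_one' g1', k1], ?_⟩
    rw [sa_mul k1 (inv_one' g1') (W_lt w0 hw0).1 (W_lt w0 hw0).2.1, ← e, (sa_inv g1' hc).2, e']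
  cases hq0 : qB w0
  · exact key 2 (by decide) (trans_w35 hw0 hq0 h0) (trans_w35 hv (hq.trans hq0) hv0)
  · exact key 34 (by decide) (trans_w28 hw0 hq0) (trans_w28 hv (hq.trans hq0))

/-- A subspace of the section invariant under the stabiliser of the point is zero or everything. -/
theorem invariant_all (I : ℕ → Prop) (h0 : I 0) (hx : ∀ a ∈ W, ∀ b ∈ W, I a → I b → I (a ^^^ b))
    (hs : ∀ h ∈ Om, cd h 1 = 1 → ∀ v ∈ W, I v → I (sa h v)) (hne : ∃ w ∈ W, w ≠ 0 ∧ I w) : ∀ v ∈ W, I v := by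
  obtain ⟨w0, hw0, hne, hI⟩ := hne
  have horb : ∀ v ∈ W, v = 0 ∨ qB v = qB w0 → I v := fun v hv h => by
    rcases eq_or_ne v 0 with rfl | hv0
    · exact h0
    obtain ⟨g, hg, g1', e⟩ := orbit_singles hw0 hne hv hv0 (h.resolve_left hv0)
    rw [← e]
    exact hs g hg g1' w0 hw0 hI
  intro v hv
  obtain ⟨a, ha, b, hb, ea, eb, rfl⟩ := span_orbit (qB w0) v hv
  exact hx a ha b hb (horb a ha ea) (horb b hb eb)

theorem functional_code (a b c d e f : Bool) : ∃ k ∈ W, pB k 2 = a ∧ pB k 4 = b ∧ pB k 8 = c ∧ pB k 32 = d ∧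
    pB k 64 = e ∧ pB k 128 = f := by
  refine ⟨(bif a then 32 else 0) ^^^ (bif b then 64 else 0) ^^^ (bif c then 128 else 0) ^^^ (bif d then 2 else 0) ^^^
    (bif e then 4 else 0) ^^^ (bif f then 8 else 0), ?_⟩
  cases a <;> cases b <;> cases c <;> cases d <;> cases e <;> cases f <;> decide +kernel

theorem W_bits : ∀ x ∈ W, x.testBit 0 = false ∧ x.testBit 4 = false := by decide +kernel

/-- An additive functional on the section fixed by the stabiliser of a singular vector is a multiple of the pairing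
with it. -/
theorem functional_eq (φ : ℕ → Bool) (hadd : ∀ a ∈ W, ∀ b ∈ W, φ (a ^^^ b) = (φ a ^^ φ b))
    (hfix : ∀ h ∈ Om, cd h 1 = 1 → sa h 2 = 2 → ∀ x ∈ W, φ (sa h x) = φ x) :
    (∀ x ∈ W, φ x = false) ∨ ∀ x ∈ W, φ x = pB 2 x := by
  obtain ⟨k, hk, e2, e4, e8, e32, e64, e128⟩ := functional_code (φ 2) (φ 4) (φ 8) (φ 32) (φ 64) (φ 128)
  have hkl := (W_lt k hk).1
  have h00 : φ 0 = false := by
    have := hadd 0 (by decide) 0 (by decide)
    rw [Nat.xor_self, Bool.xor_self] at this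
    exact this
  have hphi : ∀ x ∈ W, φ x = pB k x := by
    have hb : ∀ (c : Bool), ∀ y ∈ W, (bif c then y else 0) ∈ W := by
      intro c y hy; cases c
      · exact (by decide : 0 ∈ W)
      · exact hy
    have step : ∀ (c : Bool), ∀ y ∈ W, φ y = pB k y →
        φ (bif c then y else 0) = pB k (bif c then y else 0) := by
      intro c y _ e; cases c
      · show φ 0 = pB k 0
        rw [h00, pB_comm, pB_zero]
      · exact e
    have add : ∀ a ∈ W, ∀ b ∈ W, φ a = pB k a → φ b = pB k b → φ (a ^^^ b) = pB k (a ^^^ b) := fun a ha b hb u v => by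
      rw [hadd a ha b hb, pB_add_right (W_lt a ha).1 (W_lt b hb).1 hkl, u, v]
    intro x hx
    obtain ⟨hl, -, -⟩ := W_lt x hx
    obtain ⟨h0, h4⟩ := W_bits x hx
    rw [← bits8 x hl]
    simp only [h0, h4, cond_false, Nat.zero_xor, Nat.xor_zero]
    have m : ∀ y ∈ [2, 4, 8, 32, 64, 128], y ∈ W := by decide
    have p1 := step (x.testBit 1) 2 (m 2 (by decide)) e2.symm
    have p2 := step (x.testBit 2) 4 (m 4 (by decide)) e4.symm
    have p3 := step (x.testBit 3) 8 (m 8 (by decide)) e8.symm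
    have p5 := step (x.testBit 5) 32 (m 32 (by decide)) e32.symm
    have p6 := step (x.testBit 6) 64 (m 64 (by decide)) e64.symm
    have p7 := step (x.testBit 7) 128 (m 128 (by decide)) e128.symm
    have w1 := hb (x.testBit 1) 2 (m 2 (by decide))
    have w2 := hb (x.testBit 2) 4 (m 4 (by decide))
    have w3 := hb (x.testBit 3) 8 (m 8 (by decide))
    have w5 := hb (x.testBit 5) 32 (m 32 (by decide))
    have w6 := hb (x.testBit 6) 64 (m 64 (by decide))
    have w7 := hb (x.testBit 7) 128 (m 128 (by decide))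
    exact add _ (W_add (W_add (W_add (W_add w1 w2) w3) w5) w6) _ w7
      (add _ (W_add (W_add (W_add w1 w2) w3) w5) _ w6
        (add _ (W_add (W_add w1 w2) w3) _ w5 (add _ (W_add w1 w2) _ w3 (add _ w1 _ w2 p1 p2) p3) p5) p6) p7
  have h2 := fixed_functional
  simp only [List.all_eq_true, Bool.and_eq_true, beq_iff_eq, decide_eq_true_eq] at h2
  have hkk := List.all_eq_true.mp fixed_functional.1 k hk
  have hall : (wF.all fun w => W.all fun x => pB k (nr (wact g2 w x)) == pB k x) = true := by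
    refine List.all_eq_true.mpr fun w hw => List.all_eq_true.mpr fun x hx => beq_iff_eq.mpr ?_
    obtain ⟨hw2, hwl⟩ := h2.2 w hw
    obtain ⟨h, hh, h1, he⟩ := exists_stab w hwl
    have := hfix h hh h1 (by rw [sa, he 2 (by norm_num), hw2]) x hx
    rw [sa, he x (W_lt x hx).1, hphi _ (nr_mem _ (by rw [← he x (W_lt x hx).1]; exact cd_lt _ _)), hphi x hx] at this
    exact this
  simp only [hall, Bool.not_true, Bool.false_or, Bool.or_eq_true, beq_iff_eq] at hkk
  rcases hkk with rfl | rfl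
  · exact Or.inl fun x hx => by rw [hphi x hx, pB_zero]
  · exact Or.inr hphi

theorem Rad.conj {p : ℕ} (hr : Rad g p) (hp : p < 256) (h : O8) : Rad (h * g * h⁻¹) (cd h p) := by
  intro x hx hxp
  have hy : pB p (cd h⁻¹ x) = false := by rw [← cd_p h hp (cd_lt _ _), cd_inv' h hx, hxp]
  have e : cd (h * g * h⁻¹) x ^^^ x = cd h (cd g (cd h⁻¹ x) ^^^ cd h⁻¹ x) := by
    rw [cd_xor, cd_inv' h hx, cd_mul, cd_mul]
  rw [e]
  rcases hr _ (cd_lt _ _) hy with h2 | h2 <;> rw [h2]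
  · exact Or.inl (cd_zero h)
  · exact Or.inr rfl

end Cfsg.Lib.ConwayType
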