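import Cfsg.Agent.ConwayType.Pair

/-!
Every involution of the centralizer is fused to one acting as a radical element.
-/

set_option autoImplicit false
set_option maxRecDepth 100000
set_option maxHeartbeats 1000000
set_option linter.unusedSectionVars false
set_option linter.style.haveILetI false

namespace Cfsg.Lib.ConwayType

open Subgroup Cfsg.Lib.ConwayType.Code
open Cfsg.Lib.LargeExtra (X2 mem_map_conj mem_conj_of_mem mem_zpowers_two)
open scoped commutatorElement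

universe u

variable {G : Type u} [Group G] [Finite G] {z : G}

theorem rho_two_fixed {y : ℕ} (hy : y < 256) : rho 2 y = y ↔ pB 1 y = false ∧ pB 2 y = false := by
  rw [← xor_eq_zero', rho_two y hy]
  cases pB 1 y <;> cases pB 2 y <;> simp

theorem u01' (u : ℕ) (hu : u ∈ W) (u0 : u ≠ 0) : u ^^^ 1 ≠ 0 := fun e => by
  have e' := xor_eq_zero'.mp e
  exact absurd (e' ▸ (W_lt u hu).2.2 : nr 1 = 1) (by decide)

theorem xor_swap (a b c d : ℕ) (h : a ^^^ b = c ^^^ d) : a ^^^ c = b ^^^ d := by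
  have := congrArg (fun x => x ^^^ b ^^^ c) h
  simpa [Nat.xor_assoc, Nat.xor_comm, Nat.xor_left_comm] using this

/-- The combination of four codes. -/
def comb (a b c e : ℕ) (x : Bool × Bool × Bool × Bool) : ℕ :=
  (bif x.1 then a else 0) ^^^ (bif x.2.1 then b else 0) ^^^ (bif x.2.2.1 then c else 0) ^^^ (bif x.2.2.2 then e else 0)

theorem comb_xor (a b c e : ℕ) (x y : Bool × Bool × Bool × Bool) :
    comb a b c e (x.1 ^^ y.1, x.2.1 ^^ y.2.1, x.2.2.1 ^^ y.2.2.1, x.2.2.2 ^^ y.2.2.2) =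
      comb a b c e x ^^^ comb a b c e y := by
  have h : ∀ (p q : Bool) (v : ℕ), (bif (p ^^ q) then v else 0) = (bif p then v else 0) ^^^ (bif q then v else 0) := by
    intro p q v; cases p <;> cases q <;> simp
  simp only [comb, h]
  ac_rfl

theorem perp_three' {a b c : ℕ} (ha : a ∈ W) (hb : b ∈ W) (hc : c ∈ W) (hab : pB a b = false) (hac : pB a c = false)
    (hbc : pB b c = false) (ha0 : a ≠ 0) (hb0 : b ≠ 0) (hne : b ≠ a) (hc0 : c ∉ [0, a, b, a ^^^ b]) :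
    ∃ e ∈ W, pB a e = false ∧ pB b e = false ∧ pB c e = true := by
  have hW : ∀ {x y}, x ∈ W → y ∈ W → pW x y = pB x y := fun {x y} hx hy =>
    beq_iff_eq.mp (List.all_eq_true.mp (List.all_eq_true.mp pW_eq x hx) y hy)
  have hL : ∀ {x}, x ∈ W → pB a x = false → pB b x = false → x ∈ perpL b (perpL a W) := fun {x} hx e1 e2 => by
    simp only [perpL, List.mem_filter, Bool.not_eq_eq_eq_not, Bool.not_true]
    exact ⟨⟨hx, (hW ha hx).trans e1⟩, (hW hb hx).trans e2⟩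
  have h := List.all_eq_true.mp perp_three a ha
  simp only [ha0, beq_iff_eq, Bool.or_eq_true, false_or, List.all_eq_true] at h
  have h2 := h b (by
    simp only [perpL, List.mem_filter, Bool.not_eq_eq_eq_not, Bool.not_true]
    exact ⟨hb, (hW ha hb).trans hab⟩)
  simp only [hb0, hne, false_or, List.all_eq_true, Bool.or_eq_true, beq_iff_eq] at h2
  have h3 := h2 c (hL hc hac hbc)
  simp only [List.mem_cons, List.not_mem_nil, or_false, not_or] at hc0
  simp only [hc0.1, hc0.2.1, hc0.2.2.1, hc0.2.2.2, false_or, Bool.and_eq_true, List.any_eq_true] at h3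
  obtain ⟨-, e, he, hce⟩ := h3
  simp only [perpL, List.mem_filter, Bool.not_eq_eq_eq_not, Bool.not_true] at he
  obtain ⟨⟨heW, e1⟩, e2⟩ := he
  exact ⟨e, heW, (hW ha heW).symm.trans e1, (hW hb heW).symm.trans e2, (hW hc heW).symm.trans hce⟩

namespace Pt

variable (p : Pt z)

theorem cab_one {x r : G} (hx : p.A x) (hr : p.R r) (h : pB (p.α x) (p.β r) = false) : Commute x r := by
  have h1 := p.cab_ze hx hr
  have h2 := p.cab_se hx hr
  rw [h] at h1 h2
  obtain ⟨⟨z1, t1⟩, -⟩ := p.zse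
  have h3 := p.eq_of_zse (p.cab_E hx hr) (Or.inl rfl) (h1.trans z1.symm) (h2.trans t1.symm)
  rw [cab, mul_inv_eq_one, mul_inv_eq_iff_eq_mul] at h3
  exact h3

theorem E_conj_k {e : G} (he : p.InE e) : p.InE (p.k * e * p.k⁻¹) := by
  rcases he with rfl | rfl | rfl | rfl
  · exact Or.inl (by group)
  · exact Or.inr (Or.inr (Or.inl p.kz))
  · exact Or.inr (Or.inl p.ks)
  · refine Or.inr (Or.inr (Or.inr ?_))
    rw [show p.k * (z * p.s) * p.k⁻¹ = p.k * z * p.k⁻¹ * (p.k * p.s * p.k⁻¹) by group, p.kz, p.ks, p.sz.eq]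

theorem m_eq_rhoE {r : G} (hr : p.R r) {w : ℕ} (hw : w ∈ W) (e : p.β r = w) : p.toCtx.m r = rhoE w hw :=
  cd_ext fun x hx => by rw [p.m_rho hr x hx, e, cd_rhoE hw hx]

/-- An involution inverts the lifts of its changes. -/
theorem inverts {y v : G} (hy : Commute y z) (hyy : y * y = 1) (hv : v ∈ p.Q)
    (hc : p.π v ∈ imgSet (p.toCtx.m y)) : y * v * y⁻¹ = v⁻¹ := by
  obtain ⟨n, hn, he⟩ := mem_imgSet.mp hc
  obtain ⟨q, hq, eq⟩ := p.π_surj n hn
  have hyq := p.toCtx.norm hy hq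
  have hm : y * q * y⁻¹ * q⁻¹ ∈ p.Q := mul_mem hyq (inv_mem hq)
  have hπ : p.π v = p.π (y * q * y⁻¹ * q⁻¹) := by
    rw [p.π_mul _ hyq _ (inv_mem hq), p.toCtx.act hy hq, p.toCtx.pi_inv hq, eq, ← he, br]
  have hi : y⁻¹ = y := inv_eq_of_mul_eq_one_right hyy
  have hinv : y * (y * q * y⁻¹ * q⁻¹) * y⁻¹ = (y * q * y⁻¹ * q⁻¹)⁻¹ := by
    calc y * (y * q * y⁻¹ * q⁻¹) * y⁻¹ = (y * y) * q * y⁻¹ * q⁻¹ * y⁻¹ := by group
      _ = q * y * q⁻¹ * y⁻¹ := by rw [hyy, one_mul, hi]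
      _ = _ := by group
  rcases p.toCtx.pi_eq hv hm hπ with e | e
  · rw [e]; exact hinv
  · rw [e, show y * (z * (y * q * y⁻¹ * q⁻¹)) * y⁻¹ = (y * z * y⁻¹) * (y * (y * q * y⁻¹ * q⁻¹) * y⁻¹) by group,
      hy.eq, mul_inv_cancel_right, hinv, (p.X.central _ hm).symm.eq, mul_inv_rev (y * q * y⁻¹ * q⁻¹) z, p.X.inv_z]

/-- The condition that an element of `R` is fixed up to the point's involution. -/
def Good (y r : G) : Prop := p.InE (y * r * y⁻¹ * r⁻¹) ∧ p.ze (y * r * y⁻¹ * r⁻¹) = false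

theorem c_mul {y r r' : G} (hr : p.R r) (hE : p.InE (y * r' * y⁻¹ * r'⁻¹)) :
    y * (r * r') * y⁻¹ * (r * r')⁻¹ = y * r * y⁻¹ * r⁻¹ * (y * r' * y⁻¹ * r'⁻¹) := by
  have h := p.E_central hE (p.R_T hr)
  calc y * (r * r') * y⁻¹ * (r * r')⁻¹ = y * r * y⁻¹ * r⁻¹ * (r * (y * r' * y⁻¹ * r'⁻¹) * r⁻¹) := by group
    _ = _ := by rw [h.eq, mul_inv_cancel_right]

theorem good_mul {y r r' : G} (hr : p.R r) (h : p.Good y r) (h' : p.Good y r') : p.Good y (r * r') := by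
  rw [Good, p.c_mul hr h'.1]
  exact ⟨p.E_cases h.1 _ h'.1, by rw [(p.mul_zse h.1 h'.1).1, h.2, h'.2]; rfl⟩

theorem c_E {y r : G} (hyT : p.T y) (hr : p.R r) (h : sa (p.toCtx.m y) (p.β r) = p.β r) :
    p.InE (y * r * y⁻¹ * r⁻¹) := by
  have hR := p.R_norm hyT hr
  have he := p.R_fibre hr hR (by rw [p.β_conj hyT hr, h])
  have e : y * r * y⁻¹ * r⁻¹ = r * (r⁻¹ * (y * r * y⁻¹)) * r⁻¹ := by group
  rw [e, (p.E_central he (p.R_T hr)).eq, mul_inv_cancel_right]
  exact he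

theorem good_congr {y r r' : G} (hyT : p.T y) (hr : p.R r) (hr' : p.R r') (h : p.β r = p.β r') (hg : p.Good y r) :
    p.Good y r' := by
  have he := p.R_fibre hr hr' h
  have hge : p.Good y (r⁻¹ * r') := by
    rw [Good, (p.E_central he hyT).eq, mul_inv_cancel_right, mul_inv_cancel]
    exact ⟨Or.inl rfl, p.zse.1.1⟩
  have := p.good_mul hr hg hge
  rwa [mul_inv_cancel_left] at this

/-- An element fixing the vector of `R` given as a change is fixed up to the point's involution. -/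
theorem good_change {y r : G} (hyT : p.T y) (hyy : y * y = 1) (hr : p.R r)
    (hf : sa (p.toCtx.m y) (p.β r) = p.β r) {n : ℕ} (hn : n < 256) (hn1 : pB 1 n = false)
    (he : nr (br (p.toCtx.m y) n) = p.β r) : p.Good y r := by
  obtain ⟨r1, hr1, e1⟩ := p.β_surj (nr_mem n hn)
  have hR1 := p.R_norm hyT hr1
  have hi : y⁻¹ = y := inv_eq_of_mul_eq_one_right hyy
  set r1' := y * r1 * y⁻¹ with hr1'
  have hβ : p.β (r1 * r1') = p.β r := by
    rw [p.β_mul hr1 hR1, hr1', p.β_conj hyT hr1, e1, sa_nr (p.T_fix hyT) hn hn1, sa, ← nr_xor, ← he, br, Nat.xor_comm]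
  refine p.good_congr hyT (p.R_mul hr1 hR1) hr hβ ⟨p.c_E hyT (p.R_mul hr1 hR1) (by rw [hβ, hf]), ?_⟩
  have e : y * (r1 * r1') * y⁻¹ * (r1 * r1')⁻¹ = ⁅r1', r1⁆ := by
    rw [commutatorElement_def, hr1', hi]
    calc y * (r1 * (y * r1 * y)) * y * (r1 * (y * r1 * y))⁻¹
        = y * r1 * y * r1 * (y * y) * (y⁻¹ * r1⁻¹ * y⁻¹ * r1⁻¹) := by group
      _ = _ := by rw [hyy]; group
  rw [e]
  rcases p.X'.comm r1' hR1.1 r1 hr1.1 with h | h <;> rw [h]
  · exact p.zse.1.1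
  · exact p.zse.2.2.1.1

/-- An involution over a split element has a conjugate with many fixed codes. -/
theorem split_case {y : G} (hy : Commute y z) (hyy : y * y = 1) (u : ℕ) (hu : u ∈ W) (u0 : u ≠ 0) (k : O8)
    (hk : k ∈ Om) (eq : p.toCtx.m y = rhoE u hu * tau k) (comm : Commute (rhoE u hu) (tau k))
    (o1 : pB 1 (cd k⁻¹ 1) = false) (o2 : pB 2 (cd k⁻¹ 1) = false)
    (o3 : pB 1 (cd k⁻¹ u) = false) (o4 : pB 2 (cd k⁻¹ u) = false)
    (indep : ∀ i ∈ [0, 1, u, u ^^^ 1], ∀ j ∈ [0, 1, 2, 3], i = cd k j → i = 0)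
    (i1 : 1 ∈ imgSet (p.toCtx.m y)) (iu : u ∈ imgSet (p.toCtx.m y)) :
    ∃ y', Commute y' z ∧ IsConj y y' ∧ 16 < (fixSet (p.toCtx.m y')).card := by
  classical
  obtain ⟨g, hg⟩ : ∃ x, x = p.toCtx.m y := ⟨_, rfl⟩
  rw [← hg] at eq i1 iu
  have hgg : g * g = 1 := by rw [hg, ← p.toCtx.m_mul hy hy, hyy, p.toCtx.m_one]
  have hul := (W_lt u hu).1
  have h1 : (1 : ℕ) < 256 := by norm_num
  have hg1 : cd g 1 = 1 := img_fix hgg i1
  have hgu : cd g u = u := img_fix hgg iu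
  have hys : y * p.s * y⁻¹ = p.s := by
    rw [p.inverts hy hyy p.hs (by rw [p.πs, ← hg]; exact i1), inv_eq_of_mul_eq_one_right p.ss]
  have hyT : p.T y := ⟨hy, mul_inv_eq_iff_eq_mul.mp hys⟩
  have hsau : sa g u = u := by rw [sa, hgu, (W_lt u hu).2.2]
  obtain ⟨r, hr, hru⟩ := p.β_surj hu
  have hfr : sa (p.toCtx.m y) (p.β r) = p.β r := by rw [hru, ← hg, hsau]
  have he0 := p.c_E hyT hr hfr
  obtain ⟨vu, hvu, evu⟩ := p.π_surj u hul
  have hvA : p.A vu := p.A_of_perp hvu (by rw [evu]; exact (W_lt u hu).2.1)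
  have hvα : p.α vu = u := by rw [α, evu, (W_lt u hu).2.2]
  -- the product with the lift of the first factor
  have hxz : Commute (y * r) z := hy.mul_left hr.2
  have hmx : p.toCtx.m (y * r) = tau k := by
    rw [p.toCtx.m_mul hy hr.2, ← hg, eq, p.m_eq_rhoE hr hu hru, comm.eq, mul_assoc, rhoE_sq, mul_one]
  have hxx : y * r * (y * r) = y * r * y⁻¹ * r⁻¹ * (r * r) := by
    rw [inv_eq_of_mul_eq_one_right hyy]; group
  obtain ⟨hrr, zr, -⟩ := p.sq_zse' hr
  have hxE : p.InE (y * r * (y * r)) := by rw [hxx]; exact p.E_cases he0 _ hrr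
  have hze : p.ze (y * r * y⁻¹ * r⁻¹) = false := by
    obtain ⟨d, hd, hdk⟩ := p.toCtx.m_surj hk
    have hdi : p.toCtx.m d⁻¹ = k⁻¹ := by rw [p.toCtx.m_inv hd, hdk]
    obtain ⟨x, hx⟩ : ∃ x, x = d⁻¹ * (y * r) * d := ⟨_, rfl⟩
    have hx_z : Commute x z := hx ▸ (hd.inv_left.mul_left hxz).mul_left hd
    obtain ⟨r2, hr2, e2⟩ := p.β_surj two_one
    have hr22 : r2 * r2 = 1 := (p.β_sq hr2).mpr (by rw [e2]; decide)
    have hmx' : p.toCtx.m x = rhoE 2 two_one := by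
      rw [hx, p.toCtx.m_mul (hd.inv_left.mul_left hxz) hd, p.toCtx.m_mul hd.inv_left hxz, hdi, hdk, hmx, tau]
      group
    obtain ⟨q, hq⟩ : ∃ q, q = x * r2⁻¹ := ⟨_, rfl⟩
    have hqQ : q ∈ p.Q := by
      rw [hq]
      exact (p.toCtx.m_one_iff (hx_z.mul_left hr2.2.inv_left)).mp (by
        rw [p.toCtx.m_mul hx_z hr2.2.inv_left, p.toCtx.m_inv hr2.2, hmx', p.m_eq_rhoE hr2 two_one e2, mul_inv_cancel])
    have hxq : x = q * r2 := by rw [hq, inv_mul_cancel_right]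
    have hxx' : x * x = d⁻¹ * (y * r * (y * r)) * d⁻¹⁻¹ := by rw [hx]; group
    have hxx2 : x * x = q * (r2 * q * r2⁻¹) := by
      rw [hxq]
      calc q * r2 * (q * r2) = q * (r2 * q * r2⁻¹) * (r2 * r2) := by group
        _ = _ := by rw [hr22, mul_one]
    have hc1 : p.π (x * x) = cd k⁻¹ (bif p.se (y * r * (y * r)) then 1 else 0) := by
      rw [hxx', p.toCtx.act hd.inv_left (p.E_A hxE).1, hdi, p.se_code hxE]
    have hc2 : p.π (x * x) = rho 2 (p.π q) ^^^ p.π q := by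
      rw [hxx2, p.π_mul q hqQ _ (p.toCtx.norm hr2.2 hqQ), p.toCtx.act hr2.2 hqQ, p.m_rho hr2 _ (p.π_lt q), e2,
        Nat.xor_comm]
    have hse : p.se (y * r * (y * r)) = false := by
      cases hs : p.se (y * r * (y * r))
      · rfl
      · exfalso
        rw [hs, hc2, rho_two _ (p.π_lt q)] at hc1
        have := indep 1 (by simp) ((bif pB 1 (p.π q) then 2 else 0) ^^^ (bif pB 2 (p.π q) then 1 else 0))
          (by cases pB 1 (p.π q) <;> cases pB 2 (p.π q) <;> simp) (by rw [hc1]; exact (cd_inv' k h1).symm)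
        exact one_ne_zero this
    rw [hse, cond_false, cd_zero] at hc1
    obtain ⟨q1, q2⟩ := (rho_two_fixed (p.π_lt q)).mp (xor_eq_zero'.mp (hc2.symm.trans hc1))
    have hqA : p.A q := p.A_of_perp hqQ q1
    have hqα : pB (p.α q) 2 = false := by
      rw [α, show (2 : ℕ) = nr 2 from rfl, nr_p (p.π_lt q) (by norm_num) q1 (by decide), pB_comm]
      exact q2
    have hxsq : y * r * (y * r) = q * q := by
      have hin : p.InE (y * r * (y * r)) := hxE
      have hd' : d⁻¹ * (y * r * (y * r)) * d⁻¹⁻¹ = y * r * (y * r) := by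
        rcases (p.π_zero _ (p.E_A hin).1).mp (by rw [p.se_code hin, hse]; rfl) with e | e <;> rw [e]
        · group
        · rw [inv_inv, mul_assoc, ← hd.eq, inv_mul_cancel_left]
      rw [← hd', ← hxx', hxx2, ((p.cab_one hqA hr2 (by rw [e2]; exact hqα))).symm.eq, mul_inv_cancel_right]
    -- the pairings of the vector of the lift
    obtain ⟨a0, ha0⟩ : ∃ a, a = d⁻¹ * p.s * d⁻¹⁻¹ := ⟨_, rfl⟩
    obtain ⟨b0, hb0⟩ : ∃ b, b = d⁻¹ * vu * d⁻¹⁻¹ := ⟨_, rfl⟩
    have ha0Q : a0 ∈ p.Q := ha0 ▸ p.toCtx.norm hd.inv_left p.hs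
    have hb0Q : b0 ∈ p.Q := hb0 ▸ p.toCtx.norm hd.inv_left hvu
    have ea0 : p.π a0 = cd k⁻¹ 1 := by rw [ha0, p.toCtx.act hd.inv_left p.hs, hdi, p.πs]
    have eb0 : p.π b0 = cd k⁻¹ u := by rw [hb0, p.toCtx.act hd.inv_left hvu, hdi, evu]
    have hAa : p.A a0 := p.A_of_perp ha0Q (by rw [ea0]; exact o1)
    have hAb : p.A b0 := p.A_of_perp hb0Q (by rw [eb0]; exact o3)
    have p2 : ∀ {e : ℕ}, e < 256 → pB 1 e = false → pB 2 e = false → pB (nr e) 2 = false := fun {e} he e1 e2' => by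
      rw [show (2 : ℕ) = nr 2 from rfl, nr_p he (by norm_num) e1 (by decide), pB_comm]; exact e2'
    have ca : Commute a0 r2 := p.cab_one hAa hr2 (by rw [e2, α, ea0]; exact p2 (cd_lt _ _) o1 o2)
    have cb : Commute b0 r2 := p.cab_one hAb hr2 (by rw [e2, α, eb0]; exact p2 (cd_lt _ _) o3 o4)
    have hxs : Commute x a0 := by
      have := (Commute.conj_iff d⁻¹).mpr (hyT.2.mul_left (p.R_T hr).2)
      rwa [← ha0, inv_inv, ← hx] at this
    have cqa : Commute q a0 := by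
      rw [hq]; exact hxs.mul_left ca.symm.inv_left
    have hqb : q * b0 * q⁻¹ = b0⁻¹ := by
      have h0 : y * r * vu * (y * r)⁻¹ = vu⁻¹ := by
        have hc := p.cab_one hvA hr (by rw [hvα, hru, pB_self])
        rw [show y * r * vu * (y * r)⁻¹ = y * (r * vu * r⁻¹) * y⁻¹ by group, hc.symm.eq, mul_inv_cancel_right]
        exact p.inverts hy hyy hvu (by rw [evu, ← hg]; exact iu)
      have hx0 : x * b0 * x⁻¹ = b0⁻¹ := by
        rw [hx, hb0, show d⁻¹ * (y * r) * d * (d⁻¹ * vu * d⁻¹⁻¹) * (d⁻¹ * (y * r) * d)⁻¹ =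
          d⁻¹ * (y * r * vu * (y * r)⁻¹) * d by group, h0]
        group
      rw [hq, show x * r2⁻¹ * b0 * (x * r2⁻¹)⁻¹ = x * (r2⁻¹ * b0 * r2) * x⁻¹ by group, mul_assoc r2⁻¹, cb.eq,
        inv_mul_cancel_left]
      exact hx0
    have hαb : pB (p.α q) (p.α b0) = qB (p.α b0) := by
      have hiff : Commute q b0 ↔ b0 * b0 = 1 := by
        constructor
        · intro h
          rw [h.eq, mul_inv_cancel_right] at hqb
          exact eq_inv_iff_mul_eq_one.mp hqb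
        · intro h
          rw [← eq_inv_of_mul_eq_one_left h] at hqb
          exact mul_inv_eq_iff_eq_mul.mp hqb
      rw [p.α_comm hqA hAb, p.α_sq hAb] at hiff
      revert hiff
      cases pB (p.α q) (p.α b0) <;> cases qB (p.α b0) <;> simp
    have small : ∀ {e : ℕ}, e < 256 → pB 1 e = false → nr e ∈ [0, 2] → e ∈ [0, 1, 2, 3] := fun {e} he hp hm => by
      simp only [List.mem_cons, List.not_mem_nil, or_false] at hm ⊢
      rcases nr_split he hp with h | h <;> rcases hm with h' | h' <;> rw [h, h'] <;> simp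
    have nota : p.α a0 ∉ [0, 2] := fun hm => by
      have := indep 1 (by simp) _ (small (cd_lt _ _) o1 (by rw [← ea0]; exact hm)) (cd_inv' k h1).symm
      exact one_ne_zero this
    have u01 : ∀ c : Bool, u ^^^ (bif c then 1 else 0) ≠ 0 := fun c e => by
      have e' := xor_eq_zero'.mp e
      cases c
      · exact u0 e'
      · have := (W_lt u hu).2.2
        rw [e', cond_true] at this
        exact absurd this (by decide)
    have notb : p.α b0 ∉ [0, 2, p.α a0, 2 ^^^ p.α a0] := fun hm => by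
      have hsum : ∃ c : Bool, nr (cd k⁻¹ (u ^^^ (bif c then 1 else 0))) ∈ [0, 2] := by
        simp only [List.mem_cons, List.not_mem_nil, or_false, α, eb0, ea0] at hm
        rcases hm with h | h | h | h
        · exact ⟨false, by simp [h]⟩
        · exact ⟨false, by simp [h]⟩
        · exact ⟨true, by simp [cd_xor, nr_xor, h]⟩
        · exact ⟨true, by simp [cd_xor, nr_xor, h]⟩
      obtain ⟨c, hcm⟩ := hsum
      have hcl : u ^^^ (bif c then 1 else 0) < 256 := xor_lt hul (by cases c <;> norm_num)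
      have hcp : pB 1 (cd k⁻¹ (u ^^^ (bif c then 1 else 0))) = false := by
        rw [cd_xor, pB_add_right (cd_lt _ _) (cd_lt _ _) h1, o3, cd_bif]
        cases c
        · rw [cond_false, pB_comm, pB_zero]; rfl
        · rw [cond_true, o1]; rfl
      have := indep (u ^^^ (bif c then 1 else 0)) (by cases c <;> simp) _ (small (cd_lt _ _) hcp hcm) (cd_inv' k hcl).symm
      exact u01 c this
    have hAB : pB (p.α a0) (p.α b0) = false := by
      rw [α, α, ea0, eb0, nr_p (cd_lt _ _) (cd_lt _ _) o1 o3, cd_p _ h1 hul]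
      exact (W_lt u hu).2.1
    have fa : p.α a0 ∈ W.filter fun x => !pB 2 x && !qB x := by
      rw [List.mem_filter]
      refine ⟨p.α_mem a0, ?_⟩
      rw [α, ea0, pB_comm, p2 (cd_lt _ _) o1 o2, (nr_facts _ (cd_lt _ _) o1).2, cd_q _ h1]
      decide
    have fb : p.α b0 ∈ W.filter fun x => !pB 2 x && !pB (p.α a0) x := by
      rw [List.mem_filter]
      refine ⟨p.α_mem b0, ?_⟩
      rw [hAB, α, eb0, pB_comm, p2 (cd_lt _ _) o3 o4]
      rfl
    have hq0 : qB (p.α q) = false :=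
      alpha_check _ fa nota _ fb notb _ (p.α_mem q) ((p.α_comm hqA hAa).mp cqa) hqα hαb
    have hz2 := congrArg p.ze hxx
    rw [hxsq, (p.sq_zse hqA).2.1, hq0, (p.mul_zse he0 hrr).1, zr, Bool.xor_false] at hz2
    exact hz2.symm
  -- the fixed vectors of the section
  have hk1 : pB 1 (cd k 1) = false := by
    rw [← cd_p k⁻¹ h1 (cd_lt _ _), cd_inv k h1, pB_comm]; exact o1
  have hk2 : pB 1 (cd k 2) = false := by
    rw [← cd_p k⁻¹ h1 (cd_lt _ _), cd_inv k (by norm_num), pB_comm]; exact o2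
  have hku1 : pB u (cd k 1) = false := by
    rw [← cd_p k⁻¹ hul (cd_lt _ _), cd_inv k h1, pB_comm]; exact o3
  have hku2 : pB u (cd k 2) = false := by
    rw [← cd_p k⁻¹ hul (cd_lt _ _), cd_inv k (by norm_num), pB_comm]; exact o4
  have hgn : ∀ {n : ℕ}, n < 256 → pB 1 (cd (tau k) n) = false → sa g n = nr (cd (tau k) n) := fun {n} hn hp => by
    rw [sa, eq, cd_mul, cd_rhoE hu (cd_lt _ _)]
    have h := rho_shift u hu _ (cd_lt (tau k) n) hp
    have e : nr (rho u (cd (tau k) n) ^^^ cd (tau k) n) = 0 := by rw [h]; cases pB _ u <;> rfl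
    rw [nr_xor] at e
    exact xor_eq_zero'.mp e
  have htau : ∀ {n : ℕ}, n < 256 → br (tau k) n = cd k (rho 2 (cd k⁻¹ n) ^^^ cd k⁻¹ n) := fun {n} hn => by
    rw [tau, br_conj _ _ hn, br, cd_rhoE two_one (cd_lt _ _)]
  obtain ⟨T1, hT1⟩ : ∃ t, t = nr (cd k 1) := ⟨_, rfl⟩
  obtain ⟨T2, hT2⟩ : ∃ t, t = nr (cd k 2) := ⟨_, rfl⟩
  have T1W : T1 ∈ W := hT1 ▸ nr_mem _ (cd_lt _ _)
  have T2W : T2 ∈ W := hT2 ▸ nr_mem _ (cd_lt _ _)
  have hun : nr u = u := (W_lt u hu).2.2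
  have p12 : pB T1 T2 = false := by
    rw [hT1, hT2, nr_p (cd_lt _ _) (cd_lt _ _) hk1 hk2, cd_p _ h1 (by norm_num)]; decide
  have p1u : pB T1 u = false := by
    conv_lhs => rw [hT1, ← hun]
    rw [nr_p (cd_lt _ _) hul hk1 (W_lt u hu).2.1, pB_comm]; exact hku1
  have p2u : pB T2 u = false := by
    conv_lhs => rw [hT2, ← hun]
    rw [nr_p (cd_lt _ _) hul hk2 (W_lt u hu).2.1, pB_comm]; exact hku2
  -- independence
  have ind : ∀ a b c : Bool, (bif a then T1 else 0) ^^^ (bif b then T2 else 0) ^^^ (bif c then u else 0) = 0 →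
      a = false ∧ b = false ∧ c = false := by
    intro a b c e
    obtain ⟨j, hj⟩ : ∃ j, j = (bif a then 1 else 0) ^^^ (bif b then 2 else 0) := ⟨_, rfl⟩
    have hjl : j ∈ [0, 1, 2, 3] := by rw [hj]; cases a <;> cases b <;> simp
    have hj' : j < 256 := (by decide : ∀ j ∈ [0, 1, 2, 3], j < 256) j hjl
    have hcj : cd k j = (bif a then cd k 1 else 0) ^^^ (bif b then cd k 2 else 0) := by rw [hj, cd_xor, cd_bif, cd_bif]
    have hb : ∀ (c : Bool) (v : ℕ), nr (bif c then v else 0) = bif c then nr v else 0 := fun c v => by cases c <;> simp [nr]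
    have h0 : nr (cd k j ^^^ (bif c then u else 0)) = 0 := by
      rw [hcj, nr_xor, nr_xor, hb, hb, hb, hun, ← hT1, ← hT2]; exact e
    have hp : pB 1 (cd k j ^^^ (bif c then u else 0)) = false := by
      have hcu : (bif c then u else 0) < 256 := by cases c <;> simp [hul]
      rw [pB_add_right (cd_lt _ _) hcu h1, hcj, pB_add_right (by cases a <;> simp [cd_lt]) (by cases b <;> simp [cd_lt]) h1]
      have z0 : pB 1 0 = false := by rw [pB_comm, pB_zero]
      cases a <;> cases b <;> cases c <;> simp [hk1, hk2, (W_lt u hu).2.1, z0]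
    have hcu : (bif c then u else 0) < 256 := by cases c <;> simp [hul]
    obtain ⟨i, hi, hie⟩ : ∃ i ∈ [0, 1, u, u ^^^ 1], i = cd k j ∧ (i = 0 → c = false) := by
      have u1 := u01' u hu u0
      rcases low_code _ (xor_lt (cd_lt _ _) hcu) hp h0 with e' | e'
      · refine ⟨bif c then u else 0, by cases c <;> simp, (xor_eq_zero'.mp e').symm, fun h => ?_⟩
        cases c
        · rfl
        · exact absurd h u0
      · refine ⟨(bif c then u else 0) ^^^ 1, by cases c <;> simp, ?_, fun h => ?_⟩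
        · rw [← e', Nat.xor_left_comm, Nat.xor_self, Nat.xor_zero]
        · cases c
          · rfl
          · exact absurd h u1
    have hi0 := indep i hi j hjl hie.1
    have hj0 : j = 0 := cd_inj k hj' (by norm_num) (by rw [← hie.1, hi0, cd_zero])
    refine ⟨?_, ?_, hie.2 hi0⟩ <;> revert hj0 <;> rw [hj] <;> cases a <;> cases b <;> simp
  have T10 : T1 ≠ 0 := fun e => by simpa using (ind true false false (by simp [e])).1
  have T20 : T2 ≠ 0 := fun e => by simpa using (ind false true false (by simp [e])).2.1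
  have T21 : T2 ≠ T1 := fun e => by simpa using (ind true true false (by simp [e])).1
  have huT : u ∉ [0, T1, T2, T1 ^^^ T2] := by
    intro hm
    simp only [List.mem_cons, List.not_mem_nil, or_false] at hm
    rcases hm with e | e | e | e
    · exact u0 e
    · simpa using (ind true false true (by simp [e])).1
    · simpa using (ind false true true (by simp [e])).2.1
    · simpa using (ind true true true (by simp [e])).1
  obtain ⟨e, heW, e1, e2', e3⟩ := perp_three' T1W T2W hu p12 p1u p2u T10 T20 T21 huT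
  have hfix : ∀ {w : ℕ}, w ∈ W → pB T1 w = false → pB T2 w = false → sa g w = w := fun {w} hw w1 w2 => by
    obtain ⟨hwl, hwp, hwn⟩ := W_lt w hw
    have htw : cd (tau k) w = w := by
      rw [← br_eq_zero, htau hwl, (rho_two_fixed (cd_lt _ _)).mpr ⟨?_, ?_⟩, Nat.xor_self, cd_zero]
      · rw [← cd_p k h1 (cd_lt _ _), cd_inv' k hwl, ← w1, hT1]
        conv_rhs => rw [← hwn]
        exact (nr_p (cd_lt _ _) hwl hk1 hwp).symm
      · rw [← cd_p k (by norm_num : 2 < 256) (cd_lt _ _), cd_inv' k hwl, ← w2, hT2]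
        conv_rhs => rw [← hwn]
        exact (nr_p (cd_lt _ _) hwl hk2 hwp).symm
    rw [hgn hwl (by rw [htw]; exact hwp), htw, hwn]
  have fT1 : sa g T1 = T1 := hfix T1W (pB_self T1) (by rw [pB_comm]; exact p12)
  have fT2 : sa g T2 = T2 := hfix T2W p12 (pB_self T2)
  have fe : sa g e = e := hfix heW e1 e2'
  obtain ⟨r1, hr1, er1⟩ := p.β_surj T1W
  obtain ⟨r2, hr2, er2⟩ := p.β_surj T2W
  obtain ⟨re, hre, ere⟩ := p.β_surj heW
  have hpa : cd k⁻¹ 1 ∉ [0, 1, 2, 3] := fun hm => one_ne_zero (indep 1 (by simp) _ hm (cd_inv' k h1).symm)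
  have change : ∀ a b : Bool, ∀ r', p.R r' → p.β r' = nr (cd k ((bif a then 2 else 0) ^^^ (bif b then 1 else 0))) →
      sa g (p.β r') = p.β r' → p.Good y r' := by
    intro a b r' hr' eb hf
    obtain ⟨n', hn', n1, n2, n3⟩ := point_partner _ (cd_lt _ _) hpa a b
    have hnp : pB 1 (cd k n') = false := by
      rw [← cd_p k⁻¹ h1 (cd_lt _ _), cd_inv k hn']; exact n3
    refine p.good_change hyT hyy hr' (by rw [← hg]; exact hf) (cd_lt k n') hnp ?_
    have hbt : br (tau k) (cd k n') = cd k ((bif a then 2 else 0) ^^^ (bif b then 1 else 0)) := by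
      rw [htau (cd_lt _ _), cd_inv k hn', rho_two n' hn', n1, n2]
    have hpb : pB 1 (cd (tau k) (cd k n')) = false := by
      have : cd (tau k) (cd k n') = br (tau k) (cd k n') ^^^ cd k n' := by
        rw [br, Nat.xor_assoc, Nat.xor_self, Nat.xor_zero]
      rw [this, hbt, pB_add_right (cd_lt _ _) (cd_lt _ _) h1, hnp]
      have z0 : pB 1 0 = false := by rw [pB_comm, pB_zero]
      have h3 : pB 1 (cd k 3) = false := by
        rw [show (3 : ℕ) = 2 ^^^ 1 from rfl, cd_xor, pB_add_right (cd_lt _ _) (cd_lt _ _) h1, hk1, hk2]; rfl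
      cases a <;> cases b <;> simp [cd_zero, hk1, hk2, h3, z0]
    rw [← hg, eb, br, nr_xor, show nr (cd g (cd k n')) = nr (cd (tau k) (cd k n')) from hgn (cd_lt _ _) hpb, ← nr_xor,
      ← hbt, br]
  have G1 : p.Good y r1 := change false true r1 hr1 (by simp [er1, hT1]) (by rw [er1]; exact fT1)
  have G2 : p.Good y r2 := change true false r2 hr2 (by simp [er2, hT2]) (by rw [er2]; exact fT2)
  have Gu : p.Good y r := ⟨he0, hze⟩
  -- adjust by a conjugation
  obtain ⟨y', hy'T, hm', hcj, K1, K2, Ku, Ke⟩ : ∃ y', p.T y' ∧ p.toCtx.m y' = g ∧ IsConj y y' ∧ p.Good y' r1 ∧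
      p.Good y' r2 ∧ p.Good y' r ∧ p.Good y' re := by
    have hEe := p.c_E hyT hre (by rw [← hg, ere]; exact fe)
    cases hzc : p.ze (y * re * y⁻¹ * re⁻¹)
    · exact ⟨y, hyT, hg.symm, IsConj.refl y, G1, G2, Gu, hEe, hzc⟩
    obtain ⟨n', hn', hne'⟩ := mem_imgSet.mp iu
    obtain ⟨v, hv, ev⟩ := p.π_surj n' hn'
    obtain ⟨b, hb⟩ : ∃ b, b = v * (y * v⁻¹ * y⁻¹) := ⟨_, rfl⟩
    have hbQ : b ∈ p.Q := hb ▸ mul_mem hv (p.toCtx.norm hy (inv_mem hv))
    have ebπ : p.π b = u := by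
      rw [hb, p.π_mul v hv _ (p.toCtx.norm hy (inv_mem hv)), p.toCtx.act hy (inv_mem hv), p.toCtx.pi_inv hv, ev,
        ← hg, Nat.xor_comm, ← br, hne']
    have hbA : p.A b := p.A_of_perp hbQ (by rw [ebπ]; exact (W_lt u hu).2.1)
    have hbα : p.α b = u := by rw [α, ebπ, hun]
    have hy' : v * y * v⁻¹ = b * y := by rw [hb]; group
    have hT : p.T (b * y) := p.T_mul (p.A_T hbA) hyT
    have key : ∀ r', p.R r' → p.InE (y * r' * y⁻¹ * r'⁻¹) → p.InE (b * y * r' * (b * y)⁻¹ * r'⁻¹) ∧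
        p.ze (b * y * r' * (b * y)⁻¹ * r'⁻¹) = (p.ze (y * r' * y⁻¹ * r'⁻¹) ^^ pB u (p.β r')) := by
      intro r' hr' hE
      have hc := p.E_central hE (p.A_T hbA)
      have e : b * y * r' * (b * y)⁻¹ * r'⁻¹ = y * r' * y⁻¹ * r'⁻¹ * cab b r' := by
        calc b * y * r' * (b * y)⁻¹ * r'⁻¹ = b * (y * r' * y⁻¹ * r'⁻¹) * (r' * b⁻¹ * r'⁻¹) := by group
          _ = _ := by rw [hc.eq, cab]; group
      rw [e]
      exact ⟨p.E_cases hE _ (p.cab_E hbA hr'),
        by rw [(p.mul_zse hE (p.cab_E hbA hr')).1, p.cab_ze hbA hr', hbα]⟩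
    refine ⟨b * y, hT, ?_, isConj_iff.mpr ⟨v, hy'⟩, ?_, ?_, ?_, ?_⟩
    · rw [p.toCtx.m_mul (p.A_T hbA).1 hy, (p.toCtx.m_one_iff (p.A_T hbA).1).mpr hbQ, one_mul, hg]
    · exact ⟨(key r1 hr1 G1.1).1, by rw [(key r1 hr1 G1.1).2, G1.2, er1, pB_comm, p1u]; rfl⟩
    · exact ⟨(key r2 hr2 G2.1).1, by rw [(key r2 hr2 G2.1).2, G2.2, er2, pB_comm, p2u]; rfl⟩
    · exact ⟨(key r hr he0).1, by rw [(key r hr he0).2, hze, hru, pB_self]; rfl⟩
    · exact ⟨(key re hre hEe).1, by rw [(key re hre hEe).2, hzc, ere, e3]; rfl⟩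
  obtain ⟨y2, hy2⟩ : ∃ x, x = p.k⁻¹ * y' * p.k := ⟨_, rfl⟩
  have hy2z : Commute y2 z := by
    have := (Commute.conj_iff p.k⁻¹).mpr hy'T.2
    rwa [inv_inv, p.kinv_s, ← hy2] at this
  have hy2s : Commute y2 p.s := by
    have := (Commute.conj_iff p.k⁻¹).mpr hy'T.1
    rwa [inv_inv, p.kinv_z, ← hy2] at this
  refine ⟨y2, hy2z, hcj.trans (isConj_iff.mpr ⟨p.k⁻¹, by rw [hy2, inv_inv]⟩), ?_⟩
  let R4 : Bool × Bool × Bool × Bool → G := fun x =>
    (bif x.1 then r1 else 1) * (bif x.2.1 then r2 else 1) * (bif x.2.2.1 then r else 1) * (bif x.2.2.2 then re else 1)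
  have hone : p.Good y' 1 := ⟨by rw [mul_one, mul_inv_cancel, inv_one, mul_one]; exact Or.inl rfl,
    by rw [mul_one, mul_inv_cancel, inv_one, mul_one]; exact p.zse.1.1⟩
  have hR1 : p.R 1 := p.E_R (Or.inl rfl)
  have bc : ∀ (c : Bool) {x : G}, p.R x → p.Good y' x → p.R (bif c then x else 1) ∧ p.Good y' (bif c then x else 1) ∧
      p.β (bif c then x else 1) = bif c then p.β x else 0 := by
    intro c x hx hgx; cases c
    · exact ⟨hR1, hone, p.β_E (Or.inl rfl)⟩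
    · exact ⟨hx, hgx, rfl⟩
  have hR4 : ∀ x, p.R (R4 x) ∧ p.Good y' (R4 x) ∧ p.β (R4 x) = comb T1 T2 u e x := by
    intro x
    obtain ⟨a1, a2, a3⟩ := bc x.1 hr1 K1
    obtain ⟨b1, b2, b3⟩ := bc x.2.1 hr2 K2
    obtain ⟨c1, c2, c3⟩ := bc x.2.2.1 hr Ku
    obtain ⟨d1, d2, d3⟩ := bc x.2.2.2 hre Ke
    refine ⟨p.R_mul (p.R_mul (p.R_mul a1 b1) c1) d1,
      p.good_mul (p.R_mul (p.R_mul a1 b1) c1) (p.good_mul (p.R_mul a1 b1) (p.good_mul a1 a2 b2) c2) d2, ?_⟩
    show p.β ((bif x.1 then r1 else 1) * _ * _ * _) = _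
    rw [p.β_mul (p.R_mul (p.R_mul a1 b1) c1) d1, p.β_mul (p.R_mul a1 b1) c1, p.β_mul a1 b1, a3, b3, c3, d3, er1, er2,
      hru, ere]
    rfl
  have comb_inj : Function.Injective (comb T1 T2 u e) := fun x x' h => by
    have h0 : comb T1 T2 u e (x.1 ^^ x'.1, x.2.1 ^^ x'.2.1, x.2.2.1 ^^ x'.2.2.1, x.2.2.2 ^^ x'.2.2.2) = 0 := by
      rw [comb_xor, h, Nat.xor_self]
    have hd : (x.2.2.2 ^^ x'.2.2.2) = false := by
      cases hc : (x.2.2.2 ^^ x'.2.2.2)
      · rfl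
      · exfalso
        rw [hc] at h0
        simp only [comb, cond_true] at h0
        have he' := (xor_eq_zero'.mp h0).symm
        have hb : ∀ c : Bool, ∀ v ∈ [T1, T2, u], (bif c then v else 0) < 256 ∧ pB u (bif c then v else 0) = false := by
          intro c v hv; cases c
          · exact ⟨by simp, by rw [cond_false, pB_comm, pB_zero]⟩
          · simp only [List.mem_cons, List.not_mem_nil, or_false] at hv
            rcases hv with rfl | rfl | rfl
            · exact ⟨(W_lt _ T1W).1, by rw [cond_true, pB_comm]; exact p1u⟩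
            · exact ⟨(W_lt _ T2W).1, by rw [cond_true, pB_comm]; exact p2u⟩
            · exact ⟨hul, pB_self _⟩
        obtain ⟨l1, m1⟩ := hb (x.1 ^^ x'.1) T1 (by simp)
        obtain ⟨l2, m2⟩ := hb (x.2.1 ^^ x'.2.1) T2 (by simp)
        obtain ⟨l3, m3⟩ := hb (x.2.2.1 ^^ x'.2.2.1) u (by simp)
        rw [he', pB_add_right (xor_lt l1 l2) l3 hul, pB_add_right l1 l2 hul, m1, m2, m3] at e3
        exact Bool.false_ne_true e3
    rw [hd] at h0
    simp only [comb, cond_false, Nat.xor_zero] at h0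
    obtain ⟨i1, i2, i3⟩ := ind _ _ _ h0
    obtain ⟨a, b, c, d⟩ := x
    obtain ⟨a', b', c', d'⟩ := x'
    have hx : ∀ p q : Bool, (p ^^ q) = false → p = q := by decide
    exact Prod.ext (hx _ _ i1) (Prod.ext (hx _ _ i2) (Prod.ext (hx _ _ i3) (hx _ _ hd)))
  let F : (Bool × Bool × Bool × Bool) × Bool → ℕ := fun x =>
    p.π (p.k⁻¹ * R4 x.1 * p.k) ^^^ (bif x.2 then 1 else 0)
  have hA' : ∀ x, p.A (p.k⁻¹ * R4 x * p.k) := fun x => p.R_conj.mp (hR4 x).1
  have hFfix : ∀ x ∈ (Finset.univ : Finset ((Bool × Bool × Bool × Bool) × Bool)), F x ∈ fixSet (p.toCtx.m y2) := by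
    intro x _
    have hA := hA' x.1
    have hone' : cd (p.toCtx.m y2) 1 = 1 := p.T_fix ⟨hy2z, hy2s⟩
    refine mem_fixSet.mpr ⟨xor_lt (p.π_lt _) (by cases x.2 <;> norm_num), ?_⟩
    show cd (p.toCtx.m y2) (p.π (p.k⁻¹ * R4 x.1 * p.k) ^^^ _) = p.π (p.k⁻¹ * R4 x.1 * p.k) ^^^ _
    rw [cd_xor, cd_bif, hone', ← p.toCtx.act hy2z hA.1]
    congr 1
    obtain ⟨hc, hcz⟩ := (hR4 x.1).2.1
    have hk' : p.InE (p.k⁻¹ * (y' * R4 x.1 * y'⁻¹ * (R4 x.1)⁻¹) * p.k) ∧
        p.se (p.k⁻¹ * (y' * R4 x.1 * y'⁻¹ * (R4 x.1)⁻¹) * p.k) = false := by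
      obtain ⟨⟨z1, t1⟩, ⟨z2, t2⟩, ⟨z3, t3⟩, ⟨z4, t4⟩⟩ := p.zse
      rcases hc with e' | e' | e' | e' <;> rw [e'] at hcz ⊢
      · rw [mul_one, inv_mul_cancel]; exact ⟨Or.inl rfl, t1⟩
      · rw [z2] at hcz; exact absurd hcz (by decide)
      · rw [p.kinv_s]; exact ⟨Or.inr (Or.inl rfl), t2⟩
      · rw [z4] at hcz; exact absurd hcz (by decide)
    have e' : y2 * (p.k⁻¹ * R4 x.1 * p.k) * y2⁻¹ =
        p.k⁻¹ * (y' * R4 x.1 * y'⁻¹ * (R4 x.1)⁻¹) * p.k * (p.k⁻¹ * R4 x.1 * p.k) := by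
      rw [hy2]; group
    rw [e', p.π_mul _ (p.E_A hk'.1).1 _ hA.1, p.se_code hk'.1, hk'.2]
    exact Nat.zero_xor _
  have hFinj : Set.InjOn F (Finset.univ : Finset ((Bool × Bool × Bool × Bool) × Bool)) := by
    intro x _ x' _ h
    have hR := p.R_mul (p.R_inv (hR4 x.1).1) (hR4 x'.1).1
    have hA := p.R_conj.mp hR
    have hπ : p.π (p.k⁻¹ * ((R4 x.1)⁻¹ * R4 x'.1) * p.k) = (bif x.2 then 1 else 0) ^^^ (bif x'.2 then 1 else 0) := by
      rw [show p.k⁻¹ * ((R4 x.1)⁻¹ * R4 x'.1) * p.k = (p.k⁻¹ * R4 x.1 * p.k)⁻¹ * (p.k⁻¹ * R4 x'.1 * p.k) by group,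
        p.π_mul _ (inv_mem (hA' _).1) _ (hA' _).1, p.toCtx.pi_inv (hA' _).1]
      have h' : p.π (p.k⁻¹ * R4 x.1 * p.k) ^^^ (bif x.2 then 1 else 0) =
          p.π (p.k⁻¹ * R4 x'.1 * p.k) ^^^ (bif x'.2 then 1 else 0) := h
      exact xor_swap _ _ _ _ h'
    have hE : p.InE ((R4 x.1)⁻¹ * R4 x'.1) := by
      have := p.E_conj_k (p.α_zero hA (by rw [α, hπ]; cases x.2 <;> cases x'.2 <;> rfl))
      rwa [show p.k * (p.k⁻¹ * ((R4 x.1)⁻¹ * R4 x'.1) * p.k) * p.k⁻¹ = (R4 x.1)⁻¹ * R4 x'.1 by group] at this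
    have hb : p.β (R4 x.1) = p.β (R4 x'.1) := by
      have := p.β_mul (hR4 x.1).1 (p.E_R hE)
      rwa [mul_inv_cancel_left, p.β_E hE, Nat.xor_zero, eq_comm] at this
    rw [(hR4 x.1).2.2, (hR4 x'.1).2.2] at hb
    have hx1 := comb_inj hb
    refine Prod.ext hx1 ?_
    rw [hx1, inv_mul_cancel, mul_one, inv_mul_cancel, p.toCtx.pi_one] at hπ
    revert hπ
    cases x.2 <;> cases x'.2 <;> simp
  have hcard := Finset.card_le_card_of_injOn F hFfix hFinj
  rw [Finset.card_univ] at hcard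
  simp only [Fintype.card_prod, Fintype.card_bool] at hcard
  omega

/-- Every involution of the centralizer is conjugate to one in `Q` or one acting as a radical element. -/
theorem to_radical {y : G} (hy : Commute y z) (hyy : y * y = 1) : ∃ y', Commute y' z ∧ y' * y' = 1 ∧ IsConj y y' ∧
    (y' ∈ p.Q ∨ ∃ h ∈ Om, ∃ w, ∃ hw : w ∈ W, w ≠ 0 ∧ h * p.toCtx.m y' * h⁻¹ = rhoE w hw) := by
  have sq : ∀ {a b : G}, IsConj a b → a * a = 1 → b * b = 1 := fun {a b} h ha => by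
    obtain ⟨c, rfl⟩ := isConj_iff.mp h
    rw [show c * a * c⁻¹ * (c * a * c⁻¹) = c * (a * a) * c⁻¹ by group, ha, mul_one, mul_inv_cancel]
  have big : ∀ {x : G}, Commute x z → x * x = 1 → 16 < (fixSet (p.toCtx.m x)).card →
      x ∈ p.Q ∨ ∃ h ∈ Om, ∃ w, ∃ hw : w ∈ W, w ≠ 0 ∧ h * p.toCtx.m x * h⁻¹ = rhoE w hw := by
    intro x hx hxx hc
    have hgg : p.toCtx.m x * p.toCtx.m x = 1 := by rw [← p.toCtx.m_mul hx hx, hxx, p.toCtx.m_one]
    rcases fix_cases (p.toCtx.m_mem hx) hgg with e | e | e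
    · omega
    · exact Or.inr (inv_rad hgg e)
    · exact Or.inl ((p.toCtx.m_one_iff hx).mp (fix_all e))
  have hgg : p.toCtx.m y * p.toCtx.m y = 1 := by rw [← p.toCtx.m_mul hy hy, hyy, p.toCtx.m_one]
  rcases fix_cases (p.toCtx.m_mem hy) hgg with e | e | e
  · obtain ⟨S⟩ := exists_split (p.toCtx.m_mem hy) hgg e
    obtain ⟨d, hd, hdm⟩ := p.toCtx.m_surj S.h_mem
    have hy1 : Commute (d * y * d⁻¹) z := (hd.mul_left hy).mul_left hd.inv_left
    have hm : p.toCtx.m (d * y * d⁻¹) = S.h * p.toCtx.m y * S.h⁻¹ := by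
      rw [p.toCtx.m_mul (hd.mul_left hy) hd.inv_left, p.toCtx.m_mul hd hy, p.toCtx.m_inv hd, hdm]
    have hcj : IsConj y (d * y * d⁻¹) := isConj_iff.mpr ⟨d, rfl⟩
    obtain ⟨y', hy', hc', hf⟩ := p.split_case hy1 (sq hcj hyy) S.u S.hu S.u0 S.k S.k_mem (hm.trans S.eq) S.comm
      S.one_one S.two_one' S.one_u S.two_u S.indep (by rw [hm]; exact S.img_one) (by rw [hm]; exact S.img_u)
    have hyy' := sq (hcj.trans hc') hyy
    exact ⟨y', hy', hyy', hcj.trans hc', big hy' hyy' hf⟩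
  all_goals exact ⟨y, hy, hyy, IsConj.refl y, big hy hyy (by omega)⟩

end Pt

end Cfsg.Lib.ConwayType
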