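import Cfsg.Agent.ConwayType.Split
import Cfsg.Agent.ConwayType.Setting

/-!
The centralizer of a pair of commuting conjugates `z`, `s` with `s` in the extraspecial subgroup at `z`.
-/

set_option autoImplicit false
set_option maxRecDepth 100000
set_option maxHeartbeats 1000000
set_option linter.unusedSectionVars false
set_option linter.style.haveILetI false

namespace Cfsg.Lib.ConwayType

open Subgroup Cfsg.Lib.ConwayType.Code
open Cfsg.Lib.LargeExtra (X2 mem_map_conj mem_conj_of_mem mem_zpowers_two)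
open scoped commutatorElement

universe u

variable {G : Type u} [Group G] [Finite G] {z : G}

namespace Ctx

variable (c : Ctx z)

theorem mem_C {x : G} : x ∈ centralizer ({z} : Set G) ↔ Commute x z := mem_centralizer_singleton_iff

theorem q_C {q : G} (hq : q ∈ c.Q) : q ∈ centralizer ({z} : Set G) := mem_C.mpr (c.X.central q hq)

/-- The image of an element commuting with `z`. -/
noncomputable def m (x : G) : O8 :=
  @dite O8 (x ∈ centralizer ({z} : Set G)) (Classical.propDecidable _) (fun h => c.μ ⟨x, h⟩) fun _ => 1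

theorem m_mul {x y : G} (hx : Commute x z) (hy : Commute y z) : c.m (x * y) = c.m x * c.m y := by
  classical
  rw [m, m, m, dif_pos (mem_C.mpr hx), dif_pos (mem_C.mpr hy), dif_pos (mem_C.mpr (hx.mul_left hy)), ← map_mul]
  rfl

theorem m_one_iff {x : G} (hx : Commute x z) : c.m x = 1 ↔ x ∈ c.Q := by
  classical
  rw [m, dif_pos (mem_C.mpr hx)]; exact c.ker _

theorem m_one : c.m 1 = 1 := (c.m_one_iff (Commute.one_left z)).mpr (one_mem _)

theorem m_inv {x : G} (hx : Commute x z) : c.m x⁻¹ = (c.m x)⁻¹ := by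
  refine eq_inv_of_mul_eq_one_left ?_
  rw [← c.m_mul hx.inv_left hx, inv_mul_cancel, m_one]

theorem m_mem {x : G} (hx : Commute x z) : c.m x ∈ Om := by
  classical
  rw [m, dif_pos (mem_C.mpr hx), ← c.rng]; exact ⟨_, rfl⟩

theorem m_surj {h : O8} (hh : h ∈ Om) : ∃ x, Commute x z ∧ c.m x = h := by
  classical
  obtain ⟨x, rfl⟩ := (c.rng ▸ hh : h ∈ c.μ.range)
  exact ⟨x, mem_C.mp x.2, by rw [m, dif_pos x.2]⟩

theorem norm {x q : G} (hx : Commute x z) (hq : q ∈ c.Q) : x * q * x⁻¹ ∈ c.Q :=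
  (mem_normalizer_iff.mp (c.nQ (mem_C.mpr hx)) q).mp hq

theorem act {x q : G} (hx : Commute x z) (hq : q ∈ c.Q) : c.π (x * q * x⁻¹) = cd (c.m x) (c.π q) := by
  classical
  rw [m, dif_pos (mem_C.mpr hx)]; exact c.π_act ⟨x, mem_C.mpr hx⟩ q hq

theorem pi_one : c.π 1 = 0 := (c.π_zero 1 (one_mem _)).mpr (Or.inl rfl)

theorem pi_z : c.π z = 0 := (c.π_zero z c.X.mem).mpr (Or.inr rfl)

theorem pi_inv {q : G} (hq : q ∈ c.Q) : c.π q⁻¹ = c.π q := by
  have h := c.π_mul q hq q⁻¹ (inv_mem hq)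
  rw [mul_inv_cancel, pi_one] at h
  exact (xor_eq_zero'.mp h.symm).symm

theorem pi_eq {a b : G} (ha : a ∈ c.Q) (hb : b ∈ c.Q) (h : c.π a = c.π b) : a = b ∨ a = z * b := by
  have h2 := (c.π_zero _ (mul_mem ha (inv_mem hb))).mp (by rw [c.π_mul _ ha _ (inv_mem hb), c.pi_inv hb, h, Nat.xor_self])
  rcases h2 with e | e
  · exact Or.inl (mul_inv_eq_one.mp e)
  · exact Or.inr (mul_inv_eq_iff_eq_mul.mp e)

theorem card_Q : 8 < Nat.card c.Q := by rw [c.card]; norm_num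

end Ctx

/-- A commuting conjugate of `z` in `Q` with an element exchanging the two. -/
structure Pt (z : G) extends Ctx z where
  s : G
  hs : s ∈ Q
  πs : π s = 1
  k : G
  kz : k * z * k⁻¹ = s
  ks : k * s * k⁻¹ = z

namespace Ctx

variable (c : Ctx z)

theorem conj_to_code {x y : G} (hx : x ∈ c.Q) (hy : y ∈ c.Q) (hy0 : c.π y ≠ 0) (h : c.π x = c.π y) :
    ∃ q ∈ c.Q, q * y * q⁻¹ = x := by
  rcases c.pi_eq hx hy h with e | e
  · exact ⟨1, one_mem _, by rw [e]; simp⟩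
  · obtain ⟨q, hq, hqy⟩ := c.X.exists_swap hy fun hm => hy0 (by
      rcases (mem_zpowers_two c.X.zz).mp hm with r | r <;> rw [r]
      · exact c.pi_one
      · exact c.pi_z)
    exact ⟨q, hq, by rw [hqy, e]⟩

theorem exists_pt_ctx (c : Ctx z) : ∃ p : Pt z, p.toCtx = c := by
  obtain ⟨g, hgQ, hgz⟩ := c.nwc
  have hz1 : z ≠ 1 := c.X.ne
  obtain ⟨s, hs, hπs⟩ := c.π_surj 1 (by norm_num)
  have move : ∀ x ∈ c.Q, x * x = 1 → x ≠ 1 → x ≠ z → ∃ d, Commute d z ∧ d * s * d⁻¹ = x := by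
    intro x hx hxx hx1 hxz
    have h0 : c.π x ≠ 0 := fun e => by rcases (c.π_zero x hx).mp e with r | r <;> contradiction
    obtain ⟨h, hh, he⟩ := trans_sing (c.π_lt x) h0 ((c.π_sq x hx).mp hxx)
    obtain ⟨d, hd, hdm⟩ := c.m_surj hh
    have e1 : c.π (d * s * d⁻¹) = c.π x := by rw [c.act hd hs, hdm, hπs, he]
    obtain ⟨q, hq, hqe⟩ := c.conj_to_code hx (c.norm hd hs) (by rw [e1]; exact h0) e1.symm
    refine ⟨q * d, (c.X.central q hq).mul_left hd, ?_⟩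
    rw [show q * d * s * (q * d)⁻¹ = q * (d * s * d⁻¹) * q⁻¹ by group, hqe]
  have hzz : z * z = 1 := c.X.zz
  have conj_inv' : ∀ u : G, u * z * u⁻¹ * (u * z * u⁻¹) = 1 := fun u => by
    rw [show u * z * u⁻¹ * (u * z * u⁻¹) = u * (z * z) * u⁻¹ by group, hzz, mul_one, mul_inv_cancel]
  obtain ⟨d, hd, hde⟩ := move _ hgQ (conj_inv' g) (by simp [hz1]) hgz
  set g' := d⁻¹ * g with hg'
  have hg's : g' * z * g'⁻¹ = s := by
    rw [hg', show d⁻¹ * g * z * (d⁻¹ * g)⁻¹ = d⁻¹ * (g * z * g⁻¹) * d by group, ← hde]; group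
  have hsz : s ≠ z := fun e => by rw [e, c.pi_z] at hπs; exact absurd hπs (by norm_num)
  have hgi := mem_conj_of_mem c.X c.cQ c.nQ c.card_Q (g := g') (by rw [hg's]; exact hs) (by rw [hg's]; exact hsz)
  have hgi' : g'⁻¹ * z * g'⁻¹⁻¹ = g'⁻¹ * z * g' := by rw [inv_inv]
  obtain ⟨d', hd', hde'⟩ := move _ hgi (by rw [← hgi']; exact conj_inv' _) (fun e => hz1 ((show z = g' * (g'⁻¹ * z * g') * g'⁻¹ by group).trans (by rw [e, mul_one, mul_inv_cancel]))) fun e => hsz (by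
    have : g' * (g'⁻¹ * z * g') * g'⁻¹ = g' * z * g'⁻¹ := by rw [e]
    rw [hg's] at this
    rw [← this]; group)
  refine ⟨{ toCtx := c, s := s, hs := hs, πs := hπs, k := g' * d', kz := ?_, ks := ?_ }, rfl⟩
  · rw [show g' * d' * z * (g' * d')⁻¹ = g' * (d' * z * d'⁻¹) * g'⁻¹ by group, hd'.eq, mul_inv_cancel_right, hg's]
  · rw [show g' * d' * s * (g' * d')⁻¹ = g' * (d' * s * d'⁻¹) * g'⁻¹ by group, hde']; group

theorem exists_pt (c : Ctx z) : Nonempty (Pt z) := ⟨c.exists_pt_ctx.choose⟩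

end Ctx

namespace Pt

variable (p : Pt z)

theorem ss : p.s * p.s = 1 := (p.π_sq p.s p.hs).mpr (by rw [p.πs]; decide)

theorem s_ne : p.s ≠ 1 ∧ p.s ≠ z :=
  ⟨fun e => by have h := p.πs; rw [e, p.toCtx.pi_one] at h; exact absurd h (by norm_num),
    fun e => by have h := p.πs; rw [e, p.toCtx.pi_z] at h; exact absurd h (by norm_num)⟩

theorem sz : Commute p.s z := p.X.central _ p.hs

/-- The pair centralizer. -/
def T (x : G) : Prop := Commute x z ∧ Commute x p.s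

/-- The conjugate of `Q` at `s`. -/
def Q' : Subgroup G := p.Q.map (MulAut.conj p.k).toMonoidHom

theorem mem_Q' {x : G} : x ∈ p.Q' ↔ p.k⁻¹ * x * p.k ∈ p.Q := mem_map_conj

theorem X' : X2 p.Q' p.s := by
  have := p.X.conj p.k
  rwa [p.kz] at this

/-- The part of the conjugate in the centralizer. -/
def R (x : G) : Prop := x ∈ p.Q' ∧ Commute x z

/-- The part of `Q` in the centralizer. -/
def A (x : G) : Prop := x ∈ p.Q ∧ Commute x p.s

/-- The four-group. -/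
def InE (x : G) : Prop := x = 1 ∨ x = z ∨ x = p.s ∨ x = z * p.s

theorem A_T {x : G} (h : p.A x) : p.T x := ⟨p.X.central x h.1, h.2⟩

theorem R_T {x : G} (h : p.R x) : p.T x := ⟨h.2, p.X'.central x h.1⟩

theorem kinv_z : p.k⁻¹ * z * p.k = p.s :=
  calc p.k⁻¹ * z * p.k = p.k⁻¹ * (p.k * p.s * p.k⁻¹) * p.k := by rw [p.ks]
    _ = p.s := by group

theorem kinv_s : p.k⁻¹ * p.s * p.k = z :=
  calc p.k⁻¹ * p.s * p.k = p.k⁻¹ * (p.k * z * p.k⁻¹) * p.k := by rw [p.kz]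
    _ = z := by group

theorem R_conj {x : G} : p.R x ↔ p.A (p.k⁻¹ * x * p.k) := by
  constructor
  · rintro ⟨h1, h2⟩
    refine ⟨p.mem_Q'.mp h1, ?_⟩
    rw [← p.kinv_z]
    have := (Commute.conj_iff p.k⁻¹).mpr h2
    simpa using this
  · rintro ⟨h1, h2⟩
    refine ⟨p.mem_Q'.mpr h1, ?_⟩
    rw [← p.kinv_z] at h2
    have := (Commute.conj_iff p.k).mpr h2
    simpa [mul_assoc] using this

theorem A_conj {x : G} : p.A x ↔ p.R (p.k * x * p.k⁻¹) := by
  rw [p.R_conj, show p.k⁻¹ * (p.k * x * p.k⁻¹) * p.k = x by group]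

theorem A_one : p.A 1 := ⟨one_mem _, Commute.one_left _⟩

theorem A_mul {a b : G} (ha : p.A a) (hb : p.A b) : p.A (a * b) := ⟨mul_mem ha.1 hb.1, ha.2.mul_left hb.2⟩

theorem A_inv {a : G} (ha : p.A a) : p.A a⁻¹ := ⟨inv_mem ha.1, ha.2.inv_left⟩

theorem R_mul {a b : G} (ha : p.R a) (hb : p.R b) : p.R (a * b) := ⟨mul_mem ha.1 hb.1, ha.2.mul_left hb.2⟩

theorem R_inv {a : G} (ha : p.R a) : p.R a⁻¹ := ⟨inv_mem ha.1, ha.2.inv_left⟩

theorem A_norm {t a : G} (ht : p.T t) (ha : p.A a) : p.A (t * a * t⁻¹) :=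
  ⟨p.toCtx.norm ht.1 ha.1, by
    have := (Commute.conj_iff t).mpr ha.2
    rwa [ht.2.eq, mul_inv_cancel_right] at this⟩

theorem R_norm {t r : G} (ht : p.T t) (hr : p.R r) : p.R (t * r * t⁻¹) := by
  have h1 : p.T (p.k⁻¹ * t * p.k) := by
    have a := (Commute.conj_iff p.k⁻¹).mpr ht.2
    have b := (Commute.conj_iff p.k⁻¹).mpr ht.1
    rw [inv_inv, p.kinv_s] at a
    rw [inv_inv, p.kinv_z] at b
    exact ⟨a, b⟩
  rw [p.R_conj, show p.k⁻¹ * (t * r * t⁻¹) * p.k = p.k⁻¹ * t * p.k * (p.k⁻¹ * r * p.k) * (p.k⁻¹ * t * p.k)⁻¹ by group]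
  exact p.A_norm h1 (p.R_conj.mp hr)

theorem T_one : p.T 1 := ⟨Commute.one_left _, Commute.one_left _⟩

theorem T_inv {t : G} (ht : p.T t) : p.T t⁻¹ := ⟨ht.1.inv_left, ht.2.inv_left⟩

theorem T_mul {t u : G} (ht : p.T t) (hu : p.T u) : p.T (t * u) := ⟨ht.1.mul_left hu.1, ht.2.mul_left hu.2⟩

/-- An element of the pair centralizer fixes the point. -/
theorem T_fix {t : G} (ht : p.T t) : cd (p.toCtx.m t) 1 = 1 := by
  rw [← p.πs, ← p.toCtx.act ht.1 p.hs, ht.2.eq, mul_inv_cancel_right]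

/-- Lifting the stabiliser of the point. -/
theorem T_lift {h : O8} (hh : h ∈ Om) (h1 : cd h 1 = 1) : ∃ t, p.T t ∧ p.toCtx.m t = h := by
  obtain ⟨d, hd, hdm⟩ := p.toCtx.m_surj hh
  obtain ⟨q, hq, hqe⟩ := p.toCtx.conj_to_code p.hs (p.toCtx.norm hd p.hs)
    (by rw [p.toCtx.act hd p.hs, hdm, p.πs, h1]; norm_num) (by rw [p.toCtx.act hd p.hs, hdm, p.πs, h1])
  refine ⟨q * d, ⟨(p.X.central q hq).mul_left hd, ?_⟩, ?_⟩
  · refine mul_inv_eq_iff_eq_mul.mp ?_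
    rw [show q * d * p.s * (q * d)⁻¹ = q * (d * p.s * d⁻¹) * q⁻¹ by group, hqe]
  · rw [p.toCtx.m_mul (p.X.central q hq) hd, (p.toCtx.m_one_iff (p.X.central q hq)).mpr hq, one_mul, hdm]

theorem A_perp {a : G} (ha : p.A a) : pB 1 (p.π a) = false := by
  rw [← p.πs, pB_comm]
  exact (p.π_comm a ha.1 p.s p.hs).mp ha.2

theorem A_of_perp {a : G} (ha : a ∈ p.Q) (h : pB 1 (p.π a) = false) : p.A a :=
  ⟨ha, (p.π_comm a ha p.s p.hs).mpr (by rw [p.πs, pB_comm]; exact h)⟩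

/-- The vector of an element of `A`. -/
def α (a : G) : ℕ := nr (p.π a)

theorem α_mem (a : G) : p.α a ∈ W := nr_mem _ (p.π_lt a)

theorem α_mul {a b : G} (ha : p.A a) (hb : p.A b) : p.α (a * b) = p.α a ^^^ p.α b := by
  rw [α, p.π_mul a ha.1 b hb.1, nr_xor]; rfl

theorem α_inv {a : G} (ha : p.A a) : p.α a⁻¹ = p.α a := by rw [α, p.toCtx.pi_inv ha.1]; rfl

theorem E_A {e : G} (he : p.InE e) : p.A e := by
  rcases he with rfl | rfl | rfl | rfl
  · exact p.A_one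
  · exact ⟨p.X.mem, p.sz.symm⟩
  · exact ⟨p.hs, Commute.refl _⟩
  · exact ⟨mul_mem p.X.mem p.hs, p.sz.symm.mul_left (Commute.refl _)⟩

theorem α_E {e : G} (he : p.InE e) : p.α e = 0 := by
  rcases he with rfl | rfl | rfl | rfl
  · rw [α, p.toCtx.pi_one]; rfl
  · rw [α, p.toCtx.pi_z]; rfl
  · rw [α, p.πs]; rfl
  · rw [α, p.π_mul z p.X.mem p.s p.hs, p.toCtx.pi_z, p.πs]; rfl

theorem α_zero {a : G} (ha : p.A a) (h : p.α a = 0) : p.InE a := by
  rcases low_code _ (p.π_lt a) (p.A_perp ha) h with e | e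
  · rcases (p.π_zero a ha.1).mp e with r | r
    · exact Or.inl r
    · exact Or.inr (Or.inl r)
  · rcases p.toCtx.pi_eq ha.1 p.hs (e.trans p.πs.symm) with r | r
    · exact Or.inr (Or.inr (Or.inl r))
    · exact Or.inr (Or.inr (Or.inr r))

theorem α_conj {t a : G} (ht : p.T t) (ha : p.A a) : p.α (t * a * t⁻¹) = sa (p.toCtx.m t) (p.α a) := by
  rw [α, α, p.toCtx.act ht.1 ha.1, sa_nr (p.T_fix ht) (p.π_lt a) (p.A_perp ha)]; rfl

theorem α_surj {w : ℕ} (hw : w ∈ W) : ∃ a, p.A a ∧ p.α a = w := by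
  obtain ⟨hl, hp, hn⟩ := W_lt w hw
  obtain ⟨a, ha, e⟩ := p.π_surj w hl
  exact ⟨a, p.A_of_perp ha (by rw [e]; exact hp), by rw [α, e, hn]⟩

theorem α_sq {a : G} (ha : p.A a) : a * a = 1 ↔ qB (p.α a) = false := by
  rw [p.π_sq a ha.1, α, (nr_facts _ (p.π_lt a) (p.A_perp ha)).2]

theorem α_comm {a b : G} (ha : p.A a) (hb : p.A b) : Commute a b ↔ pB (p.α a) (p.α b) = false := by
  rw [p.π_comm a ha.1 b hb.1, α, α, nr_p (p.π_lt a) (p.π_lt b) (p.A_perp ha) (p.A_perp hb)]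

theorem E_cases {e : G} (he : p.InE e) : ∀ f, p.InE f → p.InE (e * f) := fun f hf => by
  exact p.α_zero (p.A_mul (p.E_A he) (p.E_A hf)) (by rw [p.α_mul (p.E_A he) (p.E_A hf), p.α_E he, p.α_E hf]; rfl)

theorem E_inv {e : G} (he : p.InE e) : p.InE e⁻¹ :=
  p.α_zero (p.A_inv (p.E_A he)) (by rw [p.α_inv (p.E_A he), p.α_E he])

theorem E_R {e : G} (he : p.InE e) : p.R e := by
  have hz : z ∈ p.Q' := p.mem_Q'.mpr (by rw [p.kinv_z]; exact p.hs)
  have hs' : p.s ∈ p.Q' := p.X'.mem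
  rcases he with rfl | rfl | rfl | rfl
  · exact ⟨one_mem _, Commute.one_left _⟩
  · exact ⟨hz, Commute.refl _⟩
  · exact ⟨hs', p.sz⟩
  · exact ⟨mul_mem hz hs', (Commute.refl z).mul_left p.sz⟩

theorem E_central {e t : G} (he : p.InE e) (ht : p.T t) : Commute t e := by
  rcases he with rfl | rfl | rfl | rfl
  · exact Commute.one_right _
  · exact ht.1
  · exact ht.2
  · exact ht.1.mul_right ht.2

theorem E_sq {e : G} (he : p.InE e) : e * e = 1 := by
  refine (p.α_sq (p.E_A he)).mpr ?_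
  rw [p.α_E he]; decide

theorem zs_ne : z * p.s ≠ 1 ∧ z * p.s ≠ z ∧ z * p.s ≠ p.s :=
  ⟨fun e => p.s_ne.2 ((eq_inv_of_mul_eq_one_right e).trans p.X.inv_z),
    fun e => p.s_ne.1 (mul_eq_left.mp e), fun e => p.X.ne (mul_eq_right.mp e)⟩

/-- The vector of an element of `R`. -/
noncomputable def β (r : G) : ℕ := nr (cd (p.toCtx.m r) 16)

theorem β_mem (r : G) : p.β r ∈ W := nr_mem _ (cd_lt _ _)

theorem R_trivial {r : G} (hr : p.R r) : ∀ w ∈ W, sa (p.toCtx.m r) w = w := by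
  classical
  haveI : Fact (Nat.Prime 2) := ⟨Nat.prime_two⟩
  let Rg : Subgroup G := p.Q' ⊓ centralizer ({z} : Set G)
  have memR : ∀ {x}, x ∈ Rg ↔ p.R x := fun {x} => and_congr Iff.rfl Ctx.mem_C
  let S := {w : ℕ // w ∈ W}
  letI : MulAction ↥Rg S :=
    { smul := fun x w => ⟨sa (p.toCtx.m x) w.1, sa_mem _ _⟩
      one_smul := fun w => Subtype.ext (show sa (p.toCtx.m ((1 : ↥Rg) : G)) w.1 = w.1 by
        rw [Subgroup.coe_one, p.toCtx.m_one, sa_one w.2])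
      mul_smul := fun x y w => Subtype.ext (show sa (p.toCtx.m ((x * y : ↥Rg) : G)) w.1 =
          sa (p.toCtx.m x) (sa (p.toCtx.m y) w.1) by
        have hx := memR.mp x.2
        have hy := memR.mp y.2
        rw [Subgroup.coe_mul, p.toCtx.m_mul hx.2 hy.2,
          sa_mul (p.T_fix (p.R_T hx)) (p.T_fix (p.R_T hy)) (W_lt _ w.2).1 (W_lt _ w.2).2.1]) }
  have hcS : Nat.card S = 64 := by
    rw [Nat.card_congr (Equiv.subtypeEquivRight fun w => (List.mem_toFinset).symm), Nat.card_eq_finsetCard]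
    decide +kernel
  haveI : Finite S := Nat.finite_of_card_ne_zero (by rw [hcS]; norm_num)
  have hP : IsPGroup 2 ↥Rg := p.X'.isP.to_le inf_le_left
  have hmod := hP.card_modEq_card_fixedPoints S
  rw [hcS] at hmod
  let o : MulAction.fixedPoints ↥Rg S := ⟨⟨0, by decide⟩, fun x => Subtype.ext (sa_zero (p.toCtx.m x))⟩
  haveI : Nonempty (MulAction.fixedPoints ↥Rg S) := ⟨o⟩
  haveI : Nontrivial (MulAction.fixedPoints ↥Rg S) := Finite.one_lt_card_iff_nontrivial.mp (by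
    have hpos : 0 < Nat.card (MulAction.fixedPoints ↥Rg S) := Nat.card_pos
    have h2 : Nat.card (MulAction.fixedPoints ↥Rg S) % 2 = 0 := hmod.symm
    omega)
  obtain ⟨⟨⟨w0, hw0⟩, hfix⟩, hne⟩ := exists_ne o
  have key := invariant_all (fun v => ∀ x, p.R x → sa (p.toCtx.m x) v = v) (fun x _ => sa_zero _)
    (fun a _ b _ ha hb x hx => by rw [sa_xor, ha x hx, hb x hx])
    (fun h hh h1 v hv hI x hx => by
      obtain ⟨t, ht, rfl⟩ := p.T_lift hh h1
      obtain ⟨hl, hp, -⟩ := W_lt v hv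
      have hR := p.R_norm (p.T_inv ht) hx
      rw [← sa_mul (p.T_fix (p.R_T hx)) h1 hl hp, ← p.toCtx.m_mul hx.2 ht.1,
        show x * t = t * (t⁻¹ * x * t⁻¹⁻¹) by group, p.toCtx.m_mul ht.1 hR.2,
        sa_mul h1 (p.T_fix (p.R_T hR)) hl hp, hI _ hR])
    ⟨w0, hw0, fun e => hne (Subtype.ext (Subtype.ext e)),
      fun x hx => congrArg Subtype.val (hfix ⟨x, memR.mpr hx⟩)⟩
  exact fun w hw => key w hw r hr

theorem m_rho {r : G} (hr : p.R r) : ∀ x < 256, cd (p.toCtx.m r) x = rho (p.β r) x := by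
  have h1 := p.T_fix (p.R_T hr)
  obtain ⟨w, hw, e⟩ := rad_rho h1 (rad_of_trivial h1 (p.R_trivial hr))
  have : p.β r = w := by
    rw [β, e 16 (by norm_num), rho_facts w hw 16 (by norm_num) (by decide), show nr 16 = 0 from rfl, Nat.zero_xor]
  rw [this]
  exact e

theorem β_mul {a b : G} (ha : p.R a) (hb : p.R b) : p.β (a * b) = p.β a ^^^ p.β b := by
  have hp : pB 1 (cd (p.toCtx.m b) 16) = true := by
    conv_lhs => rw [← p.T_fix (p.R_T hb)]
    rw [cd_p _ (by norm_num) (by norm_num)]; decide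
  rw [β, p.toCtx.m_mul ha.2 hb.2, cd_mul, p.m_rho ha _ (cd_lt _ _), rho_facts _ (p.β_mem a) _ (cd_lt _ _) hp,
    Nat.xor_comm]
  rfl

theorem β_zero {r : G} (hr : p.R r) : p.β r = 0 ↔ r ∈ p.Q := by
  rw [← p.toCtx.m_one_iff hr.2]
  constructor
  · intro h
    refine cd_ext fun x hx => ?_
    rw [p.m_rho hr x hx, h, rho_zero x hx, cd_one hx]
  · intro h
    rw [β, h, cd_one (by norm_num)]; rfl

theorem β_E {e : G} (he : p.InE e) : p.β e = 0 := (p.β_zero (p.E_R he)).mpr (p.E_A he).1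

theorem β_conj {t r : G} (ht : p.T t) (hr : p.R r) : p.β (t * r * t⁻¹) = sa (p.toCtx.m t) (p.β r) := by
  refine (sa_of_intertwine (p.T_fix ht) (p.β_mem r) (p.β_mem _) fun x hx => ?_).symm
  rw [← p.m_rho hr x hx, ← p.m_rho (p.R_norm ht hr) _ (cd_lt _ _), ← cd_mul, ← cd_mul,
    ← p.toCtx.m_mul ht.1 hr.2, ← p.toCtx.m_mul (p.R_norm ht hr).2 ht.1, inv_mul_cancel_right]

theorem not_comm : ∃ a b, p.A a ∧ p.A b ∧ ¬ Commute a b := by
  obtain ⟨a, ha, ea⟩ := p.α_surj (w := 2) (by decide)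
  obtain ⟨b, hb, eb⟩ := p.α_surj (w := 32) (by decide)
  exact ⟨a, b, ha, hb, fun h => absurd ((p.α_comm ha hb).mp h) (by rw [ea, eb]; decide)⟩

theorem QQ'_elem {x : G} (hx : x ∈ p.Q) (hx' : x ∈ p.Q') : x * x = 1 := by
  rcases p.X.sq x hx with e | e
  · exact e
  · rcases p.X'.sq x hx' with e' | e'
    · exact e'
    · exact absurd (e'.symm.trans e) p.s_ne.2

theorem β_surj {w : ℕ} (hw : w ∈ W) : ∃ r, p.R r ∧ p.β r = w := by
  let I := fun v => ∃ r, p.R r ∧ p.β r = v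
  have hI0 : I 0 := ⟨1, p.E_R (Or.inl rfl), p.β_E (Or.inl rfl)⟩
  have hIx : ∀ a b, I a → I b → I (a ^^^ b) := by
    rintro a b ⟨r, hr, rfl⟩ ⟨r', hr', rfl⟩
    exact ⟨r * r', p.R_mul hr hr', p.β_mul hr hr'⟩
  have hIs : ∀ h ∈ Om, cd h 1 = 1 → ∀ v, I v → I (sa h v) := by
    rintro h hh h1 v ⟨r, hr, rfl⟩
    obtain ⟨t, ht, rfl⟩ := p.T_lift hh h1
    exact ⟨_, p.R_norm ht hr, p.β_conj ht hr⟩
  obtain ⟨w0, hI, hw0, hne⟩ : ∃ w0, I w0 ∧ w0 ∈ W ∧ w0 ≠ 0 := by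
    by_contra hall
    push Not at hall
    obtain ⟨a, b, ha, hb, hab⟩ := p.not_comm
    have hin : ∀ x, p.A x → p.k * x * p.k⁻¹ ∈ p.Q := fun x hx =>
      (p.β_zero (p.A_conj.mp hx)).mp (hall _ ⟨_, p.A_conj.mp hx, rfl⟩ (p.β_mem _))
    have e1 : ∀ x, p.A x → x * x = 1 := fun x hx => by
      have := p.QQ'_elem (hin x hx) (p.A_conj.mp hx).1
      rw [show p.k * x * p.k⁻¹ * (p.k * x * p.k⁻¹) = p.k * (x * x) * p.k⁻¹ by group, conj_eq_one_iff] at this
      exact this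
    refine hab ?_
    have e2 := e1 _ (p.A_mul ha hb)
    have i1 := inv_eq_of_mul_eq_one_right (e1 a ha)
    have i2 := inv_eq_of_mul_eq_one_right (e1 b hb)
    have i3 := inv_eq_of_mul_eq_one_right e2
    rw [mul_inv_rev, i1, i2] at i3
    exact i3.symm
  exact invariant_all I hI0 (fun a _ b _ => hIx a b) (fun h hh h1 v _ => hIs h hh h1 v) ⟨w0, hw0, hne, hI⟩ w hw

theorem card_A : Nat.card {x // p.A x} ≤ 256 := by
  have h : (p.Q ⊓ centralizer ({p.s} : Set G)) < p.Q := by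
    refine lt_of_le_of_ne inf_le_left fun e => ?_
    obtain ⟨a, ha, ea⟩ := p.π_surj 16 (by norm_num)
    have := (e.ge ha).2
    have h2 := p.A_perp ⟨ha, mem_centralizer_singleton_iff.mp this⟩
    rw [ea] at h2
    exact absurd h2 (by decide)
  have h1 : Nat.card ↥(p.Q ⊓ centralizer ({p.s} : Set G)) < 512 := by
    rw [← p.card]
    refine lt_of_le_of_ne (card_le_of_le inf_le_left) fun e => h.ne (Subgroup.eq_of_le_of_card_ge inf_le_left e.ge)
  have h2 : Nat.card ↥(p.Q ⊓ centralizer ({p.s} : Set G)) ∣ 2 ^ 9 := by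
    rw [show (2 : ℕ) ^ 9 = 512 by norm_num, ← p.card]; exact Subgroup.card_dvd_of_le inf_le_left
  obtain ⟨i, hi, e⟩ := (Nat.dvd_prime_pow Nat.prime_two).mp h2
  have hcongr : Nat.card {x // p.A x} = Nat.card ↥(p.Q ⊓ centralizer ({p.s} : Set G)) :=
    Nat.card_congr (Equiv.subtypeEquivRight fun x => by
      show (x ∈ p.Q ∧ Commute x p.s) ↔ (x ∈ p.Q ∧ x ∈ centralizer ({p.s} : Set G))
      rw [mem_centralizer_singleton_iff]; rfl)
  rw [hcongr]
  rw [e] at h1 ⊢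
  interval_cases i <;> simp at h1 ⊢

/-- `Q` and its conjugate meet in the four-group. -/
theorem R_cap {r : G} (hr : p.R r) (hrQ : r ∈ p.Q) : p.InE r := by
  classical
  by_contra hne
  choose sct hsct hβ using fun w : {w // w ∈ W} => p.β_surj w.2
  let e5 : Fin 5 → G := ![1, z, p.s, z * p.s, r]
  have he5 : ∀ i, p.R (e5 i) ∧ e5 i ∈ p.Q := by
    intro i
    fin_cases i
    · exact ⟨p.E_R (Or.inl rfl), one_mem _⟩
    · exact ⟨p.E_R (Or.inr (Or.inl rfl)), p.X.mem⟩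
    · exact ⟨p.E_R (Or.inr (Or.inr (Or.inl rfl))), p.hs⟩
    · exact ⟨p.E_R (Or.inr (Or.inr (Or.inr rfl))), mul_mem p.X.mem p.hs⟩
    · exact ⟨hr, hrQ⟩
  have he5i : Function.Injective e5 := by
    simp only [InE, not_or] at hne
    obtain ⟨n1, n2, n3, n4⟩ := hne
    obtain ⟨a1, a2, a3⟩ := p.zs_ne
    intro i j h
    fin_cases i <;> fin_cases j <;> first | rfl | (exfalso; revert h; simp [e5, p.X.ne, p.s_ne.1, p.s_ne.2, a1, a2, a3,
      n1, n2, n3, n4, Ne.symm p.X.ne, Ne.symm p.s_ne.1, Ne.symm p.s_ne.2, Ne.symm a1, Ne.symm a2, Ne.symm a3,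
      Ne.symm n1, Ne.symm n2, Ne.symm n3, Ne.symm n4])
  let f : {w // w ∈ W} × Fin 5 → {x // p.A x} := fun u =>
    ⟨p.k⁻¹ * (sct u.1 * e5 u.2) * p.k, p.R_conj.mp (p.R_mul (hsct _) (he5 _).1)⟩
  have hf : Function.Injective f := fun u v h => by
    have h' : sct u.1 * e5 u.2 = sct v.1 * e5 v.2 := mul_left_cancel (mul_right_cancel (congrArg Subtype.val h))
    have hb := congrArg p.β h'
    rw [p.β_mul (hsct _) (he5 _).1, p.β_mul (hsct _) (he5 _).1, (p.β_zero (he5 _).1).mpr (he5 _).2,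
      (p.β_zero (he5 _).1).mpr (he5 _).2, hβ, hβ, Nat.xor_zero, Nat.xor_zero] at hb
    have h1 := Subtype.ext hb
    rw [h1] at h'
    exact Prod.ext h1 (he5i (mul_left_cancel h'))
  have hW : Nat.card {w // w ∈ W} = 64 := by
    rw [Nat.card_congr (Equiv.subtypeEquivRight fun w => (List.mem_toFinset).symm), Nat.card_eq_finsetCard]
    decide +kernel
  have := (Nat.card_le_card_of_injective f hf).trans p.card_A
  rw [Nat.card_prod, hW, Nat.card_fin] at this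
  norm_num at this

theorem R_fibre {r r' : G} (hr : p.R r) (hr' : p.R r') (h : p.β r = p.β r') : p.InE (r⁻¹ * r') := by
  have hm := p.R_mul (p.R_inv hr) hr'
  refine p.R_cap hm ((p.β_zero hm).mp ?_)
  have e : p.β r⁻¹ = p.β r := by
    have := p.β_mul (p.R_inv hr) hr
    rw [inv_mul_cancel, p.β_E (Or.inl rfl)] at this
    exact xor_eq_zero'.mp this.symm
  rw [p.β_mul (p.R_inv hr) hr', e, h, Nat.xor_self]

theorem R_sq_congr {r r' : G} (hr : p.R r) (hr' : p.R r') (h : p.β r = p.β r') : r * r = r' * r' := by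
  have he := p.R_fibre hr hr' h
  have hc := p.E_central he (p.R_T hr)
  have e : r' = r * (r⁻¹ * r') := (mul_inv_cancel_left r r').symm
  rw [e, hc.symm.mul_mul_mul_comm, p.E_sq he, mul_one]

/-- Squares in `R` follow the form of the section. -/
theorem β_sq {r : G} (hr : p.R r) : r * r = 1 ↔ qB (p.β r) = false := by
  let f := fun w => ∀ x, p.R x → p.β x = w → x * x = 1
  have fone : ∀ x, p.R x → x * x = 1 → f (p.β x) := fun x hx h y hy e => by rw [p.R_sq_congr hy hx e, h]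
  have f0 : f 0 := fun x hx e => p.E_sq (p.R_cap hx ((p.β_zero hx).mp e))
  have finv : ∀ h ∈ Om, cd h 1 = 1 → ∀ w ∈ W, f w → f (sa h w) := by
    intro h hh h1 w hw hf x hx e
    obtain ⟨t, ht, rfl⟩ := p.T_lift hh h1
    obtain ⟨y, hy, ey⟩ := p.β_surj hw
    rw [p.R_sq_congr hx (p.R_norm ht hy) (by rw [e, p.β_conj ht hy, ey]),
      show t * y * t⁻¹ * (t * y * t⁻¹) = t * (y * y) * t⁻¹ by group, hf y hy ey, mul_one, mul_inv_cancel]
  have back : ∀ h ∈ Om, cd h 1 = 1 → ∀ w ∈ W, f (sa h w) → f w := by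
    intro h hh h1 w hw hf
    have := finv _ (inv_mem hh) (inv_one' h1) _ (sa_mem _ _) hf
    rwa [(sa_inv h1 hw).2] at this
  have h35 : ∀ w ∈ W, qB w = false → w ≠ 0 → (f w ↔ f 2) := fun w hw hq h0 => by
    obtain ⟨h, hh, h1, e⟩ := trans_w35 hw hq h0
    rw [← e]
    exact ⟨back h hh h1 2 (by decide), finv h hh h1 2 (by decide)⟩
  have h28 : ∀ w ∈ W, qB w = true → (f w ↔ f 34) := fun w hw hq => by
    obtain ⟨h, hh, h1, e⟩ := trans_w28 hw hq
    rw [← e]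
    exact ⟨back h hh h1 34 (by decide), finv h hh h1 34 (by decide)⟩
  have hA : ∀ x, p.R x → p.A (p.k⁻¹ * x * p.k) := fun x hx => p.R_conj.mp hx
  have hsq' : ∀ x, x * x = 1 ↔ (p.k⁻¹ * x * p.k) * (p.k⁻¹ * x * p.k) = 1 := fun x => by
    constructor <;> intro h
    · rw [show p.k⁻¹ * x * p.k * (p.k⁻¹ * x * p.k) = p.k⁻¹ * (x * x) * p.k by group, h]; group
    · rw [show x * x = p.k * ((p.k⁻¹ * x * p.k) * (p.k⁻¹ * x * p.k)) * p.k⁻¹ by group, h]; group
  have hy2 : f 2 := by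
    by_contra hn
    obtain ⟨a, ha, ea⟩ := p.β_surj (w := 2) (by decide)
    obtain ⟨b, hb, eb⟩ := p.β_surj (w := 4) (by decide)
    obtain ⟨c, hc, ec⟩ := p.β_surj (w := 8) (by decide)
    let ψ := fun x => p.α (p.k⁻¹ * x * p.k)
    have hψ : ∀ x y, p.R x → p.R y → ψ (x * y) = ψ x ^^^ ψ y := fun x y hx hy => by
      show p.α _ = p.α _ ^^^ p.α _
      rw [show p.k⁻¹ * (x * y) * p.k = p.k⁻¹ * x * p.k * (p.k⁻¹ * y * p.k) by group, p.α_mul (hA x hx) (hA y hy)]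
    have bad : ∀ x, p.R x → p.β x ∈ [2, 4, 8, 6, 10, 12, 14] → qB (ψ x) = true := fun x hx hm => by
      cases hq : qB (ψ x)
      · exfalso
        obtain ⟨hm1, hm2, hm3⟩ := (by decide : ∀ w ∈ [2, 4, 8, 6, 10, 12, 14], w ∈ W ∧ qB w = false ∧ w ≠ 0) _ hm
        exact hn ((h35 _ hm1 hm2 hm3).mp (fone x hx ((hsq' x).mpr ((p.α_sq (hA x hx)).mpr hq))))
      · rfl
    have ab := p.R_mul ha hb
    have ac := p.R_mul ha hc
    have bc := p.R_mul hb hc
    have abc := p.R_mul ab hc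
    have lt : ∀ x, ψ x < 256 := fun x => (W_lt _ (p.α_mem _)).1
    have e := qB_cube (lt a) (lt b) (lt c)
    rw [← hψ a b ha hb, ← hψ a c ha hc, ← hψ b c hb hc, ← hψ _ c ab hc, bad a ha (by rw [ea]; decide),
      bad b hb (by rw [eb]; decide), bad c hc (by rw [ec]; decide),
      bad _ ab (by rw [p.β_mul ha hb, ea, eb]; decide), bad _ ac (by rw [p.β_mul ha hc, ea, ec]; decide),
      bad _ bc (by rw [p.β_mul hb hc, eb, ec]; decide),
      bad _ abc (by rw [p.β_mul ab hc, p.β_mul ha hb, ea, eb, ec]; decide)] at e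
    exact Bool.noConfusion e
  have hn28 : ¬ f 34 := fun hf => by
    have all1 : ∀ x, p.R x → x * x = 1 := fun x hx => by
      rcases eq_or_ne (p.β x) 0 with e | e
      · exact f0 x hx e
      cases hq : qB (p.β x)
      · exact (h35 _ (p.β_mem x) hq e).mpr hy2 x hx rfl
      · exact (h28 _ (p.β_mem x) hq).mpr hf x hx rfl
    obtain ⟨a, b, ha, hb, hab⟩ := p.not_comm
    have e1 : ∀ x, p.A x → x * x = 1 := fun x hx => by
      have := (hsq' _).mp (all1 _ (p.A_conj.mp hx))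
      rwa [show p.k⁻¹ * (p.k * x * p.k⁻¹) * p.k = x by group] at this
    refine hab ?_
    have i1 := inv_eq_of_mul_eq_one_right (e1 a ha)
    have i2 := inv_eq_of_mul_eq_one_right (e1 b hb)
    have i3 := inv_eq_of_mul_eq_one_right (e1 _ (p.A_mul ha hb))
    rw [mul_inv_rev, i1, i2] at i3
    exact i3.symm
  have hw := p.β_mem r
  constructor
  · intro h
    by_contra hq
    rw [Bool.not_eq_false] at hq
    exact hn28 ((h28 _ hw hq).mp (fone r hr h))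
  · intro hq
    rcases eq_or_ne (p.β r) 0 with e | e
    · exact f0 r hr e
    · exact (h35 _ hw hq e).mpr hy2 r hr rfl

/-- The `z`-component of an element of the four-group. -/
noncomputable def ze (e : G) : Bool := @decide (e = z ∨ e = z * p.s) (Classical.propDecidable _)

/-- The `s`-component of an element of the four-group. -/
noncomputable def se (e : G) : Bool := @decide (e = p.s ∨ e = z * p.s) (Classical.propDecidable _)

theorem zse : (p.ze 1 = false ∧ p.se 1 = false) ∧ (p.ze z = true ∧ p.se z = false) ∧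
    (p.ze p.s = false ∧ p.se p.s = true) ∧ (p.ze (z * p.s) = true ∧ p.se (z * p.s) = true) := by
  obtain ⟨a1, a2, a3⟩ := p.zs_ne
  obtain ⟨s1, s2⟩ := p.s_ne
  simp [ze, se, p.X.ne, s1, s2, a1, a2, a3, Ne.symm p.X.ne, Ne.symm s1, Ne.symm s2, Ne.symm a1, Ne.symm a2, Ne.symm a3]

theorem mul_zse {a b : G} (ha : p.InE a) (hb : p.InE b) :
    p.ze (a * b) = (p.ze a ^^ p.ze b) ∧ p.se (a * b) = (p.se a ^^ p.se b) := by
  obtain ⟨⟨z1, t1⟩, ⟨z2, t2⟩, ⟨z3, t3⟩, ⟨z4, t4⟩⟩ := p.zse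
  have e1 : p.s * z = z * p.s := p.sz.eq
  have e2 : z * (z * p.s) = p.s := by rw [← mul_assoc, p.X.zz, one_mul]
  have e3 : z * p.s * z = p.s := by rw [mul_assoc, e1, e2]
  have e4 : p.s * (z * p.s) = z := by rw [← mul_assoc, e1, mul_assoc, p.ss, mul_one]
  have e5 : z * p.s * p.s = z := by rw [mul_assoc, p.ss, mul_one]
  have e6 : z * p.s * (z * p.s) = 1 := by rw [← mul_assoc, e3, p.ss]
  rcases ha with rfl | rfl | rfl | rfl <;> rcases hb with rfl | rfl | rfl | rfl <;>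
    simp [z1, z2, z3, z4, t1, t2, t3, t4, e1, e2, e3, e4, e5, e6, p.X.zz, p.ss]

theorem eq_of_zse {a b : G} (ha : p.InE a) (hb : p.InE b) (h1 : p.ze a = p.ze b) (h2 : p.se a = p.se b) : a = b := by
  obtain ⟨⟨z1, t1⟩, ⟨z2, t2⟩, ⟨z3, t3⟩, ⟨z4, t4⟩⟩ := p.zse
  rcases ha with rfl | rfl | rfl | rfl <;> rcases hb with rfl | rfl | rfl | rfl <;>
    simp_all

theorem se_code {e : G} (he : p.InE e) : p.π e = bif p.se e then 1 else 0 := by
  obtain ⟨⟨-, t1⟩, ⟨-, t2⟩, ⟨-, t3⟩, ⟨-, t4⟩⟩ := p.zse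
  rcases he with rfl | rfl | rfl | rfl
  · rw [t1, p.toCtx.pi_one]; rfl
  · rw [t2, p.toCtx.pi_z]; rfl
  · rw [t3, p.πs]; rfl
  · rw [t4, p.π_mul z p.X.mem p.s p.hs, p.toCtx.pi_z, p.πs]; rfl

/-- The commutator of elements of the two parts. -/
def cab (x r : G) : G := x * r * x⁻¹ * r⁻¹

theorem cab_E {x r : G} (hx : p.A x) (hr : p.R r) : p.InE (cab x r) := by
  refine p.R_cap (p.R_mul (p.R_norm (p.A_T hx) hr) (p.R_inv hr)) ?_
  rw [cab, show x * r * x⁻¹ * r⁻¹ = x * (r * x⁻¹ * r⁻¹) by group]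
  exact mul_mem hx.1 (p.toCtx.norm hr.2 (inv_mem hx.1))

theorem cab_se {x r : G} (hx : p.A x) (hr : p.R r) : p.se (cab x r) = pB (p.α x) (p.β r) := by
  have h1 := p.se_code (p.cab_E hx hr)
  have e : p.π (cab x r) = rho (p.β r) (p.π x) ^^^ p.π x := by
    rw [cab, show x * r * x⁻¹ * r⁻¹ = x * (r * x⁻¹ * r⁻¹) by group,
      p.π_mul x hx.1 _ (p.toCtx.norm hr.2 (inv_mem hx.1)), p.toCtx.act hr.2 (inv_mem hx.1), p.toCtx.pi_inv hx.1,
      p.m_rho hr _ (p.π_lt x), Nat.xor_comm]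
  rw [e, rho_shift _ (p.β_mem r) _ (p.π_lt x) (p.A_perp hx)] at h1
  revert h1
  show (bif pB (p.α x) (p.β r) then 1 else 0) = (bif p.se (cab x r) then 1 else 0) → _
  cases pB (p.α x) (p.β r) <;> cases p.se (cab x r) <;> simp

theorem cab_congr {x x' r r' : G} (hx : p.A x) (hx' : p.A x') (hr : p.R r) (hr' : p.R r') (h : p.α x = p.α x')
    (h' : p.β r = p.β r') : cab x r = cab x' r' := by
  have he : p.InE (x⁻¹ * x') := p.α_zero (p.A_mul (p.A_inv hx) hx') (by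
    rw [p.α_mul (p.A_inv hx) hx', p.α_inv hx, h, Nat.xor_self])
  have hf := p.R_fibre hr hr' h'
  set e := x⁻¹ * x' with hedef
  set f := r⁻¹ * r' with hfdef
  have ex : x' = x * e := by rw [hedef]; group
  have er : r' = r * f := by rw [hfdef]; group
  have c1 := p.E_central he (p.R_T (p.R_mul hr (p.E_R hf)))
  have c2 := p.E_central hf (p.A_T hx)
  rw [ex, er, cab, cab]
  rw [show x * e * (r * f) * (x * e)⁻¹ * (r * f)⁻¹ = x * (e * (r * f) * e⁻¹) * x⁻¹ * (f⁻¹ * r⁻¹) by group,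
    ← c1.eq, mul_inv_cancel_right, show x * (r * f) * x⁻¹ * (f⁻¹ * r⁻¹) = x * r * (f * x⁻¹ * f⁻¹) * r⁻¹ by group,
    ← c2.inv_left.eq, mul_inv_cancel_right]

theorem cab_left {x x' r : G} (hx : p.A x) (hx' : p.A x') (hr : p.R r) : cab (x * x') r = cab x' r * cab x r := by
  have h := p.E_central (p.cab_E hx' hr) (p.A_T hx)
  calc cab (x * x') r = x * cab x' r * x⁻¹ * cab x r := by simp only [cab]; group
    _ = _ := by rw [h.eq, mul_inv_cancel_right]

theorem cab_right {x r r' : G} (hx : p.A x) (hr : p.R r) (hr' : p.R r') : cab x (r * r') = cab x r * cab x r' := by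
  have h := p.E_central (p.cab_E hx hr') (p.R_T hr)
  calc cab x (r * r') = cab x r * (r * cab x r' * r⁻¹) := by simp only [cab]; group
    _ = _ := by rw [h.eq, mul_inv_cancel_right]

theorem cab_conj {t x r : G} (ht : p.T t) (hx : p.A x) (hr : p.R r) : cab (t * x * t⁻¹) (t * r * t⁻¹) = cab x r := by
  have h := p.E_central (p.cab_E hx hr) ht
  calc cab (t * x * t⁻¹) (t * r * t⁻¹) = t * cab x r * t⁻¹ := by simp only [cab]; group
    _ = _ := by rw [h.eq, mul_inv_cancel_right]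

/-- Both components of a commutator are the pairing of the two vectors. -/
theorem cab_ze {x r : G} (hx : p.A x) (hr : p.R r) : p.ze (cab x r) = pB (p.α x) (p.β r) := by
  classical
  choose xa hxa hα using fun w : {w // w ∈ W} => p.α_surj w.2
  choose rb hrb hβ using fun w : {w // w ∈ W} => p.β_surj w.2
  let Z : ℕ → ℕ → Bool := fun a b =>
    if h : a ∈ W ∧ b ∈ W then p.ze (cab (xa ⟨a, h.1⟩) (rb ⟨b, h.2⟩)) else false
  have hZ : ∀ {x r}, p.A x → p.R r → Z (p.α x) (p.β r) = p.ze (cab x r) := fun {x r} hx hr => by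
    show (if h : _ then _ else _) = _
    rw [dif_pos ⟨p.α_mem x, p.β_mem r⟩]
    exact congrArg _ (p.cab_congr (hxa _) hx (hrb _) hr (hα _) (hβ _))
  have addL : ∀ a ∈ W, ∀ b ∈ W, ∀ c ∈ W, Z (a ^^^ b) c = (Z a c ^^ Z b c) := by
    intro a ha b hb c hc
    have e1 := hα ⟨a, ha⟩; have e2 := hα ⟨b, hb⟩; have e3 := hβ ⟨c, hc⟩
    dsimp only at e1 e2 e3
    rw [← e1, ← e2, ← e3, ← p.α_mul (hxa _) (hxa _), hZ (p.A_mul (hxa _) (hxa _)) (hrb _), hZ (hxa _) (hrb _),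
      hZ (hxa _) (hrb _), p.cab_left (hxa _) (hxa _) (hrb _),
      (p.mul_zse (p.cab_E (hxa _) (hrb _)) (p.cab_E (hxa _) (hrb _))).1, Bool.xor_comm]
  have addR : ∀ a ∈ W, ∀ b ∈ W, ∀ c ∈ W, Z a (b ^^^ c) = (Z a b ^^ Z a c) := by
    intro a ha b hb c hc
    have e1 := hα ⟨a, ha⟩; have e2 := hβ ⟨b, hb⟩; have e3 := hβ ⟨c, hc⟩
    dsimp only at e1 e2 e3
    rw [← e1, ← e2, ← e3, ← p.β_mul (hrb _) (hrb _), hZ (hxa _) (p.R_mul (hrb _) (hrb _)), hZ (hxa _) (hrb _),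
      hZ (hxa _) (hrb _), p.cab_right (hxa _) (hrb _) (hrb _),
      (p.mul_zse (p.cab_E (hxa _) (hrb _)) (p.cab_E (hxa _) (hrb _))).1]
  have inv : ∀ h ∈ Om, cd h 1 = 1 → ∀ a ∈ W, ∀ b ∈ W, Z (sa h a) (sa h b) = Z a b := by
    intro h hh h1 a ha b hb
    obtain ⟨t, ht, rfl⟩ := p.T_lift hh h1
    have e1 := hα ⟨a, ha⟩; have e2 := hβ ⟨b, hb⟩
    dsimp only at e1 e2
    rw [← e1, ← e2, ← p.α_conj ht (hxa _), ← p.β_conj ht (hrb _), hZ (p.A_norm ht (hxa _)) (p.R_norm ht (hrb _)),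
      hZ (hxa _) (hrb _), p.cab_conj ht (hxa _) (hrb _)]
  have h2 : (2 : ℕ) ∈ W := by decide
  have hf := functional_eq (fun a => Z a 2) (fun a ha b hb => addL a ha b hb 2 h2) fun h hh h1 e x hx => by
    have := inv h hh h1 x hx 2 h2
    rwa [e] at this
  obtain ⟨cst, hcst⟩ : ∃ cst : Bool, ∀ a ∈ W, Z a 2 = (cst && pB a 2) := by
    rcases hf with h | h
    · exact ⟨false, fun a ha => by rw [h a ha, Bool.false_and]⟩
    · exact ⟨true, fun a ha => by rw [h a ha, Bool.true_and, pB_comm]⟩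
  have hz0 : ∀ a ∈ W, Z a 0 = false := fun a ha => by
    have := addR a ha 0 (by decide) 0 (by decide)
    rw [Nat.xor_self, Bool.xor_self] at this
    exact this
  have hsing : ∀ b ∈ W, qB b = false → ∀ a ∈ W, Z a b = (cst && pB a b) := by
    intro b hb hq a ha
    rcases eq_or_ne b 0 with rfl | h0
    · rw [hz0 a ha, show pB a 0 = false by rw [pB_comm, pB_zero], Bool.and_false]
    obtain ⟨h, hh, h1, e⟩ := trans_w35 hb hq h0
    have h1i : cd h⁻¹ 1 = 1 := by conv_lhs => rw [← h1, cd_inv h (by norm_num)]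
    obtain ⟨hl, hp, hn⟩ := W_lt a ha
    have ea : sa h (sa h⁻¹ a) = a := by rw [← sa_mul h1 h1i hl hp, mul_inv_cancel, sa, cd_one hl, hn]
    rw [← e, ← ea, inv h hh h1 _ (sa_mem _ _) 2 h2, hcst _ (sa_mem _ _), sa_p h1 (sa_mem _ _) h2]
  have hlin : ∀ a ∈ W, ∀ b ∈ W, Z a b = (cst && pB a b) := by
    intro a ha b hb
    obtain ⟨u, hu, v, hv, eu, ev, rfl⟩ := span_orbit false b hb
    have hu' : qB u = false := eu.elim (fun e => by rw [e]; decide) id
    have hv' : qB v = false := ev.elim (fun e => by rw [e]; decide) id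
    have hp : ∀ a ∈ W, ∀ u ∈ W, ∀ v ∈ W, pB a (u ^^^ v) = (pB a u ^^ pB a v) := fun a ha u hu v hv =>
      pB_add_right (W_lt u hu).1 (W_lt v hv).1 (W_lt a ha).1
    rw [addR a ha u hu v hv, hsing u hu hu' a ha, hsing v hv hv' a ha, hp a ha u hu v hv]
    cases cst <;> simp
  cases cst
  · exfalso
    obtain ⟨a, ha, ea⟩ := p.α_surj (w := 2) (by decide)
    obtain ⟨r, hr, er⟩ := p.β_surj (w := 32) (by decide)
    have h1 := p.cab_se ha hr
    rw [ea, er, show pB 2 32 = true by decide] at h1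
    have hx' := p.R_conj.mp hr
    have hr' := p.A_conj.mp ha
    have e0 : cab (p.k⁻¹ * r * p.k) (p.k⁻¹ * a * p.k) = p.k⁻¹ * (cab a r)⁻¹ * p.k := by simp only [cab]; group
    have hxA : p.R (p.k⁻¹ * a * p.k) := by
      have hk2 : p.T (p.k * p.k) := by
        constructor
        · refine mul_inv_eq_iff_eq_mul.mp ?_
          rw [show p.k * p.k * z * (p.k * p.k)⁻¹ = p.k * (p.k * z * p.k⁻¹) * p.k⁻¹ by group, p.kz, p.ks]
        · refine mul_inv_eq_iff_eq_mul.mp ?_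
          rw [show p.k * p.k * p.s * (p.k * p.k)⁻¹ = p.k * (p.k * p.s * p.k⁻¹) * p.k⁻¹ by group, p.ks, p.kz]
      have := p.R_norm (p.T_inv hk2) hr'
      rwa [show (p.k * p.k)⁻¹ * (p.k * a * p.k⁻¹) * (p.k * p.k)⁻¹⁻¹ = p.k⁻¹ * a * p.k by group] at this
    have h2 := hZ hx' hxA
    rw [hlin _ (p.α_mem _) _ (p.β_mem _), Bool.false_and, e0] at h2
    obtain ⟨⟨z1, t1⟩, ⟨z2, t2⟩, ⟨z3, t3⟩, ⟨z4, t4⟩⟩ := p.zse
    rcases p.E_inv (p.cab_E ha hr) with e | e | e | e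
    · rw [inv_eq_one] at e
      rw [e, t1] at h1; exact absurd h1 (by decide)
    · rw [inv_eq_iff_eq_inv, p.X.inv_z] at e
      rw [e, t2] at h1; exact absurd h1 (by decide)
    · rw [e, p.kinv_s, z2] at h2; exact absurd h2 (by decide)
    · rw [e, show p.k⁻¹ * (z * p.s) * p.k = p.k⁻¹ * z * p.k * (p.k⁻¹ * p.s * p.k) by group, p.kinv_z, p.kinv_s,
        p.sz.eq, z4] at h2
      exact absurd h2 (by decide)
  · rw [← hZ hx hr, hlin _ (p.α_mem x) _ (p.β_mem r), Bool.true_and]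

theorem sq_zse {x : G} (hx : p.A x) : p.InE (x * x) ∧ p.ze (x * x) = qB (p.α x) ∧ p.se (x * x) = false := by
  obtain ⟨⟨z1, t1⟩, ⟨z2, t2⟩, -, -⟩ := p.zse
  rcases p.X.sq x hx.1 with e | e
  · rw [e, (p.α_sq hx).mp e]; exact ⟨Or.inl rfl, z1, t1⟩
  · have hq : qB (p.α x) = true := by
      by_contra hq
      rw [Bool.not_eq_true] at hq
      exact p.X.ne (e.symm.trans ((p.α_sq hx).mpr hq))
    rw [e, hq]; exact ⟨Or.inr (Or.inl rfl), z2, t2⟩

theorem sq_zse' {r : G} (hr : p.R r) : p.InE (r * r) ∧ p.ze (r * r) = false ∧ p.se (r * r) = qB (p.β r) := by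
  obtain ⟨⟨z1, t1⟩, -, ⟨z3, t3⟩, -⟩ := p.zse
  rcases p.X'.sq r hr.1 with e | e
  · rw [e, (p.β_sq hr).mp e]; exact ⟨Or.inl rfl, z1, t1⟩
  · have hq : qB (p.β r) = true := by
      by_contra hq
      rw [Bool.not_eq_true] at hq
      exact p.s_ne.1 (e.symm.trans ((p.β_sq hr).mpr hq))
    rw [e, hq]; exact ⟨Or.inr (Or.inr (Or.inl rfl)), z3, t3⟩

/-- When a product of the two parts is an involution. -/
theorem prod_sq {q r : G} (hq : p.A q) (hr : p.R r) :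
    q * r * (q * r) = 1 ↔ qB (p.α q) = pB (p.α q) (p.β r) ∧ qB (p.β r) = pB (p.α q) (p.β r) := by
  have hE := p.cab_E hq hr
  have hc := p.E_central hE (p.R_T hr)
  obtain ⟨he1, z1, t1⟩ := p.sq_zse hq
  obtain ⟨he2, z2, t2⟩ := p.sq_zse' hr
  obtain ⟨⟨z0, t0⟩, -, -, -⟩ := p.zse
  have e : q * r * (q * r) = q * q * (r * r) * cab q r := by
    have hx : r * q = (cab q r)⁻¹ * (q * r) := by rw [cab]; group
    have hinv : (cab q r)⁻¹ = cab q r := inv_eq_of_mul_eq_one_right (p.E_sq hE)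
    rw [hinv] at hx
    calc q * r * (q * r) = q * (r * q) * r := by group
      _ = q * cab q r * q * (r * r) := by rw [hx]; group
      _ = cab q r * (q * q) * (r * r) := by rw [(p.E_central hE (p.A_T hq)).eq]; group
      _ = _ := by rw [(p.E_central hE (p.T_mul (p.T_mul (p.A_T hq) (p.A_T hq)) (p.T_mul (p.R_T hr) (p.R_T hr)))).eq, mul_assoc (cab q r)]
  have he12 := p.E_cases he1 _ he2
  rw [e]
  constructor
  · intro h
    have hz := congrArg p.ze h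
    have ht := congrArg p.se h
    rw [(p.mul_zse he12 hE).1, (p.mul_zse he1 he2).1, z1, z2, p.cab_ze hq hr, z0] at hz
    rw [(p.mul_zse he12 hE).2, (p.mul_zse he1 he2).2, t1, t2, p.cab_se hq hr, t0] at ht
    revert hz ht
    cases qB (p.α q) <;> cases qB (p.β r) <;> cases pB (p.α q) (p.β r) <;> simp
  · rintro ⟨ha, hb⟩
    refine p.eq_of_zse (p.E_cases he12 _ hE) (Or.inl rfl) ?_ ?_
    · rw [(p.mul_zse he12 hE).1, (p.mul_zse he1 he2).1, z1, z2, p.cab_ze hq hr, z0, ha]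
      cases pB (p.α q) (p.β r) <;> rfl
    · rw [(p.mul_zse he12 hE).2, (p.mul_zse he1 he2).2, t1, t2, p.cab_se hq hr, t0, hb]
      cases pB (p.α q) (p.β r) <;> rfl

theorem R_invol {y : G} (hy : p.R y) (hy1 : y * y = 1) (hb : p.β y ≠ 0) : IsConj z y := by
  have hA := p.R_conj.mp hy
  obtain ⟨a1, a2, a3⟩ := p.zs_ne
  have hne : y ∉ p.Q := fun h => hb ((p.β_zero hy).mpr h)
  set x := p.k⁻¹ * y * p.k with hx
  have hy' : y = p.k * x * p.k⁻¹ := by rw [hx]; group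
  have hxx : x * x = 1 := by
    rw [hx, show p.k⁻¹ * y * p.k * (p.k⁻¹ * y * p.k) = p.k⁻¹ * (y * y) * p.k by group, hy1]; group
  have h0 : p.π x ≠ 0 := fun e => by
    rcases (p.π_zero x hA.1).mp e with e' | e' <;> refine hne ?_ <;> rw [hy', e']
    · simp
    · rw [p.kz]; exact p.hs
  obtain ⟨h, hh, he⟩ := trans_sing (p.π_lt x) h0 ((p.π_sq x hA.1).mp hxx)
  obtain ⟨d, hd, hdm⟩ := p.toCtx.m_surj hh
  have e1 : p.π (d * p.s * d⁻¹) = p.π x := by rw [p.toCtx.act hd p.hs, hdm, p.πs, he]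
  obtain ⟨q, hq, hqe⟩ := p.toCtx.conj_to_code hA.1 (p.toCtx.norm hd p.hs) (by rw [e1]; exact h0) e1.symm
  refine isConj_iff.mpr ⟨p.k * q * d * p.k, ?_⟩
  rw [show p.k * q * d * p.k * z * (p.k * q * d * p.k)⁻¹ = p.k * (q * (d * (p.k * z * p.k⁻¹) * d⁻¹) * q⁻¹) * p.k⁻¹ by
    group, p.kz, hqe, hy']

theorem Q_invol {x : G} (hx : x ∈ p.Q) (hxx : x * x = 1) (hx1 : x ≠ 1) : IsConj z x := by
  rcases eq_or_ne (p.π x) 0 with e | h0
  · rcases (p.π_zero x hx).mp e with e' | e'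
    · exact absurd e' hx1
    · rw [e']
  obtain ⟨h, hh, he⟩ := trans_sing (p.π_lt x) h0 ((p.π_sq x hx).mp hxx)
  obtain ⟨d, hd, hdm⟩ := p.toCtx.m_surj hh
  have e1 : p.π (d * p.s * d⁻¹) = p.π x := by rw [p.toCtx.act hd p.hs, hdm, p.πs, he]
  obtain ⟨q, hq, hqe⟩ := p.toCtx.conj_to_code hx (p.toCtx.norm hd p.hs) (by rw [e1]; exact h0) e1.symm
  refine isConj_iff.mpr ⟨q * d * p.k, ?_⟩
  rw [show q * d * p.k * z * (q * d * p.k)⁻¹ = q * (d * (p.k * z * p.k⁻¹) * d⁻¹) * q⁻¹ by group, p.kz, hqe]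

end Pt

end Cfsg.Lib.ConwayType
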