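import Cfsg.Agent.ConwayType.Code
import Cfsg.Agent.Classical.Orth.OmegaGen
import Cfsg.Agent.Classical.Misc.Dickson
import Cfsg.Agent.Classical.Misc.Spinor
import Cfsg.Agent.Classical.Misc.NegOne
import Cfsg.Agent.Classical.Misc.HyperbolicQuadric
import Cfsg.Agent.Classical.Orth.POmegaCard
import Cfsg.Agent.S0293
import Cfsg.Agent.S0296

/-!
Isometries of the hyperbolic space of dimension eight over the field with two elements on coded vectors.
-/

set_option autoImplicit false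
set_option maxRecDepth 100000
set_option maxHeartbeats 1000000
set_option linter.style.haveILetI false

namespace Cfsg.Lib.ConwayType

open Matrix Cfsg.Lib.Classical Cfsg.Lib.Classical.OrthH1 Cfsg.Lib.Classical.Refl Cfsg.Lib.ConwayType.Code
open scoped commutatorElement

/-- The index type. -/
abbrev I8 := Fin 4 ⊕ Fin 4

/-- The form. -/
abbrev qf : QuadraticForm (ZMod 2) (I8 → ZMod 2) := HypQuad.plusForm 4 (ZMod 2)

/-- The isometry group. -/
abbrev O8 := ↥(Cfsg.isometryGroup (ZMod 2) (⇑qf))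

/-- The group `Ω`. -/
abbrev Om : Subgroup O8 := Cfsg.Omega (ZMod 2) (⇑qf)

theorem qf_coe : (⇑qf) = Cfsg.quadFormPlus 4 (ZMod 2) := funext (HypQuad.plusForm_apply 4)

/-- The numbering of the coordinates. -/
def e8 : I8 ≃ Fin 8 := finSumFinEquiv

theorem hq : ∀ x < 2 ^ 8, qf (OrthH1.dec e8 x) = ofBit (qB x) := by
  have h : ∀ x < 256, Cfsg.quadFormPlus 4 (ZMod 2) (OrthH1.dec e8 x) = ofBit (qB x) := by
    unfold Cfsg.quadFormPlus
    decide +kernel
  intro x hx
  rw [qf_coe]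
  exact h x hx

theorem nondeg : (QuadraticMap.polarBilin qf).Nondegenerate := HypQuad.plusForm_nondegenerate 4

/-- The code of a vector. -/
noncomputable def en (v : I8 → ZMod 2) : ℕ := (exists_code e8 v).choose

theorem en_lt (v : I8 → ZMod 2) : en v < 256 := (exists_code e8 v).choose_spec.1

theorem dec_en (v : I8 → ZMod 2) : OrthH1.dec e8 (en v) = v := (exists_code e8 v).choose_spec.2

theorem dec_inj : ∀ x < 256, ∀ y < 256, OrthH1.dec e8 x = OrthH1.dec e8 y → x = y := by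
  intro x hx y hy h
  refine Nat.eq_of_testBit_eq fun i => ?_
  by_cases hi : i < 8
  · have := congrFun h (e8.symm ⟨i, hi⟩)
    simp only [OrthH1.dec, Equiv.apply_symm_apply] at this
    revert this
    cases x.testBit i <;> cases y.testBit i <;> simp
  · rw [Nat.testBit_lt_two_pow (lt_of_lt_of_le hx (Nat.pow_le_pow_right two_pos (not_lt.mp hi) : 2 ^ 8 ≤ _)),
      Nat.testBit_lt_two_pow (lt_of_lt_of_le hy (Nat.pow_le_pow_right two_pos (not_lt.mp hi) : 2 ^ 8 ≤ _))]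

theorem en_dec {x : ℕ} (hx : x < 256) : en (OrthH1.dec e8 x) = x := dec_inj _ (en_lt _) _ hx (dec_en _)

theorem ofBit_inj : ∀ a b : Bool, ofBit a = ofBit b → a = b := by decide

theorem xor_lt {a b : ℕ} (ha : a < 256) (hb : b < 256) : a ^^^ b < 256 := Nat.xor_lt_two_pow (n := 8) ha hb

theorem xor_eq_zero' {a b : ℕ} : a ^^^ b = 0 ↔ a = b :=
  ⟨fun h => by simpa using congrArg (· ^^^ b) h, fun h => by simp [h]⟩

theorem en_add (v w : I8 → ZMod 2) : en (v + w) = en v ^^^ en w :=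
  dec_inj _ (en_lt _) _ (xor_lt (en_lt v) (en_lt w)) (by rw [dec_en, dec_xor, dec_en, dec_en])

theorem en_zero : en 0 = 0 := by rw [← dec_zero e8, en_dec (by norm_num)]

theorem en_eq_zero {v : I8 → ZMod 2} : en v = 0 ↔ v = 0 :=
  ⟨fun h => by rw [← dec_en v, h, dec_zero], fun h => h ▸ en_zero⟩

theorem q_en (v : I8 → ZMod 2) : qf v = ofBit (qB (en v)) := by
  conv_lhs => rw [← dec_en v]
  exact hq _ (en_lt v)

theorem polar_en (v w : I8 → ZMod 2) : QuadraticMap.polar (⇑qf) v w = ofBit (pB (en v) (en w)) := by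
  conv_lhs => rw [← dec_en v, ← dec_en w]
  exact polar_dec qB e8 hq (en_lt v) (en_lt w)

theorem pB_comm (a b : ℕ) : pB a b = pB b a := by
  show (qB _ ^^ qB _ ^^ qB _) = (qB _ ^^ qB _ ^^ qB _)
  rw [Nat.xor_comm a b]
  cases qB (b ^^^ a) <;> cases qB a <;> cases qB b <;> rfl

theorem pB_add_left {a b c : ℕ} (ha : a < 256) (hb : b < 256) (hc : c < 256) :
    pB (a ^^^ b) c = (pB a c ^^ pB b c) := by
  refine ofBit_inj _ _ ?_
  rw [ofBit_xor, ← polar_dec qB e8 hq ha hc, ← polar_dec qB e8 hq hb hc, ← polar_dec qB e8 hq (xor_lt ha hb) hc,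
    dec_xor, QuadraticMap.polar_add_left]

theorem pB_add_right {a b c : ℕ} (ha : a < 256) (hb : b < 256) (hc : c < 256) :
    pB c (a ^^^ b) = (pB c a ^^ pB c b) := by
  rw [pB_comm, pB_add_left ha hb hc, pB_comm a, pB_comm b]

theorem pB_zero (a : ℕ) : pB 0 a = false := by
  show (qB (0 ^^^ a) ^^ qB 0 ^^ qB a) = false
  rw [Nat.zero_xor, show qB 0 = false from rfl]
  cases qB a <;> rfl

theorem pB_self (a : ℕ) : pB a a = false := by
  show (qB (a ^^^ a) ^^ qB a ^^ qB a) = false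
  rw [Nat.xor_self, show qB 0 = false from rfl]
  cases qB a <;> rfl

theorem qB_add (a b : ℕ) : qB (a ^^^ b) = (qB a ^^ qB b ^^ pB a b) := by
  show _ = (qB a ^^ qB b ^^ (qB (a ^^^ b) ^^ qB a ^^ qB b))
  cases qB (a ^^^ b) <;> cases qB a <;> cases qB b <;> rfl

/-- The values of the form on eight sums of three vectors. -/
theorem qB_cube {a b c : ℕ} (ha : a < 256) (hb : b < 256) (hc : c < 256) :
    qB (a ^^^ b ^^^ c) = (qB (a ^^^ b) ^^ qB (a ^^^ c) ^^ qB (b ^^^ c) ^^ qB a ^^ qB b ^^ qB c) := by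
  rw [qB_add (a ^^^ b) c, pB_add_left ha hb hc, qB_add a b, qB_add a c, qB_add b c]
  cases qB a <;> cases qB b <;> cases qB c <;> cases pB a b <;> cases pB a c <;> cases pB b c <;> rfl

/-- The action on codes. -/
noncomputable def cd (g : O8) (x : ℕ) : ℕ := en (mat qf g *ᵥ OrthH1.dec e8 x)

theorem cd_lt (g : O8) (x : ℕ) : cd g x < 256 := en_lt _

theorem dec_cd (g : O8) (x : ℕ) : OrthH1.dec e8 (cd g x) = mat qf g *ᵥ OrthH1.dec e8 x := dec_en _

theorem cd_en (g : O8) (v : I8 → ZMod 2) : cd g (en v) = en (mat qf g *ᵥ v) := by rw [cd, dec_en]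

theorem cd_mul (g h : O8) (x : ℕ) : cd (g * h) x = cd g (cd h x) := by
  rw [cd, cd, dec_cd, mulVec_mul]

theorem cd_one {x : ℕ} (hx : x < 256) : cd 1 x = x := by
  rw [cd, show mat qf 1 = 1 from rfl, Matrix.one_mulVec, en_dec hx]

theorem cd_inv (g : O8) {x : ℕ} (hx : x < 256) : cd g⁻¹ (cd g x) = x := by
  rw [← cd_mul, inv_mul_cancel, cd_one hx]

theorem cd_inv' (g : O8) {x : ℕ} (hx : x < 256) : cd g (cd g⁻¹ x) = x := by
  rw [← cd_mul, mul_inv_cancel, cd_one hx]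

theorem cd_inj (g : O8) {x y : ℕ} (hx : x < 256) (hy : y < 256) (e : cd g x = cd g y) : x = y := by
  rw [← cd_inv g hx, e, cd_inv g hy]

theorem cd_xor (g : O8) (x y : ℕ) : cd g (x ^^^ y) = cd g x ^^^ cd g y := by
  rw [cd, dec_xor, Matrix.mulVec_add, en_add]; rfl

theorem cd_zero (g : O8) : cd g 0 = 0 := by rw [cd, dec_zero, Matrix.mulVec_zero, en_zero]

theorem cd_q (g : O8) {x : ℕ} (hx : x < 256) : qB (cd g x) = qB x :=
  ofBit_inj _ _ (by rw [← hq _ (cd_lt g x : _ < 2 ^ 8), dec_cd, (Refl.mem_iff qf).mp g.2, hq _ (hx : x < 2 ^ 8)])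

theorem cd_p (g : O8) {x y : ℕ} (hx : x < 256) (hy : y < 256) : pB (cd g x) (cd g y) = pB x y := by
  show (qB _ ^^ qB _ ^^ qB _) = (qB _ ^^ qB _ ^^ qB _)
  rw [← cd_xor, cd_q g hx, cd_q g hy, cd_q g (xor_lt hx hy)]

theorem cd_ext {g h : O8} (e : ∀ x < 256, cd g x = cd h x) : g = h :=
  ext_dec qB e8 hq fun x hx => by rw [← dec_cd, ← dec_cd, e x hx]

theorem cd_bif (g : O8) (c : Bool) (x : ℕ) : cd g (bif c then x else 0) = bif c then cd g x else 0 := by
  cases c <;> simp [cd_zero]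

/-- Two isometries agreeing on the basis agree. -/
theorem cd_basis {g h : O8} (e : ∀ k ∈ [1, 2, 4, 8, 16, 32, 64, 128], cd g k = cd h k) : g = h :=
  cd_ext fun x hx => by
    simp only [List.forall_mem_cons, List.not_mem_nil, IsEmpty.forall_iff, implies_true, and_true] at e
    obtain ⟨a, b, c, d, f, i, j, k⟩ := e
    conv_lhs => rw [← bits8 x hx]
    conv_rhs => rw [← bits8 x hx]
    simp only [cd_xor, cd_bif, a, b, c, d, f, i, j, k]

/-- A coded Siegel map. -/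
noncomputable def sieg (t : ℕ × ℕ) (h : t.1 < 256 ∧ t.2 < 256 ∧ qB t.1 = false ∧ pB t.1 t.2 = false) : O8 :=
  siegelG qf (u := OrthH1.dec e8 t.1) (z := OrthH1.dec e8 t.2) (by rw [hq _ (h.1 : t.1 < 2 ^ 8), h.2.2.1]; rfl)
    (by rw [polar_dec qB e8 hq (h.1 : t.1 < 2 ^ 8) h.2.1, show pN qB t.1 t.2 = pB t.1 t.2 from rfl, h.2.2.2]; rfl)

theorem sN_lt {u v x : ℕ} (hu : u < 256) (hv : v < 256) (hx : x < 256) : sN qB u v x < 256 := by
  rw [sN]
  split_ifs <;>
    first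
      | exact xor_lt (xor_lt hx hv) hu
      | exact xor_lt (xor_lt hx hv) (by norm_num)
      | exact xor_lt (xor_lt hx (by norm_num)) hu
      | exact xor_lt (xor_lt hx (by norm_num)) (by norm_num)

theorem cd_sieg (t : ℕ × ℕ) (h : t.1 < 256 ∧ t.2 < 256 ∧ qB t.1 = false ∧ pB t.1 t.2 = false) {x : ℕ} (hx : x < 256) :
    cd (sieg t h) x = sN qB t.1 t.2 x := by
  refine dec_inj _ (cd_lt _ _) _ (sN_lt h.1 h.2.1 hx) ?_
  rw [dec_cd, sieg, mat_siegelG, siegel_dec qB e8 hq h.1 h.2.1 hx]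

theorem sieg_mem (t : ℕ × ℕ) (h : t.1 < 256 ∧ t.2 < 256 ∧ qB t.1 = false ∧ pB t.1 t.2 = false) : sieg t h ∈ Om :=
  siegelG_mem_omega qf nondeg (by simp) _ _

/-- A word in the generators is realised in `Ω`. -/
theorem exists_word (gs : List (ℕ × ℕ)) (hgs : ∀ t ∈ gs, t.1 < 256 ∧ t.2 < 256 ∧ qB t.1 = false ∧ pB t.1 t.2 = false)
    (w : List ℕ) (hw : ∀ i ∈ w, i < gs.length) :
    ∃ g ∈ Om, ∀ x < 256, cd g x = wact gs w x := by
  induction w with
  | nil => exact ⟨1, one_mem _, fun x hx => cd_one hx⟩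
  | cons i w ih =>
    obtain ⟨g, hg, he⟩ := ih fun j hj => hw j (List.mem_cons_of_mem _ hj)
    have hi := hw i (List.mem_cons_self ..)
    have ht := hgs gs[i] (List.getElem_mem hi)
    refine ⟨sieg gs[i] ht * g, mul_mem (sieg_mem _ _) hg, fun x hx => ?_⟩
    rw [cd_mul, cd_sieg _ _ (cd_lt _ _), he x hx, show gs[i] = gs.getD i (0, 0) from (List.getD_eq_getElem _ _ hi).symm]
    rfl

/-- The radical element of a vector of the section. -/
noncomputable def rhoE (w : ℕ) (hw : w ∈ W) : O8 :=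
  sieg (1, w) ⟨(by norm_num : (1 : ℕ) < 256), (W_lt w hw).1, (by decide : qB 1 = false), (W_lt w hw).2.1⟩

theorem cd_rhoE {w : ℕ} (hw : w ∈ W) {x : ℕ} (hx : x < 256) : cd (rhoE w hw) x = rho w x :=
  cd_sieg (1, w) _ hx

theorem rhoE_mem {w : ℕ} (hw : w ∈ W) : rhoE w hw ∈ Om := sieg_mem (1, w) _

theorem rhoE_sq {w : ℕ} (hw : w ∈ W) : rhoE w hw * rhoE w hw = 1 := cd_ext fun x hx => by
  rw [cd_mul, cd_rhoE hw hx, cd_rhoE hw (by rw [← cd_rhoE hw hx]; exact cd_lt _ _), rho_invol w hw x hx, cd_one hx]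

/-- The fixed codes. -/
noncomputable def fixSet (g : O8) : Finset ℕ := (Finset.range 256).filter fun x => cd g x = x

theorem mem_fixSet {g : O8} {x : ℕ} : x ∈ fixSet g ↔ x < 256 ∧ cd g x = x := by
  simp [fixSet]

theorem fix_count {g : O8} (hg : g ∈ Om) : (fixSet g).card ∈ [1, 4, 16, 64, 256] := by
  classical
  have hd : Refl.dickson qf nondeg g = 1 := hom_eq_one_of_omega qf (Refl.dickson qf nondeg) hg
  have heven : Even (gap qf g 1) := (neg_one_pow_eq_one_iff_even (by decide)).mp hd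
  set K := LinearMap.ker (Matrix.toLin' (mat qf g) - Matrix.toLin' (mat qf 1)) with hK
  have hmem : ∀ v, v ∈ K ↔ mat qf g *ᵥ v = v := fun v => by
    rw [hK, LinearMap.mem_ker, LinearMap.sub_apply, sub_eq_zero, Matrix.toLin'_apply, Matrix.toLin'_apply,
      show mat qf 1 = 1 from rfl, Matrix.one_mulVec]
  have hc : Nat.card K = (fixSet g).card := by
    rw [← Nat.card_eq_finsetCard]
    refine Nat.card_congr ⟨fun v => ⟨en (v : I8 → ZMod 2), ?_⟩, fun x => ⟨OrthH1.dec e8 x.1, ?_⟩,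
      fun v => Subtype.ext (dec_en _), fun x => Subtype.ext (en_dec (mem_fixSet.mp x.2).1)⟩
    · exact mem_fixSet.mpr ⟨en_lt _, by rw [cd_en, (hmem _).mp v.2]⟩
    · rw [hmem, ← dec_cd, (mem_fixSet.mp x.2).2]
  rw [gap, ← hK, show Fintype.card I8 = 8 by decide] at heven
  have hn : Module.finrank (ZMod 2) K ≤ 8 := (Submodule.finrank_le _).trans (by simp)
  rw [← hc, Module.natCard_eq_pow_finrank (K := ZMod 2), Nat.card_zmod]
  generalize Module.finrank (ZMod 2) K = d at hn heven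
  interval_cases d <;> simp_all +decide

theorem omega_center : Subgroup.center ↥(Cfsg.Omega (ZMod 2) (Cfsg.quadFormPlus 4 (ZMod 2))) = ⊥ := by
  rw [← qf_coe]
  exact Subgroup.card_eq_one.mp (Refl.center_card_one _ nondeg (by simp) fun g _ e => by
    rw [e]; ext i j; exact CharTwo.neg_eq _)

theorem card_omega : Nat.card ↥(Cfsg.Omega (ZMod 2) (Cfsg.quadFormPlus 4 (ZMod 2))) = 174182400 := by
  have h := Cfsg.Agent.S0293.result (F := ZMod 2) (q := 2) (ZMod.card 2) 4 le_rfl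
  norm_num [Finset.prod_range_succ] at h
  rw [Subgroup.card_eq_card_quotient_mul_card_subgroup
    (Subgroup.center ↥(Cfsg.Omega (ZMod 2) (Cfsg.quadFormPlus 4 (ZMod 2)))), omega_center, Subgroup.card_bot, mul_one]
  rw [← h]
  exact congrArg (fun N : Subgroup ↥(Cfsg.Omega (ZMod 2) (Cfsg.quadFormPlus 4 (ZMod 2))) =>
    Nat.card (↥(Cfsg.Omega (ZMod 2) (Cfsg.quadFormPlus 4 (ZMod 2))) ⧸ N)) omega_center.symm

theorem omega_simple : IsSimpleGroup ↥(Cfsg.Omega (ZMod 2) (Cfsg.quadFormPlus 4 (ZMod 2))) := by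
  haveI : IsSimpleGroup (Cfsg.POmega (ZMod 2) (Cfsg.quadFormPlus 4 (ZMod 2))) := Cfsg.Agent.S0296.result 4 le_rfl
  exact ((QuotientGroup.quotientMulEquivOfEq omega_center).trans QuotientGroup.quotientBot).symm.isSimpleGroup

end Cfsg.Lib.ConwayType
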