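import Cfsg.Agent.ConwayType.Point

/-!
Involutions of `Ω` in dimension eight: radical elements, and commuting products of two radical elements.
-/

set_option autoImplicit false
set_option maxRecDepth 100000
set_option maxHeartbeats 1000000
set_option linter.style.haveILetI false

namespace Cfsg.Lib.ConwayType

open Cfsg.Lib.ConwayType.Code

theorem rho_formula : ∀ w ∈ W, ∀ x < 256, rho w x = x ^^^ (bif pB 1 x then w else 0) ^^^
    (bif (pB w x ^^ (qB w && pB 1 x)) then 1 else 0) := by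
  intro w _ x _
  rw [rho, Cfsg.Lib.Classical.OrthH1.sN]
  cases h1 : Cfsg.Lib.Classical.OrthH1.pN qB 1 x <;>
    cases h2 : Cfsg.Lib.Classical.OrthH1.pN qB w x <;> cases h3 : qB w <;> simp [pB, h1, h2]

theorem nondeg_code : ∀ p < 256, p ≠ 0 → ∃ v ∈ [1, 2, 4, 8, 16, 32, 64, 128], pB p v = true := by decide +kernel

theorem two_one : (2 : ℕ) ∈ W := by decide

/-- The change of a code under an element. -/
noncomputable def br (g : O8) (x : ℕ) : ℕ := cd g x ^^^ x

/-- The changes of all codes. -/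
noncomputable def imgSet (g : O8) : Finset ℕ := (Finset.range 256).image (br g)

theorem mem_imgSet {g : O8} {l : ℕ} : l ∈ imgSet g ↔ ∃ x < 256, br g x = l := by simp [imgSet]

theorem br_lt (g : O8) {x : ℕ} (hx : x < 256) : br g x < 256 := xor_lt (cd_lt g x) hx

theorem img_lt {g : O8} {l : ℕ} (h : l ∈ imgSet g) : l < 256 := by
  obtain ⟨x, hx, rfl⟩ := mem_imgSet.mp h
  exact br_lt g hx

theorem br_xor (g : O8) (x y : ℕ) : br g (x ^^^ y) = br g x ^^^ br g y := by
  simp only [br, cd_xor, Nat.xor_assoc, Nat.xor_left_comm (cd g y)]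

theorem br_zero (g : O8) : br g 0 = 0 := by rw [br, cd_zero]; rfl

theorem br_eq_zero {g : O8} {x : ℕ} : br g x = 0 ↔ cd g x = x := xor_eq_zero'

theorem img_xor {g : O8} {a b : ℕ} (ha : a ∈ imgSet g) (hb : b ∈ imgSet g) : a ^^^ b ∈ imgSet g := by
  obtain ⟨x, hx, rfl⟩ := mem_imgSet.mp ha
  obtain ⟨y, hy, rfl⟩ := mem_imgSet.mp hb
  exact mem_imgSet.mpr ⟨x ^^^ y, xor_lt hx hy, br_xor g x y⟩

theorem card_img_mul (g : O8) : (imgSet g).card * (fixSet g).card = 256 := by
  classical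
  have h := Finset.card_eq_sum_card_image (br g) (Finset.range 256)
  rw [Finset.card_range] at h
  rw [imgSet]
  conv_rhs => rw [h]
  rw [Finset.sum_const_nat fun l hl => ?_]
  obtain ⟨x0, hx0, rfl⟩ := mem_imgSet.mp hl
  have inv2 : ∀ a : ℕ, a ^^^ x0 ^^^ x0 = a := fun a => by rw [Nat.xor_assoc, Nat.xor_self, Nat.xor_zero]
  refine Finset.card_nbij' (· ^^^ x0) (· ^^^ x0) (fun a ha => ?_) (fun a ha => ?_) (fun a _ => inv2 a) (fun a _ => inv2 a)
  · simp only [Finset.coe_filter, Finset.mem_range, Set.mem_setOf_eq] at ha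
    refine mem_fixSet.mpr ⟨xor_lt ha.1 hx0, br_eq_zero.mp ?_⟩
    rw [br_xor, ha.2, Nat.xor_self]
  · have ha' := mem_fixSet.mp (Finset.mem_coe.mp ha)
    simp only [Finset.coe_filter, Finset.mem_range, Set.mem_setOf_eq]
    refine ⟨xor_lt ha'.1 hx0, ?_⟩
    rw [br_xor, br_eq_zero.mpr ha'.2, Nat.zero_xor]

variable {g : O8}

theorem cd_cd (hgg : g * g = 1) {x : ℕ} (hx : x < 256) : cd g (cd g x) = x := by
  rw [← cd_mul, hgg, cd_one hx]

theorem img_fix (hgg : g * g = 1) {l : ℕ} (hl : l ∈ imgSet g) : cd g l = l := by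
  obtain ⟨x, hx, rfl⟩ := mem_imgSet.mp hl
  rw [br, cd_xor, cd_cd hgg hx, Nat.xor_comm]

theorem adj (hgg : g * g = 1) {x y : ℕ} (hx : x < 256) (hy : y < 256) : pB (br g x) y = pB x (br g y) := by
  rw [br, br, pB_add_left (cd_lt g x) hx hy, pB_add_right (cd_lt g y) hy hx]
  congr 1
  conv_rhs => rw [← cd_p g hx (cd_lt g y), cd_cd hgg hy]

theorem img_perp (hgg : g * g = 1) {a b : ℕ} (ha : a ∈ imgSet g) (hb : b ∈ imgSet g) : pB a b = false := by
  obtain ⟨x, hx, rfl⟩ := mem_imgSet.mp ha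
  rw [adj hgg hx (img_lt hb), br_eq_zero.mpr (img_fix hgg hb), pB_comm, pB_zero]

theorem img_q (hgg : g * g = 1) {a b : ℕ} (ha : a ∈ imgSet g) (hb : b ∈ imgSet g) :
    qB (a ^^^ b) = (qB a ^^ qB b) := by
  rw [qB_add, img_perp hgg ha hb, Bool.xor_false]

theorem self_pair {n : ℕ} (hn : n < 256) : pB n (br g n) = qB (br g n) := by
  have h := qB_add n (br g n)
  rw [br, Nat.xor_comm (cd g n) n, ← Nat.xor_assoc, Nat.xor_self, Nat.zero_xor, cd_q g hn,
    Nat.xor_comm n (cd g n)] at h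
  rw [br]
  revert h
  cases qB n <;> cases qB (cd g n ^^^ n) <;> cases pB n (cd g n ^^^ n) <;> simp

theorem fix_cases (hg : g ∈ Om) (hgg : g * g = 1) :
    (fixSet g).card = 16 ∨ (fixSet g).card = 64 ∨ (fixSet g).card = 256 := by
  classical
  have h := fix_count hg
  have h1 : (imgSet g).card ≤ (fixSet g).card :=
    Finset.card_le_card fun l hl => mem_fixSet.mpr ⟨img_lt hl, img_fix hgg hl⟩
  have h2 := card_img_mul g
  simp only [List.mem_cons, List.not_mem_nil, or_false] at h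
  rcases h with e | e | e | e | e
  · rw [e] at h1 h2; omega
  · rw [e] at h1 h2; omega
  · exact Or.inl e
  · exact Or.inr (Or.inl e)
  · exact Or.inr (Or.inr e)

theorem fix_all (h : (fixSet g).card = 256) : g = 1 := cd_ext fun x hx => by
  have e : fixSet g = Finset.range 256 :=
    Finset.eq_of_subset_of_card_le (fun y hy => Finset.mem_range.mpr (mem_fixSet.mp hy).1) (by
      rw [h, Finset.card_range])
  rw [cd_one hx]
  exact (mem_fixSet.mp (e ▸ Finset.mem_range.mpr hx : x ∈ fixSet g)).2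

theorem br_conj (k g : O8) {x : ℕ} (hx : x < 256) : br (k * g * k⁻¹) x = cd k (br g (cd k⁻¹ x)) := by
  rw [br, br, cd_mul, cd_mul, cd_xor, cd_inv' k hx]

/-- An involution with changes of rank two is a radical element. -/
theorem inv_rad (hgg : g * g = 1) (h64 : (fixSet g).card = 64) :
    ∃ h ∈ Om, ∃ w, ∃ hw : w ∈ W, w ≠ 0 ∧ h * g * h⁻¹ = rhoE w hw := by
  classical
  have h4 : (imgSet g).card = 4 := by
    have := card_img_mul g
    rw [h64] at this
    omega
  obtain ⟨p, hp, hp0, hpq⟩ : ∃ p ∈ imgSet g, p ≠ 0 ∧ qB p = false := by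
    obtain ⟨a, ha, ha'⟩ := Finset.exists_mem_notMem_of_card_lt_card (s := {0}) (t := imgSet g) (by
      rw [h4]; simp)
    obtain ⟨b, hb, hb'⟩ := Finset.exists_mem_notMem_of_card_lt_card (s := {0, a}) (t := imgSet g) (by
      rw [h4]; exact lt_of_le_of_lt Finset.card_le_two (by norm_num))
    simp only [Finset.mem_singleton, Finset.mem_insert, not_or] at ha' hb'
    cases hqa : qB a
    · exact ⟨a, ha, ha', hqa⟩
    cases hqb : qB b
    · exact ⟨b, hb, hb'.1, hqb⟩
    refine ⟨a ^^^ b, img_xor ha hb, fun e => hb'.2 (xor_eq_zero'.mp e).symm, ?_⟩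
    rw [img_q hgg ha hb, hqa, hqb]; rfl
  obtain ⟨n, hn, rfl⟩ := mem_imgSet.mp hp
  have hrad : Rad g (br g n) := fun x hx hxp => by
    by_contra hne
    rw [not_or] at hne
    have hl : br g x ∈ imgSet g := mem_imgSet.mpr ⟨x, hx, rfl⟩
    have hall : ({0, br g n, br g x, br g n ^^^ br g x} : Finset ℕ) = imgSet g := by
      refine Finset.eq_of_subset_of_card_le (fun y hy => ?_) ?_
      · simp only [Finset.mem_insert, Finset.mem_singleton] at hy
        rcases hy with rfl | rfl | rfl | rfl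
        · exact mem_imgSet.mpr ⟨0, by norm_num, br_zero g⟩
        · exact hp
        · exact hl
        · exact img_xor hp hl
      · rw [h4]
        have d1 : (0 : ℕ) ≠ br g n := Ne.symm hp0
        have d2 : (0 : ℕ) ≠ br g x := Ne.symm hne.1
        have d3 : (0 : ℕ) ≠ br g n ^^^ br g x := fun e => hne.2 (xor_eq_zero'.mp e.symm).symm
        have d4 : br g n ≠ br g x := fun e => hne.2 e.symm
        have d5 : br g n ≠ br g n ^^^ br g x := fun e => hne.1 (by
          have := congrArg (br g n ^^^ ·) e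
          rw [Nat.xor_self, ← Nat.xor_assoc, Nat.xor_self, Nat.zero_xor] at this
          exact this.symm)
        have d6 : br g x ≠ br g n ^^^ br g x := fun e => hp0 (by
          have := congrArg (· ^^^ br g x) e
          simpa [Nat.xor_assoc] using this.symm)
        rw [Finset.card_insert_of_notMem (by simp [d1, d2, d3]), Finset.card_insert_of_notMem (by simp [d4, d5]),
          Finset.card_insert_of_notMem (by simp [d6]), Finset.card_singleton]
    obtain ⟨v, hv, hvp⟩ := nondeg_code _ (br_lt g hn) hp0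
    have hvl : v < 256 := (by decide : ∀ v ∈ [1, 2, 4, 8, 16, 32, 64, 128], v < 256) v hv
    have hz : pB n (br g n) = false := by rw [self_pair hn, hpq]
    have hlz : pB n (br g x) = false := by rw [← adj hgg hn hx, hxp]
    have hm : br g v ∈ ({0, br g n, br g x, br g n ^^^ br g x} : Finset ℕ) := hall ▸ mem_imgSet.mpr ⟨v, hvl, rfl⟩
    rw [adj hgg hn hvl] at hvp
    simp only [Finset.mem_insert, Finset.mem_singleton] at hm
    rcases hm with e | e | e | e <;> rw [e] at hvp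
    · rw [pB_comm, pB_zero] at hvp; exact Bool.false_ne_true hvp
    · rw [hz] at hvp; exact Bool.false_ne_true hvp
    · rw [hlz] at hvp; exact Bool.false_ne_true hvp
    · rw [pB_add_right (br_lt g hn) (br_lt g hx) hn, hz, hlz] at hvp; exact Bool.false_ne_true hvp
  obtain ⟨k, hk, hke⟩ := trans_sing (br_lt g hn) hp0 hpq
  have h2 := hrad.conj (br_lt g hn) k⁻¹
  have e1 : cd k⁻¹ (br g n) = 1 := by rw [← hke, cd_inv k (by norm_num)]
  rw [e1] at h2
  have h1 : cd (k⁻¹ * g * k⁻¹⁻¹) 1 = 1 := by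
    rw [inv_inv, cd_mul, cd_mul, hke, img_fix hgg hp, e1]
  obtain ⟨w, hw, he⟩ := rad_rho h1 h2
  have heq : k⁻¹ * g * k⁻¹⁻¹ = rhoE w hw := cd_ext fun x hx => by rw [he x hx, cd_rhoE hw hx]
  refine ⟨k⁻¹, inv_mem hk, w, hw, fun e => ?_, heq⟩
  subst e
  have : g = 1 := by
    have e2 : rhoE 0 hw = 1 := cd_ext fun x hx => by rw [cd_rhoE hw hx, rho_zero x hx, cd_one hx]
    rw [e2] at heq
    exact conj_eq_one_iff.mp heq
  rw [this, show fixSet (1 : O8) = Finset.range 256 from Finset.filter_true_of_mem fun x hx =>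
    cd_one (Finset.mem_range.mp hx), Finset.card_range] at h64
  norm_num at h64

/-- An element fixing the point carries radical elements as it carries vectors. -/
theorem rho_conj {m : O8} (h1 : cd m 1 = 1) {v w : ℕ} (hv : v ∈ W) (hw : w ∈ W) (e : cd m v = w) :
    m * rhoE v hv * m⁻¹ = rhoE w hw := by
  refine cd_ext fun x hx => ?_
  obtain ⟨y, hy, rfl⟩ : ∃ y < 256, x = cd m y := ⟨cd m⁻¹ x, cd_lt _ _, (cd_inv' m hx).symm⟩
  rw [cd_mul, cd_mul, cd_inv m hy, cd_rhoE hv hy, cd_rhoE hw hx, rho_formula v hv y hy,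
    rho_formula w hw _ hx, cd_xor, cd_xor, cd_bif, cd_bif, h1, e]
  have f1 : pB 1 (cd m y) = pB 1 y := by
    conv_lhs => rw [← h1]
    exact cd_p m (by norm_num) hy
  rw [f1, ← e, cd_p m (W_lt v hv).1 hy, cd_q m (W_lt v hv).1]

/-- Exact transitivity on singular codes orthogonal to the point. -/
theorem move_two {t : ℕ} (ht : t < 256) (hp : pB 1 t = false) (hq : qB t = false) (h0 : nr t ≠ 0) :
    ∃ m ∈ Om, cd m 1 = 1 ∧ cd m 2 = t := by
  obtain ⟨hn, hnq⟩ := nr_facts t ht hp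
  obtain ⟨m, hm, h1, e⟩ := trans_w35 (nr_mem t ht) (hnq.trans hq) h0
  have hl : cd m 2 ^^^ t = 0 ∨ cd m 2 ^^^ t = 1 := low_code _ (xor_lt (cd_lt m 2) ht)
    (by rw [pB_add_right (cd_lt m 2) ht (by norm_num), perp_cd h1 (by norm_num) (by decide), hp]; rfl)
    (by rw [nr_xor, show nr (cd m 2) = nr t from e, Nat.xor_self])
  rcases hl with e' | e'
  · exact ⟨m, hm, h1, xor_eq_zero'.mp e'⟩
  · have h32 : (32 : ℕ) ∈ W := by decide
    refine ⟨m * rhoE 32 h32, mul_mem hm (rhoE_mem h32), ?_, ?_⟩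
    · rw [cd_mul, cd_rhoE h32 (by norm_num), rho_one 32 h32, h1]
    · rw [cd_mul, cd_rhoE h32 (by norm_num), show rho 32 2 = 2 ^^^ 1 by decide, cd_xor, h1, ← e', ← Nat.xor_assoc,
        Nat.xor_self, Nat.zero_xor]

theorem rho_fixed {w : ℕ} (hw : w ∈ W) (h0 : w ≠ 0) {y : ℕ} (hy : y < 256) (h : rho w y = y) :
    pB 1 y = false ∧ pB w y = false := by
  have hp := rho_fix w hw y hy h0 (by rw [h, Nat.xor_self]; norm_num)
  refine ⟨hp, ?_⟩
  have e := rho_shift w hw y hy hp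
  rw [h, Nat.xor_self] at e
  obtain ⟨hl, hp', hn⟩ := W_lt w hw
  have e2 : pB (nr y) w = false := by
    cases hc : pB (nr y) w
    · rfl
    · rw [hc] at e; exact absurd e (by decide)
  rw [pB_comm, ← nr_p hy hl hp hp', hn]
  exact e2

/-- The element conjugate to the radical element of the code two. -/
noncomputable def tau (k : O8) : O8 := k * rhoE 2 two_one * k⁻¹

/-- A commuting product of two radical elements. -/
structure Split (g : O8) where
  h : O8
  h_mem : h ∈ Om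
  u : ℕ
  hu : u ∈ W
  u0 : u ≠ 0
  k : O8
  k_mem : k ∈ Om
  eq : h * g * h⁻¹ = rhoE u hu * tau k
  comm : Commute (rhoE u hu) (tau k)
  one_one : pB 1 (cd k⁻¹ 1) = false
  two_one' : pB 2 (cd k⁻¹ 1) = false
  one_u : pB 1 (cd k⁻¹ u) = false
  two_u : pB 2 (cd k⁻¹ u) = false
  indep : ∀ i ∈ [0, 1, u, u ^^^ 1], ∀ j ∈ [0, 1, 2, 3], i = cd k j → i = 0
  img_one : 1 ∈ imgSet (h * g * h⁻¹)
  img_u : u ∈ imgSet (h * g * h⁻¹)

theorem rho_two_br (x : ℕ) (hx : x < 256) :
    br (rhoE 2 two_one) x = (bif pB 1 x then 2 else 0) ^^^ (bif pB 2 x then 1 else 0) := by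
  rw [br, cd_rhoE two_one hx, rho_two x hx]

/-- Two singular changes with nonzero pairing. -/
theorem exists_pair (hgg : g * g = 1) (h16 : (fixSet g).card = 16) : ∃ p, p ∈ imgSet g ∧ qB p = false ∧ p ≠ 0 ∧
    ∃ v, v < 256 ∧ pB p v = true ∧ qB (br g v) = false := by
  classical
  have hL : (imgSet g).card = 16 := by
    have := card_img_mul g
    rw [h16] at this
    omega
  set S := (imgSet g).filter fun l => qB l = false ∧ l ≠ 0 with hS
  have hS2 : 1 < S.card := by
    by_contra hc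
    push Not at hc
    set N := (imgSet g).filter fun l => qB l = true with hN
    have hsub : imgSet g ⊆ insert 0 (S ∪ N) := fun l hl => by
      simp only [Finset.mem_insert, Finset.mem_union, hS, hN, Finset.mem_filter]
      rcases eq_or_ne l 0 with e | e
      · exact Or.inl e
      · cases hq : qB l
        · exact Or.inr (Or.inl ⟨hl, rfl, e⟩)
        · exact Or.inr (Or.inr ⟨hl, rfl⟩)
    have hN2 : N.card ≤ S.card + 1 := by
      rcases N.eq_empty_or_nonempty with e | ⟨x, hx⟩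
      · simp [e]
      refine (Finset.card_le_card_of_injOn (fun y => x ^^^ y) (t := insert 0 S) (fun y hy => ?_)
        (fun a _ b _ e => Nat.xor_right_inj.mp e)).trans (Finset.card_insert_le _ _)
      simp only [hN, Finset.coe_filter, Set.mem_setOf_eq] at hy
      obtain ⟨hx1, hx2⟩ := Finset.mem_filter.mp hx
      simp only [Finset.coe_insert, Set.mem_insert_iff, hS, Finset.coe_filter, Set.mem_setOf_eq]
      rcases eq_or_ne (x ^^^ y) 0 with e | e
      · exact Or.inl e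
      · exact Or.inr ⟨img_xor hx1 hy.1, by rw [img_q hgg hx1 hy.1, hx2, hy.2]; rfl, e⟩
    have := (Finset.card_le_card hsub).trans ((Finset.card_insert_le _ _).trans (by
      have := Finset.card_union_le S N
      omega : _ ≤ S.card + (S.card + 1) + 1))
    omega
  obtain ⟨p1, hp1, p2, hp2, hne⟩ := Finset.one_lt_card.mp hS2
  obtain ⟨p1i, p1q, p10⟩ := Finset.mem_filter.mp hp1
  obtain ⟨p2i, p2q, p20⟩ := Finset.mem_filter.mp hp2
  by_contra hcon
  push Not at hcon
  have h1 : ∀ v < 256, pB p1 v = true → qB (br g v) = true := fun v hv e => by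
    simpa using hcon p1 p1i p1q p10 v hv e
  have h2 : ∀ v < 256, pB p2 v = true → qB (br g v) = true := fun v hv e => by
    simpa using hcon p2 p2i p2q p20 v hv e
  have h3 : ∀ v < 256, pB (p1 ^^^ p2) v = true → qB (br g v) = true := fun v hv e => by
    simpa using hcon _ (img_xor p1i p2i) (by rw [img_q hgg p1i p2i, p1q, p2q]; rfl)
      (fun e' => hne (xor_eq_zero'.mp e')) v hv e
  have lt8 : ∀ v ∈ [1, 2, 4, 8, 16, 32, 64, 128], v < 256 := by decide
  obtain ⟨a, ha, ea⟩ := nondeg_code p1 (img_lt p1i) p10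
  obtain ⟨b, hb, eb⟩ := nondeg_code p2 (img_lt p2i) p20
  obtain ⟨c, hc, ec⟩ := nondeg_code _ (xor_lt (img_lt p1i) (img_lt p2i)) (fun e' => hne (xor_eq_zero'.mp e'))
  have la := lt8 a ha
  have lb := lt8 b hb
  have lc := lt8 c hc
  -- a vector pairing to one with each of two of the three codes
  have key : ∀ x < 256, ∀ y < 256, qB (br g x) = true → qB (br g y) = true → qB (br g (x ^^^ y)) = false :=
    fun x hx y hy e1 e2 => by
      rw [br_xor, img_q hgg (mem_imgSet.mpr ⟨x, hx, rfl⟩) (mem_imgSet.mpr ⟨y, hy, rfl⟩), e1, e2]; rfl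
  have hsum : ∀ x < 256, (pB p1 x ^^ pB p2 x) = pB (p1 ^^^ p2) x := fun x hx =>
    (pB_add_left (img_lt p1i) (img_lt p2i) hx).symm
  have bad : ∀ x < 256, qB (br g x) = false → pB p1 x = false ∧ pB p2 x = false := fun x hx e => by
    constructor <;> rw [← Bool.not_eq_true] <;> intro e'
    · exact Bool.false_ne_true (e.symm.trans (h1 x hx e'))
    · exact Bool.false_ne_true (e.symm.trans (h2 x hx e'))
  have qa := h1 a la ea
  have qb := h2 b lb eb
  have qc := h3 c lc ec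
  have ab := bad _ (xor_lt la lb) (key a la b lb qa qb)
  have ac := bad _ (xor_lt la lc) (key a la c lc qa qc)
  rw [pB_add_right la lb (img_lt p1i), pB_add_right la lb (img_lt p2i), ea, eb] at ab
  rw [pB_add_right la lc (img_lt p1i), pB_add_right la lc (img_lt p2i), ea] at ac
  have := hsum c lc
  rw [ec] at this
  revert ab ac this
  cases pB p1 b <;> cases pB p2 a <;> cases pB p1 c <;> cases pB p2 c <;> simp

/-- An involution with changes of rank four moved to have the codes one and two among its changes. -/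
theorem exists_normal (hg : g ∈ Om) (hgg : g * g = 1) (h16 : (fixSet g).card = 16) :
    ∃ c ∈ Om, ∃ g1, g1 = c⁻¹ * g * c⁻¹⁻¹ ∧ g1 ∈ Om ∧ g1 * g1 = 1 ∧ (imgSet g1).card = 16 ∧ (fixSet g1).card = 16 ∧
      1 ∈ imgSet g1 ∧ 2 ∈ imgSet g1 ∧ ∃ n < 256, br g1 n = 1 ∧ pB n 2 = true := by
  classical
  have hL : (imgSet g).card = 16 := by
    have := card_img_mul g
    rw [h16] at this
    omega
  obtain ⟨p, hpi, hpq, hp0, v, hv, hv1, hv0⟩ := exists_pair hgg h16
  set p' := br g v with hp'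
  have hp'i : p' ∈ imgSet g := mem_imgSet.mpr ⟨v, hv, rfl⟩
  obtain ⟨n, hn, hne1⟩ := mem_imgSet.mp hpi
  have hnp' : pB n p' = true := by rw [hp', ← adj hgg hn hv, hne1, hv1]
  obtain ⟨g0, hg0, e0⟩ := trans_sing (img_lt hpi) hp0 hpq
  have e0' : cd g0⁻¹ p = 1 := by rw [← e0, cd_inv g0 (by norm_num)]
  obtain ⟨m, hm, m1, m2⟩ := move_two (t := cd g0⁻¹ p') (cd_lt _ _)
    (by rw [← e0', cd_p _ (img_lt hpi) (img_lt hp'i), img_perp hgg hpi hp'i])
    (by rw [cd_q _ (img_lt hp'i)]; exact hv0)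
    (fun e => by
      rcases low_code _ (cd_lt g0⁻¹ p') (by rw [← e0', cd_p _ (img_lt hpi) (img_lt hp'i), img_perp hgg hpi hp'i]) e with r | r
      · have : p' = 0 := by rw [← cd_inv' g0 (img_lt hp'i), r, cd_zero]
        rw [this, pB_comm, pB_zero] at hnp'; exact Bool.false_ne_true hnp'
      · have : p' = p := by rw [← cd_inv' g0 (img_lt hp'i), r, e0]
        rw [this, ← hne1, self_pair hn, hne1, hpq] at hnp'; exact Bool.false_ne_true hnp')
  set c := g0 * m with hc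
  have hcm : c ∈ Om := mul_mem hg0 hm
  have c1 : cd c 1 = p := by rw [hc, cd_mul, m1, e0]
  have c2 : cd c 2 = p' := by rw [hc, cd_mul, m2, cd_inv' g0 (img_lt hp'i)]
  have c1' : cd c⁻¹ p = 1 := by rw [← c1, cd_inv c (by norm_num)]
  have c2' : cd c⁻¹ p' = 2 := by rw [← c2, cd_inv c (by norm_num)]
  obtain ⟨g1, hg1⟩ : ∃ x, x = c⁻¹ * g * c⁻¹⁻¹ := ⟨_, rfl⟩
  have g1m : g1 ∈ Om := hg1 ▸ mul_mem (mul_mem (inv_mem hcm) hg) (inv_mem (inv_mem hcm))
  have g1g1 : g1 * g1 = 1 := by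
    rw [hg1, show c⁻¹ * g * c⁻¹⁻¹ * (c⁻¹ * g * c⁻¹⁻¹) = c⁻¹ * (g * g) * c by group, hgg, mul_one, inv_mul_cancel]
  have b1 : ∀ x < 256, br g1 x = cd c⁻¹ (br g (cd c x)) := fun x hx => by rw [hg1, br_conj _ _ hx, inv_inv]
  have hn1 : br g1 (cd c⁻¹ n) = 1 := by rw [b1 _ (cd_lt _ _), cd_inv' c hn, hne1, c1']
  have hn2 : br g1 (cd c⁻¹ v) = 2 := by rw [b1 _ (cd_lt _ _), cd_inv' c hv, ← hp', c2']
  have hn12 : pB (cd c⁻¹ n) 2 = true := by
    have h := cd_p c⁻¹ hn (img_lt hp'i)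
    rw [c2', hnp'] at h
    exact h
  have i1 : 1 ∈ imgSet g1 := mem_imgSet.mpr ⟨_, cd_lt _ _, hn1⟩
  have i2 : 2 ∈ imgSet g1 := mem_imgSet.mpr ⟨_, cd_lt _ _, hn2⟩
  have L1 : (imgSet g1).card = 16 := by
    rw [← hL]
    refine Finset.card_nbij' (cd c) (cd c⁻¹) (fun a ha => ?_) (fun a ha => ?_) (fun a ha => ?_) (fun a ha => ?_)
    · obtain ⟨x, hx, rfl⟩ := mem_imgSet.mp (Finset.mem_coe.mp ha)
      exact mem_imgSet.mpr ⟨cd c x, cd_lt _ _, by rw [b1 x hx, cd_inv' c (br_lt g (cd_lt _ _))]⟩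
    · obtain ⟨x, hx, rfl⟩ := mem_imgSet.mp (Finset.mem_coe.mp ha)
      exact mem_imgSet.mpr ⟨cd c⁻¹ x, cd_lt _ _, by rw [b1 _ (cd_lt _ _), cd_inv' c hx]⟩
    · exact cd_inv c (img_lt (Finset.mem_coe.mp ha))
    · exact cd_inv' c (img_lt (Finset.mem_coe.mp ha))
  have F1 : (fixSet g1).card = 16 := by
    have := card_img_mul g1
    rw [L1] at this
    omega
  exact ⟨c, hcm, g1, hg1, g1m, g1g1, L1, F1, i1, i2, cd c⁻¹ n, cd_lt _ _, hn1, hn12⟩

/-- The decomposition of a normalised involution. -/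
theorem normal_decomp {g1 : O8} (g1m : g1 ∈ Om) (g1g1 : g1 * g1 = 1) (L1 : (imgSet g1).card = 16)
    (F1 : (fixSet g1).card = 16) (i1 : 1 ∈ imgSet g1) (i2 : 2 ∈ imgSet g1) {n1 : ℕ} (hn : n1 < 256)
    (hn1 : br g1 n1 = 1) (hn12 : pB n1 2 = true) :
    ∃ k ∈ Om, ∃ w, ∃ hw : w ∈ W, w ≠ 0 ∧ g1 = rhoE 2 two_one * (k * rhoE w hw * k⁻¹) ∧
      Commute (rhoE 2 two_one) (k * rhoE w hw * k⁻¹) ∧
      (∀ i ∈ [0, 1, 2, 3], ∀ j ∈ [0, 1, w, w ^^^ 1], i = cd k j → i = 0) ∧
      (∀ j ∈ [0, 1, w, w ^^^ 1], cd k j ∈ imgSet g1) ∧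
      pB 1 (cd k⁻¹ 1) = false ∧ pB w (cd k⁻¹ 1) = false ∧ pB 1 (cd k⁻¹ 2) = false ∧ pB w (cd k⁻¹ 2) = false := by
  classical
  set r := rhoE 2 two_one with hr
  have p1' : ∀ x < 256, pB 1 (cd g1 x) = pB 1 x ∧ pB 2 (cd g1 x) = pB 2 x := fun x hx => by
    constructor
    · conv_lhs => rw [← img_fix g1g1 i1]
      exact cd_p g1 (by norm_num) hx
    · conv_lhs => rw [← img_fix g1g1 i2]
      exact cd_p g1 (by norm_num) hx
  have rcd : ∀ x < 256, cd r x = x ^^^ ((bif pB 1 x then 2 else 0) ^^^ (bif pB 2 x then 1 else 0)) := fun x hx => by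
    rw [← rho_two_br x hx, br, Nat.xor_comm (cd r x) x, ← Nat.xor_assoc, Nat.xor_self, Nat.zero_xor]
  have hcr : Commute r g1 := cd_ext fun x hx => by
    rw [cd_mul, cd_mul, rcd _ (cd_lt _ _), rcd x hx, cd_xor, cd_xor, cd_bif, cd_bif, img_fix g1g1 i1,
      img_fix g1g1 i2, (p1' x hx).1, (p1' x hx).2]
  have rr : r * r = 1 := rhoE_sq two_one
  obtain ⟨X, hX⟩ : ∃ x, x = r * g1 := ⟨_, rfl⟩
  have Xm : X ∈ Om := hX ▸ mul_mem (rhoE_mem two_one) g1m
  have XX : X * X = 1 := by rw [hX, hcr.symm.mul_mul_mul_comm, rr, g1g1, mul_one]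
  have bX : ∀ x < 256, br X x = br g1 x ^^^ ((bif pB 1 x then 2 else 0) ^^^ (bif pB 2 x then 1 else 0)) := fun x hx => by
    rw [hX, br, br, cd_mul, rcd _ (cd_lt _ _), (p1' x hx).1, (p1' x hx).2, Nat.xor_assoc,
      Nat.xor_comm ((bif pB 1 x then 2 else 0) ^^^ _) x, ← Nat.xor_assoc]
  have hXfix : 16 < (fixSet X).card := by
    refine lt_of_lt_of_le ?_ (Finset.card_le_card (show insert (n1) (fixSet g1) ⊆ fixSet X from fun x hx => ?_))
    · rw [Finset.card_insert_of_notMem fun h => ?_, F1]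
      · norm_num
      · have := (mem_fixSet.mp h).2
        rw [← br_eq_zero, hn1] at this
        exact absurd this one_ne_zero
    · rcases Finset.mem_insert.mp hx with e | hx
      · rw [e]
        refine mem_fixSet.mpr ⟨hn, br_eq_zero.mp ?_⟩
        have e1 : pB 1 (n1) = false := by
          rw [pB_comm]; conv_lhs => rw [← hn1]
          rw [self_pair hn, hn1]; decide
        rw [bX _ hn, hn1, e1, pB_comm 2, hn12]; decide
      · obtain ⟨hxl, hxf⟩ := mem_fixSet.mp hx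
        refine mem_fixSet.mpr ⟨hxl, br_eq_zero.mp ?_⟩
        have hi : x ∈ imgSet g1 := by
          have hsub : imgSet g1 ⊆ fixSet g1 := fun l hl => mem_fixSet.mpr ⟨img_lt hl, img_fix g1g1 hl⟩
          rw [Finset.eq_of_subset_of_card_le hsub (by rw [L1, F1])]
          exact hx
        rw [bX x hxl, br_eq_zero.mpr hxf, img_perp g1g1 i1 hi, img_perp g1g1 i2 hi]; rfl
  have hX1 : X ≠ 1 := fun e => by
    have hsub : imgSet g1 ⊆ ([0, 1, 2, 3] : List ℕ).toFinset := fun l hl => by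
      obtain ⟨x, hx, rfl⟩ := mem_imgSet.mp hl
      have := bX x hx
      rw [show br X x = 0 by rw [e, br, cd_one hx, Nat.xor_self]] at this
      rw [xor_eq_zero'.mp this.symm, List.mem_toFinset]
      cases pB 1 x <;> cases pB 2 x <;> decide
    have := (Finset.card_le_card hsub).trans (List.toFinset_card_le _)
    rw [L1] at this
    norm_num at this
  obtain ⟨k0, hk0, w, hw, hw0, hkw⟩ : ∃ h ∈ Om, ∃ w, ∃ hw : w ∈ W, w ≠ 0 ∧ h * X * h⁻¹ = rhoE w hw := by
    refine inv_rad XX ?_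
    rcases fix_cases Xm XX with e | e | e
    · omega
    · exact e
    · exact absurd (fix_all e) hX1
  set k := k0⁻¹ with hk
  have Xk : X = k * rhoE w hw * k⁻¹ := by rw [← hkw, hk]; group
  have g1X : g1 = r * X := by rw [hX, ← mul_assoc, rr, one_mul]
  have hcX : Commute r X := by rw [hX]; exact (Commute.refl r).mul_right hcr
  set S2 := (([0, 1, 2, 3] : List ℕ).toFinset ×ˢ ([0, 1, w, w ^^^ 1] : List ℕ).toFinset) with hS2'
  have hsub : imgSet g1 ⊆ S2.image (fun t => t.1 ^^^ cd k t.2) := fun l hl => by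
    obtain ⟨x, hx, rfl⟩ := mem_imgSet.mp hl
    have h1 := bX x hx
    have h2 : br X x = cd k (br (rhoE w hw) (cd k⁻¹ x)) := by rw [Xk, br_conj _ _ hx]
    refine Finset.mem_image.mpr ⟨((bif pB 1 x then 2 else 0) ^^^ (bif pB 2 x then 1 else 0),
      br (rhoE w hw) (cd k⁻¹ x)), Finset.mem_product.mpr ⟨?_, ?_⟩, ?_⟩
    · rw [List.mem_toFinset]; cases pB 1 x <;> cases pB 2 x <;> simp
    · rw [List.mem_toFinset, br, cd_rhoE hw (cd_lt _ _)]
      exact rho_image w hw _ (cd_lt _ _)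
    · show _ ^^^ cd k _ = _
      rw [← h2, h1, Nat.xor_comm (br g1 x), ← Nat.xor_assoc, Nat.xor_self, Nat.zero_xor]
  have hcard : S2.card ≤ 16 := by
    rw [hS2', Finset.card_product]
    exact le_trans (Nat.mul_le_mul (List.toFinset_card_le _) (List.toFinset_card_le _)) (by norm_num)
  have hinj : Set.InjOn (fun t : ℕ × ℕ => t.1 ^^^ cd k t.2) S2 := by
    refine Finset.card_image_iff.mp (le_antisymm Finset.card_image_le ?_)
    exact hcard.trans (L1 ▸ Finset.card_le_card hsub)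
  have heqS : imgSet g1 = S2.image (fun t => t.1 ^^^ cd k t.2) :=
    Finset.eq_of_subset_of_card_le hsub (by rw [L1]; exact Finset.card_image_le.trans hcard)
  have hind : ∀ i ∈ [0, 1, 2, 3], ∀ j ∈ [0, 1, w, w ^^^ 1], i = cd k j → i = 0 := fun i hi j hj e => by
    have := hinj (x₁ := (i, 0)) (x₂ := (0, j))
      (Finset.mem_coe.mpr (Finset.mem_product.mpr ⟨List.mem_toFinset.mpr hi, by simp⟩))
      (Finset.mem_coe.mpr (Finset.mem_product.mpr ⟨by simp, List.mem_toFinset.mpr hj⟩))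
      (by show i ^^^ cd k 0 = 0 ^^^ cd k j; rw [cd_zero, Nat.xor_zero, Nat.zero_xor, e])
    exact congrArg Prod.fst this
  have hXfixc : ∀ e ∈ imgSet g1, cd r e = e → rho w (cd k⁻¹ e) = cd k⁻¹ e := fun e he hre => by
    have h1 := img_fix g1g1 he
    rw [g1X, hcX.eq, cd_mul, hre, Xk, cd_mul, cd_mul, cd_rhoE hw (cd_lt _ _)] at h1
    conv_rhs => rw [← h1, cd_inv k (by rw [← cd_rhoE hw (cd_lt _ _)]; exact cd_lt _ _)]
  obtain ⟨o1, o1'⟩ := rho_fixed hw hw0 (cd_lt _ _) (hXfixc 1 i1 (by rw [rcd 1 (by norm_num)]; decide))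
  obtain ⟨o2, o2'⟩ := rho_fixed hw hw0 (cd_lt _ _) (hXfixc 2 i2 (by rw [rcd 2 (by norm_num)]; decide))
  have hkm : k ∈ Om := inv_mem hk0
  refine ⟨k, hkm, w, hw, hw0, by rw [g1X, Xk], by rw [← Xk]; exact hcX, hind, fun j hj => ?_, o1, o1', o2, o2'⟩
  rw [heqS]
  exact Finset.mem_image.mpr ⟨(0, j), Finset.mem_product.mpr ⟨by simp, List.mem_toFinset.mpr hj⟩, Nat.zero_xor _⟩

/-- An involution with changes of rank four is a commuting product of two radical elements. -/
theorem exists_split (hg : g ∈ Om) (hgg : g * g = 1) (h16 : (fixSet g).card = 16) : Nonempty (Split g) := by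
  classical
  obtain ⟨c, hcm, g1, hg1, g1m, g1g1, L1, F1, i1, i2, n1, hn, hn1, hn12⟩ := exists_normal hg hgg h16
  obtain ⟨k, hkm, w, hw, hw0, hg1', hcX, hind, hki, o1, o1', o2, o2'⟩ :=
    normal_decomp g1m g1g1 L1 F1 i1 i2 hn hn1 hn12
  cases hqw : qB w
  · obtain ⟨m', hm', m1', m2'⟩ := move_two (W_lt w hw).1 (W_lt w hw).2.1 hqw (by rw [(W_lt w hw).2.2]; exact hw0)
    have hmr : m' * rhoE 2 two_one * m'⁻¹ = rhoE w hw := rho_conj m1' two_one hw m2'
    have hkm' : ∀ y < 256, cd (k * m')⁻¹ y = cd m'⁻¹ (cd k⁻¹ y) := fun y _ => by rw [mul_inv_rev, cd_mul]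
    have q1 : ∀ y < 256, pB 1 (cd m'⁻¹ y) = pB 1 y ∧ pB 2 (cd m'⁻¹ y) = pB w y := fun y hy => by
      constructor
      · have h := cd_p m'⁻¹ (by norm_num : 1 < 256) hy
        rwa [inv_one' m1'] at h
      · have h := cd_p m'⁻¹ (W_lt w hw).1 hy
        rwa [show cd m'⁻¹ w = 2 by rw [← m2', cd_inv m' (by norm_num)]] at h
    have hg' : c⁻¹ * g * c⁻¹⁻¹ = rhoE 2 two_one * tau (k * m') := by
      rw [← hg1, tau, show k * m' * rhoE 2 two_one * (k * m')⁻¹ = k * (m' * rhoE 2 two_one * m'⁻¹) * k⁻¹ by group,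
        hmr, ← hg1']
    refine ⟨{
      h := c⁻¹, h_mem := inv_mem hcm, u := 2, hu := two_one, u0 := (by norm_num), k := k * m',
      k_mem := mul_mem hkm hm', eq := hg', comm := ?_, one_one := ?_, two_one' := ?_, one_u := ?_, two_u := ?_,
      indep := ?_, img_one := ?_, img_u := ?_ }⟩
    · rw [tau, show k * m' * rhoE 2 two_one * (k * m')⁻¹ = k * (m' * rhoE 2 two_one * m'⁻¹) * k⁻¹ by group, hmr]
      exact hcX
    · rw [hkm' 1 (by norm_num), (q1 _ (cd_lt _ _)).1, o1]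
    · rw [hkm' 1 (by norm_num), (q1 _ (cd_lt _ _)).2, o1']
    · rw [hkm' 2 (by norm_num), (q1 _ (cd_lt _ _)).1, o2]
    · rw [hkm' 2 (by norm_num), (q1 _ (cd_lt _ _)).2, o2']
    · intro i hi j hj e
      have hj' : cd m' j ∈ [0, 1, w, w ^^^ 1] := by
        simp only [List.mem_cons, List.not_mem_nil, or_false] at hj
        rcases hj with rfl | rfl | rfl | rfl
        · simp [cd_zero]
        · simp [m1']
        · simp [m2']
        · rw [show (3 : ℕ) = 2 ^^^ 1 from rfl, cd_xor, m1', m2']; simp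
      rw [cd_mul] at e
      refine hind i ?_ _ hj' e
      simp only [List.mem_cons, List.not_mem_nil, or_false] at hi ⊢
      rcases hi with rfl | rfl | rfl | rfl <;> simp
    · exact hg1 ▸ i1
    · exact hg1 ▸ i2
  · have hg' : (c * k)⁻¹ * g * (c * k)⁻¹⁻¹ = rhoE w hw * tau k⁻¹ := by
      have e1 : g1 = k * rhoE w hw * k⁻¹ * rhoE 2 two_one := hg1'.trans hcX.eq
      rw [tau, inv_inv, show (c * k)⁻¹ * g * (c * k) = k⁻¹ * (c⁻¹ * g * c⁻¹⁻¹) * k by group, ← hg1, e1]
      group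
    have hb : ∀ x < 256, br ((c * k)⁻¹ * g * (c * k)⁻¹⁻¹) x = cd k⁻¹ (br g1 (cd k x)) := fun x hx => by
      rw [show (c * k)⁻¹ * g * (c * k)⁻¹⁻¹ = k⁻¹ * g1 * k⁻¹⁻¹ by rw [hg1]; group, br_conj _ _ hx, inv_inv]
    have him : ∀ j ∈ [0, 1, w, w ^^^ 1], j < 256 → j ∈ imgSet ((c * k)⁻¹ * g * (c * k)⁻¹⁻¹) := fun j hj hjl => by
      have : cd k j ∈ imgSet g1 := hki j hj
      obtain ⟨x, hx, hxe⟩ := mem_imgSet.mp this
      exact mem_imgSet.mpr ⟨cd k⁻¹ x, cd_lt _ _, by rw [hb _ (cd_lt _ _), cd_inv' k hx, hxe, cd_inv k hjl]⟩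
    have hwl := (W_lt w hw).1
    refine ⟨{
      h := (c * k)⁻¹, h_mem := inv_mem (mul_mem hcm hkm), u := w, hu := hw, u0 := hw0, k := k⁻¹,
      k_mem := inv_mem hkm, eq := hg', comm := ?_, one_one := ?_, two_one' := ?_, one_u := ?_, two_u := ?_,
      indep := ?_, img_one := him 1 (by simp) (by norm_num), img_u := him w (by simp) hwl }⟩
    · rw [tau, inv_inv]
      have := (Commute.conj_iff k⁻¹).mpr hcX.symm
      rw [inv_inv] at this
      rw [show k⁻¹ * (k * rhoE w hw * k⁻¹) * k = rhoE w hw by group] at this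
      exact this
    · rw [inv_inv, pB_comm, ← cd_p k⁻¹ (cd_lt _ _) (by norm_num : 1 < 256), cd_inv k (by norm_num)]
      exact o1
    · rw [inv_inv, ← cd_p k⁻¹ (by norm_num : 2 < 256) (cd_lt _ _), cd_inv k (by norm_num), pB_comm]
      exact o2
    · rw [inv_inv, pB_comm, ← cd_p k⁻¹ (cd_lt _ _) (by norm_num : 1 < 256), cd_inv k hwl]
      exact o1'
    · rw [inv_inv, ← cd_p k⁻¹ (by norm_num : 2 < 256) (cd_lt _ _), cd_inv k hwl, pB_comm]
      exact o2'
    · intro i hi j hj e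
      have hil : i < 256 := by
        simp only [List.mem_cons, List.not_mem_nil, or_false] at hi
        rcases hi with rfl | rfl | rfl | rfl
        · norm_num
        · norm_num
        · exact hwl
        · exact xor_lt hwl (by norm_num)
      have hjl : j < 256 := (by decide : ∀ j ∈ [0, 1, 2, 3], j < 256) j hj
      have e' : j = cd k i := by rw [e, cd_inv' k hjl]
      have := hind j hj i hi e'
      rw [e, this, cd_zero]


end Cfsg.Lib.ConwayType
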